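import Groth.Agent.FEtQuot.Fiber
import Mathlib.CategoryTheory.Galois.IsFundamentalgroup
import Mathlib.CategoryTheory.Galois.Equivalence
import Mathlib.FieldTheory.AbsoluteGaloisGroup
import Mathlib.FieldTheory.Galois.Profinite
import Mathlib.FieldTheory.PurelyInseparable.PerfectClosure
import Mathlib.RingTheory.Etale.Field
import Mathlib.RingTheory.Artinian.Ring

/-!
# Finite étale covers of a field and the absolute Galois group
-/

set_option autoImplicit false
set_option linter.style.haveILetI false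
set_option backward.isDefEq.respectTransparency.types false
universe u

namespace Groth.Agent.FEtQuot
open CategoryTheory CategoryTheory.Limits AlgebraicGeometry TopologicalSpace Opposite

variable (K : Type u) [Field K]

local notation "Ω" => AlgebraicClosure K
local notation "S" => Spec (CommRingCat.of K)

/-- The standard geometric point. -/
noncomputable abbrev ξK : Spec (CommRingCat.of Ω) ⟶ S := Spec.map (CommRingCat.ofHom (algebraMap K Ω))

/-- The induced automorphism of `Spec` of the algebraic closure. -/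
noncomputable def specGal (g : Ω ≃ₐ[K] Ω) : Spec (CommRingCat.of Ω) ⟶ Spec (CommRingCat.of Ω) :=
  Spec.map (CommRingCat.ofHom g.toAlgHom.toRingHom)

theorem specGal_ξ (g : Ω ≃ₐ[K] Ω) : specGal K g ≫ ξK K = ξK K := by
  rw [specGal, ← Spec.map_comp]
  congr 1
  ext r
  exact g.commutes r

theorem specGal_mul (g h : Ω ≃ₐ[K] Ω) : specGal K (g * h) = specGal K g ≫ specGal K h := by
  rw [specGal, specGal, specGal, ← Spec.map_comp]
  rfl

/-- The fibre functor at the standard point. -/
noncomputable abbrev FK : FEt.Cat S ⥤ FintypeCat.{u} := fiberFin (ξK K)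

noncomputable instance mulActionFiber (Y : FEt.Cat S) : MulAction (Field.absoluteGaloisGroup K) ((FK K).obj Y) where
  smul g s := (⟨specGal K g ≫ (s : FEt.fiberObj (ξK K) Y).1,
    by rw [Category.assoc, (s : FEt.fiberObj (ξK K) Y).2, specGal_ξ]⟩ : FEt.fiberObj (ξK K) Y)
  one_smul s := Subtype.ext (by
    show specGal K 1 ≫ _ = _
    rw [specGal, show CommRingCat.ofHom ((1 : Ω ≃ₐ[K] Ω).toAlgHom.toRingHom) = 𝟙 _ from rfl, Spec.map_id]
    exact Category.id_comp _)
  mul_smul g h s := Subtype.ext (by
    exact (congrArg (· ≫ (s : FEt.fiberObj (ξK K) Y).1) (specGal_mul K g h)).trans (Category.assoc _ _ _))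

instance : PreGaloisCategory.IsNaturalSMul (FK K) (Field.absoluteGaloisGroup K) where
  naturality g _ _ f x := Subtype.ext (Category.assoc _ _ _)

instance : ConnectedSpace S := inferInstanceAs (ConnectedSpace (PrimeSpectrum K))

theorem eq_of_fix_separable (g : Ω ≃ₐ[K] Ω) (h : ∀ x : Ω, IsSeparable K x → g x = x) : g = 1 := by
  refine AlgEquiv.ext fun x => ?_
  obtain ⟨n, hn⟩ := IsPurelyInseparable.pow_mem (separableClosure K Ω) (ringExpChar Ω) x
  obtain ⟨z, hz⟩ := hn
  haveI : ExpChar Ω (ringExpChar Ω) := inferInstance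
  refine iterateFrobenius_inj Ω (ringExpChar Ω) n ?_
  rw [iterateFrobenius_def, iterateFrobenius_def, ← map_pow, AlgEquiv.one_apply, ← hz]
  exact h _ (mem_separableClosure_iff.mp z.2)

instance compactSpace_absoluteGaloisGroup : CompactSpace (Field.absoluteGaloisGroup K) := by
  let P := perfectClosure K Ω
  haveI : Algebra.IsAlgebraic P Ω := Algebra.IsAlgebraic.tower_top (K := K) P
  haveI : IsGalois P Ω := { }
  let r : (Ω ≃ₐ[P] Ω) → (Ω ≃ₐ[K] Ω) := fun g => g.restrictScalars K
  have hr : Continuous r := by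
    refine continuous_of_continuousAt_one (MonoidHom.mk' r fun a b => rfl) ?_
    rw [ContinuousAt, map_one, Filter.tendsto_def]
    intro A hA
    obtain ⟨E, hE, hsub⟩ := (krullTopology_mem_nhds_one_iff K Ω A).mp hA
    let b := Module.finBasis K E
    let E' : IntermediateField P Ω := IntermediateField.adjoin P (Set.range fun i => (b i : Ω))
    haveI : FiniteDimensional P E' := IntermediateField.finiteDimensional_adjoin fun x _ => Algebra.IsIntegral.isIntegral x
    refine Filter.mem_of_superset ((krullTopology_mem_nhds_one_iff P Ω _).mpr ⟨E', inferInstance, subset_rfl⟩) ?_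
    intro g hg
    refine hsub ((IntermediateField.mem_fixingSubgroup_iff _ _).mpr fun x hx => ?_)
    have e : ((g.restrictScalars K).toAlgHom.comp E.val).toLinearMap = E.val.toLinearMap :=
      b.ext fun i => (IntermediateField.mem_fixingSubgroup_iff _ _).mp hg _ (IntermediateField.subset_adjoin P _ ⟨i, rfl⟩)
    exact LinearMap.congr_fun e ⟨x, hx⟩
  have hs : Function.Surjective r := fun g => by
    refine ⟨{ (g : Ω ≃+* Ω) with commutes' := fun p => ?_ }, AlgEquiv.ext fun x => rfl⟩
    haveI : ExpChar K (ringExpChar Ω) := RingHom.expChar (algebraMap K Ω) (algebraMap K Ω).injective _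
    obtain ⟨n, z, hz⟩ := IsPurelyInseparable.pow_mem K (ringExpChar Ω) p
    refine iterateFrobenius_inj Ω (ringExpChar Ω) n ?_
    rw [iterateFrobenius_def, iterateFrobenius_def]
    have h1 : algebraMap K Ω z = (algebraMap P Ω p) ^ (ringExpChar Ω ^ n) := by
      rw [← map_pow, ← hz, ← IsScalarTower.algebraMap_apply]
    show (g (algebraMap P Ω p)) ^ (ringExpChar Ω ^ n) = _
    rw [← map_pow, ← h1]
    exact g.commutes z
  exact hs.compactSpace hr

theorem discreteTopology_left (Y : FEt.Cat S) : DiscreteTopology Y.left := by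
  haveI : IsAffine ((Functor.fromPUnit S).obj Y.right) := inferInstanceAs (IsAffine S)
  haveI : IsAffine Y.left := isAffine_of_isAffineHom (Y.hom : Y.left ⟶ S)
  let φ : CommRingCat.of K ⟶ Γ(Y.left, ⊤) := Spec.preimage (Y.left.isoSpec.inv ≫ Y.hom)
  letI : Algebra K Γ(Y.left, ⊤) := φ.hom.toAlgebra
  haveI : Module.Finite K Γ(Y.left, ⊤) := by
    have : IsFinite (Spec.map φ) := by rw [Spec.map_preimage]; infer_instance
    exact RingHom.finite_algebraMap.mp ((IsFinite.SpecMap_iff _).mp this)
  haveI : IsArtinianRing Γ(Y.left, ⊤) := IsArtinianRing.of_finite K _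
  haveI : DiscreteTopology (Spec Γ(Y.left, ⊤)) := inferInstanceAs (DiscreteTopology (PrimeSpectrum Γ(Y.left, ⊤)))
  exact Y.left.isoSpec.hom.homeomorph.isEmbedding.discreteTopology

theorem stabilizer_mem_nhds (Y : FEt.Cat S) (s : (FK K).obj Y) :
    ∃ E : IntermediateField K Ω, FiniteDimensional K E ∧
      E.fixingSubgroup ≤ (MulAction.stabilizer (Field.absoluteGaloisGroup K) s : Subgroup (Ω ≃ₐ[K] Ω)) := by
  haveI : IsAffine ((Functor.fromPUnit S).obj Y.right) := inferInstanceAs (IsAffine S)
  haveI : IsAffine Y.left := isAffine_of_isAffineHom (Y.hom : Y.left ⟶ S)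
  let φ : CommRingCat.of K ⟶ Γ(Y.left, ⊤) := Spec.preimage (Y.left.isoSpec.inv ≫ Y.hom)
  letI : Algebra K Γ(Y.left, ⊤) := φ.hom.toAlgebra
  haveI : Module.Finite K Γ(Y.left, ⊤) := by
    have : IsFinite (Spec.map φ) := by rw [Spec.map_preimage]; infer_instance
    exact RingHom.finite_algebraMap.mp ((IsFinite.SpecMap_iff _).mp this)
  let ψ := Spec.preimage ((s : FEt.fiberObj (ξK K) Y).1 ≫ Y.left.isoSpec.hom)
  let Ψ : Γ(Y.left, ⊤) →ₐ[K] Ω := ⟨ψ.hom, fun r => ConcreteCategory.congr_hom (Spec.map_injective (show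
    Spec.map (φ ≫ ψ) = Spec.map (CommRingCat.ofHom (algebraMap K Ω)) by
      rw [Spec.map_comp, Spec.map_preimage, Spec.map_preimage, Category.assoc, Iso.hom_inv_id_assoc]
      exact (s : FEt.fiberObj (ξK K) Y).2)) r⟩
  let b := Module.finBasis K Γ(Y.left, ⊤)
  refine ⟨IntermediateField.adjoin K (Set.range (Ψ ∘ b)),
    IntermediateField.finiteDimensional_adjoin fun x _ => Algebra.IsIntegral.isIntegral x, fun g hg => ?_⟩
  have e : (g.toAlgHom.comp Ψ).toLinearMap = Ψ.toLinearMap :=
    b.ext fun i => (IntermediateField.mem_fixingSubgroup_iff _ _).mp hg _ (IntermediateField.subset_adjoin K _ ⟨i, rfl⟩)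
  refine (MulAction.mem_stabilizer_iff (G := Field.absoluteGaloisGroup K) (g := g) (a := s)).mpr ?_
  refine Subtype.ext ((cancel_mono Y.left.isoSpec.hom).mp ?_)
  show (specGal K g ≫ (s : FEt.fiberObj (ξK K) Y).1) ≫ Y.left.isoSpec.hom = _
  rw [Category.assoc, ← Spec.map_preimage ((s : FEt.fiberObj (ξK K) Y).1 ≫ Y.left.isoSpec.hom), specGal, ← Spec.map_comp]
  exact congrArg Spec.map (CommRingCat.hom_ext (RingHom.ext fun a => LinearMap.congr_fun e a))

theorem isPretransitive (Y : FEt.Cat S) :
    letI := preGaloisCategory S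
    PreGaloisCategory.IsConnected Y → MulAction.IsPretransitive (Field.absoluteGaloisGroup K) ((FK K).obj Y) := by
  letI := preGaloisCategory S
  intro hY
  haveI := discreteTopology_left K Y
  constructor
  intro s t
  have hsub : ∀ y z : Y.left, z = y := fun y z => by
    let U : Y.left.Opens := ⟨{y}, isOpen_discrete _⟩
    haveI : IsClosedImmersion U.ι := isClosedImmersion_ι_of_isClosed U (isClosed_discrete _)
    let i : mk (U.ι ≫ Y.hom) ⟶ Y := MorphismProperty.Over.homMk U.ι rfl
    haveI : Mono i := ⟨fun a b h => MorphismProperty.Over.Hom.ext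
      ((cancel_mono U.ι).mp (congrArg (fun k : _ ⟶ Y => k.left) h))⟩
    haveI : IsIso i := PreGaloisCategory.IsConnected.noTrivialComponent _ i fun hi =>
      IsEmpty.false (α := (∅ : Scheme.{u})) ((hi.to (emptyObj S)).left ⟨y, rfl⟩)
    have : U.ι ((asIso i).inv.left z) = z :=
      congrArg (fun k : Y ⟶ Y => k.left z) (asIso i).inv_hom_id
    rw [← this]
    exact ((asIso i).inv.left z).2
  let e := Scheme.SpecToEquivOfField Ω Y.left
  obtain ⟨⟨y, a⟩, ha⟩ : ∃ p, e.symm p = (s : FEt.fiberObj (ξK K) Y).1 := ⟨_, e.symm_apply_apply _⟩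
  obtain ⟨⟨y', b⟩, hb⟩ : ∃ p, e.symm p = (t : FEt.fiberObj (ξK K) Y).1 := ⟨_, e.symm_apply_apply _⟩
  obtain rfl : y' = y := hsub y y'
  let c : CommRingCat.of K ⟶ Y.left.residueField y' := Spec.preimage (Y.left.fromSpecResidueField y' ≫ Y.hom)
  letI : Algebra K (Y.left.residueField y') := c.hom.toAlgebra
  have hc : ∀ (d : Y.left.residueField y' ⟶ CommRingCat.of Ω), Spec.map d ≫ Y.left.fromSpecResidueField y' ≫ Y.hom = ξK K →
      ∀ r, d (c r) = algebraMap K Ω r := fun d hd r => ConcreteCategory.congr_hom (Spec.map_injective (show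
        Spec.map (c ≫ d) = Spec.map (CommRingCat.ofHom (algebraMap K Ω)) by
          rw [Spec.map_comp, Spec.map_preimage]; exact hd)) r
  let A : Y.left.residueField y' →ₐ[K] Ω := ⟨a.hom, hc a (by
    rw [← Category.assoc]; exact (congrArg (· ≫ Y.hom) ha).trans (s : FEt.fiberObj (ξK K) Y).2)⟩
  let B : Y.left.residueField y' →ₐ[K] Ω := ⟨b.hom, hc b (by
    rw [← Category.assoc]; exact (congrArg (· ≫ Y.hom) hb).trans (t : FEt.fiberObj (ξK K) Y).2)⟩
  letI : Algebra (Y.left.residueField y') Ω := A.toRingHom.toAlgebra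
  haveI : IsScalarTower K (Y.left.residueField y') Ω := IsScalarTower.of_algebraMap_eq fun r => (A.commutes r).symm
  haveI : Algebra.IsAlgebraic (Y.left.residueField y') Ω := Algebra.IsAlgebraic.tower_top (K := K) _
  obtain ⟨g, hg⟩ : ∃ g : Ω →ₐ[K] Ω, ∀ x, g (A x) = B x := by
    obtain ⟨g, hg⟩ := IsAlgClosed.surjective_domRestrict_of_isAlgebraic (K := K) (M := Ω)
      (L := Y.left.residueField y') (E := Ω) B
    exact ⟨g, fun x => DFunLike.congr_fun hg x⟩
  refine ⟨AlgEquiv.ofBijective g (Algebra.IsAlgebraic.algHom_bijective g), Subtype.ext ?_⟩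
  show specGal K _ ≫ _ = _
  rw [← ha, ← hb]
  show specGal K _ ≫ Spec.map a ≫ _ = Spec.map b ≫ _
  rw [specGal, ← Spec.map_comp_assoc]
  congr 2
  ext x
  exact hg x

theorem isFundamentalGroup :
    letI := preGaloisCategory S
    ∀ [GaloisCategory (FEt.Cat S)], PreGaloisCategory.IsFundamentalGroup (FK K) (Field.absoluteGaloisGroup K) := by
  letI := preGaloisCategory S
  intro _
  refine { transitive_of_isGalois := fun Y _ => isPretransitive K Y inferInstance, continuous_smul := fun Y => ?_, non_trivial' := fun g hg => ?_ }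
  · letI : TopologicalSpace ((FK K).obj Y) := ⊥
    haveI : DiscreteTopology ((FK K).obj Y) := ⟨rfl⟩
    rw [continuousSMul_iff_stabilizer_isOpen]
    intro s
    obtain ⟨E, hE, hle⟩ := stabilizer_mem_nhds K Y s
    exact Subgroup.isOpen_mono hle (IntermediateField.fixingSubgroup_isOpen E)
  · refine eq_of_fix_separable K g fun x hx => ?_
    let E := IntermediateField.adjoin K {x}
    haveI : FiniteDimensional K E := IntermediateField.adjoin.finiteDimensional (Algebra.IsIntegral.isIntegral x)
    haveI : Algebra.IsSeparable K E := IntermediateField.isSeparable_adjoin_simple_iff_isSeparable K Ω |>.mpr hx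
    haveI : Algebra.FormallyEtale K E := Algebra.FormallyEtale.of_isSeparable K E
    haveI : Algebra.FinitePresentation K E := Algebra.FinitePresentation.of_finiteType.mp inferInstance
    haveI : Algebra.Etale K E := { }
    let p : Spec (CommRingCat.of E) ⟶ S := Spec.map (CommRingCat.ofHom (algebraMap K E))
    haveI : IsFinite p := (IsFinite.SpecMap_iff _).mpr (RingHom.finite_algebraMap.mpr inferInstance)
    haveI : Etale p := (HasRingHomProperty.Spec_iff (P := @Etale)).mpr (RingHom.etale_algebraMap.mpr inferInstance)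
    let s : FEt.fiberObj (ξK K) (mk p) := ⟨Spec.map (CommRingCat.ofHom (algebraMap E Ω)), by
      show _ ≫ p = _
      rw [← Spec.map_comp]
      congr 1⟩
    have h1 := Spec.map_injective (show Spec.map (CommRingCat.ofHom (algebraMap E Ω) ≫ CommRingCat.ofHom (g : Ω ≃ₐ[K] Ω).toAlgHom.toRingHom) =
        Spec.map (CommRingCat.ofHom (algebraMap E Ω)) by
      rw [Spec.map_comp]; exact congrArg Subtype.val (hg (mk p) s))
    exact ConcreteCategory.congr_hom h1 (⟨x, IntermediateField.mem_adjoin_simple_self K x⟩ : E)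

/-- `Aut` of the fibre functor into types and into finite sets agree. -/
noncomputable def autFiberEquiv {X : Scheme.{u}} {Ω' : Type u} [Field Ω'] (ξ : Spec (CommRingCat.of Ω') ⟶ X) :
    Aut (fiberFin ξ) ≃* Aut (FEt.fiber ξ) :=
  ((Functor.FullyFaithful.ofFullyFaithful FintypeCat.incl).whiskeringRight (FEt.Cat X)).autMulEquivOfFullyFaithful (fiberFin ξ)

end Groth.Agent.FEtQuot
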