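import Groth.Agent.FEtQuot.FieldSurj
import Groth.Agent.FEtQuot.Field
import Groth.Agent.FEtFF.UnivHomeo
import Groth.Agent.FEtFF.ExtendPoint
import Groth.Agent.FEtLib.EqLocus
import Groth.Agent.H8Lim.SchemeDescent
import Groth.Agent.H8Lim.Descent
import Groth.Agent.LimSmooth.Scheme
import Groth.Agent.H8Lim.GeomConnected
import Mathlib.AlgebraicGeometry.Sites.Fpqc
import Mathlib.RingTheory.Etale.Field
import Mathlib.FieldTheory.SeparableClosure
import Groth.Prelude.Def_Pi1

/-!
# Descending finite étale covers of `X_{k̄}` to finite separable extensions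
-/

set_option autoImplicit false
set_option linter.style.haveILetI false
set_option backward.isDefEq.respectTransparency.types false
set_option backward.isDefEq.respectTransparency false
universe u

open CategoryTheory CategoryTheory.Limits AlgebraicGeometry TopologicalSpace Opposite

namespace Groth.Agent.FEtQuot.FieldLimit

/-- A finite étale cover of a limit with affine transition maps comes from a stage. -/
theorem exists_stage_finEt {I : Type u} [SmallCategory I] [IsCofiltered I] {D : I ⥤ Scheme.{u}}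
    [∀ {i j} (φ : i ⟶ j), IsAffineHom (D.map φ)] [∀ i, CompactSpace (D.obj i)] [∀ i, QuasiSeparatedSpace (D.obj i)]
    {c : Cone D} (hc : IsLimit c) {W : Scheme.{u}} (w : W ⟶ c.pt) [IsFinite w] [Etale w] :
    ∃ (l : I) (W₀ : Scheme.{u}) (w₀ : W₀ ⟶ D.obj l) (q : W ⟶ W₀),
      IsFinite w₀ ∧ Etale w₀ ∧ IsPullback q w w₀ (c.π.app l) := by
  have haff : ∀ {i j} (φ : i ⟶ j), IsAffineHom (D.map φ) := fun φ => inferInstance
  obtain ⟨j, Zj, h, q, hlfp, hqc, hqs, sq⟩ := H8Lim.exists_stage_scheme (D := D) (c := c) hc w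
  obtain ⟨k, φ, hk⟩ := H8Lim.descends_isFinite D c hc haff j h inferInstance w q sq ‹IsFinite w›
  let hk' := pullback.snd h (D.map φ)
  haveI : IsFinite hk' := hk
  have hqw : q ≫ h = (w ≫ c.π.app k) ≫ D.map φ := by rw [Category.assoc, c.w]; exact sq.w
  let qk : W ⟶ pullback h (D.map φ) := pullback.lift q (w ≫ c.π.app k) hqw
  have sqk : IsPullback qk w hk' (c.π.app k) := by
    refine IsPullback.of_right ?_ (pullback.lift_snd _ _ _) (IsPullback.of_hasPullback h (D.map φ))
    rw [pullback.lift_fst]
    exact (c.w φ).symm ▸ sq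
  haveI : LocallyOfFinitePresentation hk' := inferInstance
  haveI : CompactSpace ↥(pullback h (D.map φ)) := QuasiCompact.compactSpace_of_compactSpace hk'
  obtain ⟨l, ψ, Xl, Yl, fl, gl, pY, pX, hYl, hXl, hfl⟩ :=
    LimSmooth.exists_stage (P := @Etale) (D := D) (c := c) hc (g₀ := 𝟙 (D.obj k)) (g := 𝟙 c.pt)
      (qY := c.π.app k) (IsPullback.of_vert_isIso ⟨(Category.comp_id _).trans (Category.id_comp _).symm⟩)
      sqk LimSmooth.affineSpreads_etale (fun ι _ => inferInstance) ‹Etale w›
  haveI : IsIso gl := MorphismProperty.of_isPullback (P := MorphismProperty.isomorphisms Scheme.{u}) hYl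
    (inferInstanceAs (IsIso (𝟙 _)))
  have hpY : pY = gl ≫ D.map ψ := by rw [← Category.comp_id pY]; exact hYl.w
  have sl : IsPullback pX (fl ≫ gl) hk' (D.map ψ) := by
    refine hXl.of_iso (Iso.refl _) (Iso.refl _) (asIso gl) (Iso.refl _) ?_ ?_ ?_ ?_
    all_goals simp [hpY]
  haveI : IsFinite (fl ≫ gl) := MorphismProperty.of_isPullback sl ‹IsFinite hk'›
  haveI : Etale fl := hfl
  refine ⟨l, Xl, fl ≫ gl, sl.lift qk (w ≫ c.π.app l) (by rw [Category.assoc, c.w]; exact sqk.w),
    inferInstance, inferInstance, IsPullback.of_right ?_ (sl.lift_snd _ _ _) sl⟩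
  rw [sl.lift_fst]
  exact (c.w ψ).symm ▸ sqk

variable (k : Type u) [Field k] {Ω : Type u} [Field Ω] [Algebra k Ω] [Algebra.IsAlgebraic k Ω]

local notation "ξΩ" => Spec.map (CommRingCat.ofHom (algebraMap k Ω))

/-- The subextension generated by finitely many elements. -/
noncomputable abbrev ext (s : Finset Ω) : IntermediateField k Ω := IntermediateField.adjoin k (s : Set Ω)

instance finiteDimensional_ext (s : Finset Ω) : FiniteDimensional k (ext k s) :=
  IntermediateField.finiteDimensional_adjoin fun x _ => Algebra.IsIntegral.isIntegral x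

/-- The diagram of finite subextensions. -/
noncomputable def extDiag : Finset Ω ⥤ CommRingCat.{u} where
  obj s := CommRingCat.of (ext k s).toSubalgebra
  map {s t} h := CommRingCat.ofHom (Subalgebra.inclusion
    (IntermediateField.adjoin.mono k _ _ (Finset.coe_subset.mpr (leOfHom h)) : ext k s ≤ ext k t)).toRingHom
  map_id _ := by ext x; rfl
  map_comp _ _ := by ext x; rfl

/-- Its cocone. -/
noncomputable def extCocone : Cocone (extDiag (Ω := Ω) k) where
  pt := CommRingCat.of Ω
  ι := { app := fun s => CommRingCat.ofHom (ext k s).toSubalgebra.val.toRingHom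
         naturality := fun _ _ _ => by ext x; rfl }

theorem nonempty_isColimit_extCocone : Nonempty (IsColimit (extCocone (Ω := Ω) k)) := by
  classical
  haveI : ReflectsColimit (extDiag (Ω := Ω) k) (forget CommRingCat.{u}) := reflectsColimit_of_reflectsIsomorphisms _ _
  refine ⟨isColimitOfReflects (forget CommRingCat.{u}) (Types.FilteredColimit.isColimitOf _ _ ?_ ?_)⟩
  · intro x
    exact ⟨{x}, ⟨x, IntermediateField.subset_adjoin k _ (Finset.mem_coe.mpr (Finset.mem_singleton_self x))⟩, rfl⟩
  · intro i j xi xj h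
    exact ⟨i ∪ j, homOfLE Finset.subset_union_left, homOfLE Finset.subset_union_right, Subtype.ext h⟩

/-- `Spec` of a finite subextension over `k`. -/
noncomputable abbrev bs (s : Finset Ω) : Spec ((extDiag k).obj s) ⟶ Spec (CommRingCat.of k) :=
  Spec.map (CommRingCat.ofHom (algebraMap k (ext k s).toSubalgebra))

theorem map_bs {s t : Finset Ω} (h : s ⟶ t) : Spec.map ((extDiag k).map h) ≫ bs k s = bs k t := by
  rw [bs, bs, ← Spec.map_comp]
  rfl

theorem ι_bs (s : Finset Ω) : Spec.map ((extCocone k).ι.app s) ≫ bs k s = ξΩ := by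
  rw [bs, ← Spec.map_comp]
  rfl

variable {k} {X : Scheme.{u}} (f : X ⟶ Spec (CommRingCat.of k))

/-- The base changes of `X` to the finite subextensions. -/
noncomputable def diag : (Finset Ω)ᵒᵖ ⥤ Scheme.{u} where
  obj s := pullback f (bs k s.unop)
  map {s t} h := pullback.lift (pullback.fst _ _) (pullback.snd _ _ ≫ Spec.map ((extDiag k).map h.unop)) (by
    rw [Category.assoc, map_bs, pullback.condition])
  map_id s := by
    apply pullback.hom_ext <;> simp
  map_comp {s t r} g h := by
    apply pullback.hom_ext <;> simp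

/-- The cone with tip `X_{k̄}`. -/
noncomputable def cone : Cone (diag (Ω := Ω) f) where
  pt := pullback f (ξΩ)
  π :=
    { app := fun s => pullback.lift (pullback.fst _ _) (pullback.snd _ _ ≫ Spec.map ((extCocone k).ι.app s.unop))
        (by rw [Category.assoc, ι_bs, pullback.condition])
      naturality := fun s t h => by
        dsimp [diag]
        apply pullback.hom_ext
        · simp
        · simp only [Category.id_comp, Category.assoc, pullback.lift_snd, pullback.lift_snd_assoc]
          rw [← Spec.map_comp, (extCocone k).w h.unop] }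

theorem π_fst (s : (Finset Ω)ᵒᵖ) : (cone f).π.app s ≫ pullback.fst f (bs k s.unop) = pullback.fst f (ξΩ) :=
  pullback.lift_fst _ _ _

theorem π_snd (s : (Finset Ω)ᵒᵖ) : (cone f).π.app s ≫ pullback.snd f (bs k s.unop) =
    pullback.snd f (ξΩ) ≫ Spec.map ((extCocone k).ι.app s.unop) :=
  pullback.lift_snd _ _ _

theorem nonempty_isLimit_cone : Nonempty (IsLimit (cone (Ω := Ω) f)) := by
  classical
  obtain ⟨hcol⟩ := nonempty_isColimit_extCocone (Ω := Ω) k
  let h₀ := isLimitOfPreserves Scheme.Spec hcol.op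
  let sD : Cone (diag (Ω := Ω) f) → Cone ((extDiag k).op ⋙ Scheme.Spec) := fun s =>
    { pt := s.pt
      π :=
        { app := fun i => s.π.app i ≫ pullback.snd f (bs k i.unop)
          naturality := fun i j h => by
            dsimp
            rw [Category.id_comp, ← s.w h, Category.assoc, Category.assoc]
            exact congrArg (s.π.app i ≫ ·) (pullback.lift_snd _ _ _) } }
  have hfst : ∀ (s : Cone (diag f)) (i : (Finset Ω)ᵒᵖ),
      s.π.app i ≫ pullback.fst f (bs k i.unop) = s.π.app (op ∅) ≫ pullback.fst f (bs k ∅) := fun s i => by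
    rw [← s.w (homOfLE (Finset.empty_subset i.unop) : (∅ : Finset Ω) ⟶ i.unop).op, Category.assoc]
    exact congrArg (s.π.app i ≫ ·) (pullback.lift_fst _ _ _).symm
  have hw : ∀ s : Cone (diag f), (s.π.app (op ∅) ≫ pullback.fst f (bs k ∅)) ≫ f = h₀.lift (sD s) ≫ ξΩ := fun s => by
    rw [← ι_bs k ∅, ← Category.assoc (h₀.lift (sD s)),
      show h₀.lift (sD s) ≫ Spec.map ((extCocone k).ι.app ∅) = s.π.app (op ∅) ≫ pullback.snd f (bs k ∅) from h₀.fac (sD s) (op ∅),
      Category.assoc, pullback.condition, Category.assoc]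
  refine ⟨{ lift := fun s => pullback.lift _ _ (hw s), fac := fun s i => ?_, uniq := fun s m hm => ?_ }⟩
  · apply pullback.hom_ext
    · rw [Category.assoc, π_fst, pullback.lift_fst]
      exact (hfst s i).symm
    · rw [Category.assoc, π_snd, pullback.lift_snd_assoc]
      exact h₀.fac (sD s) i
  · apply pullback.hom_ext
    · rw [pullback.lift_fst, ← hm (op ∅), Category.assoc]
      exact congrArg (m ≫ ·) (π_fst f (op ∅)).symm
    · rw [pullback.lift_snd]
      refine h₀.hom_ext fun i => ?_
      rw [h₀.fac]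
      show (m ≫ pullback.snd f (ξΩ)) ≫ Spec.map ((extCocone k).ι.app i.unop) = s.π.app i ≫ pullback.snd _ _
      rw [← hm i, Category.assoc, Category.assoc, π_snd]

instance isAffineHom_map {s t : (Finset Ω)ᵒᵖ} (h : s ⟶ t) : IsAffineHom ((diag f).map h) := by
  haveI : ∀ i : (Finset Ω)ᵒᵖ, IsAffineHom (pullback.fst f (bs k i.unop)) := fun i =>
    MorphismProperty.pullback_fst _ _ inferInstance
  have e : (diag f).map h ≫ pullback.fst f (bs k t.unop) = pullback.fst f (bs k s.unop) := pullback.lift_fst _ _ _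
  exact MorphismProperty.of_postcomp (W := @IsAffineHom) (W' := @IsSeparated) _ (pullback.fst f (bs k t.unop))
    inferInstance (by rw [e]; infer_instance)

instance compactSpace_diag [CompactSpace X] (s : (Finset Ω)ᵒᵖ) : CompactSpace ((diag f).obj s) :=
  QuasiCompact.compactSpace_of_compactSpace (pullback.fst f (bs k s.unop))

instance quasiSeparatedSpace_diag [QuasiSeparatedSpace X] (s : (Finset Ω)ᵒᵖ) : QuasiSeparatedSpace ((diag f).obj s) :=
  quasiSeparatedSpace_of_quasiSeparated (pullback.fst f (bs k s.unop))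

section separable

variable (s : Finset Ω)

/-- The separable part of a finite subextension. -/
noncomputable abbrev sep (k : Type u) [Field k] [Algebra k Ω] (s : Finset Ω) : IntermediateField k (ext k s) := separableClosure k (ext k s)

/-- `Spec` of the separable part. -/
noncomputable abbrev bsS (k : Type u) [Field k] [Algebra k Ω] (s : Finset Ω) : Spec (CommRingCat.of (sep k s)) ⟶ Spec (CommRingCat.of k) :=
  Spec.map (CommRingCat.ofHom (algebraMap k (sep k s)))

/-- The map of spectra. -/
noncomputable abbrev toSep (k : Type u) [Field k] [Algebra k Ω] [Algebra.IsAlgebraic k Ω] (s : Finset Ω) : Spec ((extDiag k).obj s) ⟶ Spec (CommRingCat.of (sep k s)) :=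
  Spec.map (CommRingCat.ofHom (algebraMap (sep k s) (ext k s)))

theorem toSep_bsS : toSep k s ≫ bsS k s = bs k s := by
  rw [toSep, bsS, bs, ← Spec.map_comp]
  rfl

theorem prop_bsS : IsFinite (bsS k s) ∧ Etale (bsS k s) := by
  haveI : Algebra.FormallyEtale k (sep k s) := Algebra.FormallyEtale.of_isSeparable k (sep k s)
  haveI : Algebra.FinitePresentation k (sep k s) := Algebra.FinitePresentation.of_finiteType.mp inferInstance
  haveI : Algebra.Etale k (sep k s) := {}
  exact ⟨(IsFinite.SpecMap_iff _).mpr (RingHom.finite_algebraMap.mpr inferInstance),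
    (HasRingHomProperty.Spec_iff (P := @Etale)).mpr
      (show (algebraMap k (sep k s)).Etale from RingHom.etale_algebraMap.mpr inferInstance)⟩

/-- The base change map. -/
noncomputable def toSepX : pullback f (bs k s) ⟶ pullback f (bsS k s) :=
  pullback.lift (pullback.fst _ _) (pullback.snd _ _ ≫ toSep k s) (by rw [Category.assoc, toSep_bsS, pullback.condition])

theorem isPullback_toSepX :
    IsPullback (toSepX f s) (pullback.snd f (bs k s)) (pullback.snd f (bsS k s)) (toSep k s) := by
  refine (IsPullback.of_bot ?_ (pullback.lift_snd _ _ _).symm (IsPullback.of_hasPullback f (bsS k s)).flip).flip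
  rw [pullback.lift_fst, toSep_bsS]
  exact (IsPullback.of_hasPullback f (bs k s)).flip

theorem prop_toSepX : IsFinite (toSepX f s) ∧ UniversallyInjective (toSepX f s) ∧ Surjective (toSepX f s) ∧
    Flat (toSepX f s) := by
  have sq := (isPullback_toSepX f s).flip
  haveI : IsPurelyInseparable (sep k s) (ext k s) := inferInstance
  haveI : Module.Finite (sep k s) (ext k s) := Module.Finite.of_restrictScalars_finite k _ _
  refine ⟨MorphismProperty.of_isPullback sq ((IsFinite.SpecMap_iff _).mpr (show (algebraMap (sep k s) (ext k s)).Finite from RingHom.finite_algebraMap.mpr inferInstance)),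
    MorphismProperty.of_isPullback sq (H8Lim.universallyInjective_algSpec (sep k s) (ext k s)),
    MorphismProperty.of_isPullback sq ⟨fun z => ⟨(IsLocalRing.closedPoint (ext k s) : PrimeSpectrum (ext k s)), Subsingleton.elim (α := PrimeSpectrum (sep k s)) _ _⟩⟩,
    MorphismProperty.of_isPullback sq ((HasRingHomProperty.Spec_iff (P := @Flat)).mpr
      (show (algebraMap (sep k s) (ext k s)).Flat from RingHom.flat_algebraMap_iff.mpr inferInstance))⟩

end separable

variable [CompactSpace X] [QuasiSeparatedSpace X]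

/-- A finite étale cover of `X_{k̄}` comes from a finite separable extension. -/
theorem exists_cover (V : FEt.Cat (pullback f (ξΩ))) :
    ∃ (s : Finset Ω) (W : FEt.Cat (pullback f (bsS k s))) (q : V.left ⟶ W.left),
      IsPullback q V.hom W.hom ((cone f).π.app (op s) ≫ toSepX f s) := by
  obtain ⟨hc⟩ := nonempty_isLimit_cone (Ω := Ω) f
  haveI : IsFinite (show V.left ⟶ (cone f).pt from V.hom) := V.prop.1
  haveI : Etale (show V.left ⟶ (cone f).pt from V.hom) := V.prop.2
  obtain ⟨l, W₀, w₀, q₀, hw₁, hw₂, sq⟩ := exists_stage_finEt hc (show V.left ⟶ (cone f).pt from V.hom)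
  obtain ⟨s, rfl⟩ : ∃ s, op s = l := ⟨l.unop, rfl⟩
  obtain ⟨_, _, _, _⟩ := prop_toSepX f s
  haveI : IsFinite (show W₀ ⟶ pullback f (bs k s) from w₀) := hw₁
  haveI : Etale (show W₀ ⟶ pullback f (bs k s) from w₀) := hw₂
  haveI := Groth.Agent.FEtFF.UnivHomeo.restrict_essSurj (toSepX f s)
  let W₀' : FEt.Cat (pullback f (bs k s)) := mk (show W₀ ⟶ pullback f (bs k s) from w₀)
  let W := (FEt.restrict (toSepX f s)).objPreimage W₀'
  let e := (FEt.restrict (toSepX f s)).objObjPreimageIso W₀'
  haveI : IsIso e.inv.left := (inferInstance : IsIso (((MorphismProperty.Over.forget _ _ _).mapIso e.symm).hom).left)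
  refine ⟨s, W, q₀ ≫ e.inv.left ≫ pullback.fst W.hom (toSepX f s), ?_⟩
  have h1 : IsPullback (e.inv.left ≫ pullback.fst W.hom (toSepX f s)) w₀ W.hom (toSepX f s) := by
    refine (IsPullback.of_hasPullback W.hom (toSepX f s)).of_iso (asIso e.inv.left).symm (Iso.refl _) (Iso.refl _)
      (Iso.refl _) ?_ ?_ ?_ ?_
    · simp
    · show pullback.snd _ _ ≫ 𝟙 _ = (asIso e.inv.left).inv ≫ w₀
      rw [Category.comp_id, Iso.eq_inv_comp]
      exact hom_w e.inv
    · simp
    · simp
  exact sq.paste_horiz h1

/-- A point of a finite étale cover with values in `X_{k̄}` is defined over a finite separable extension. -/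
theorem exists_points {ι : Type u} [Finite ι] (U : FEt.Cat X) (σ : ι → (pullback f (ξΩ) ⟶ U.left))
    (hσ : ∀ i, σ i ≫ U.hom = pullback.fst f (ξΩ)) :
    ∃ (s : Finset Ω) (τ : ι → (pullback f (bsS k s) ⟶ U.left)),
      (∀ i, τ i ≫ U.hom = pullback.fst f (bsS k s)) ∧
        ∀ i, ((cone f).π.app (op s) ≫ toSepX f s) ≫ τ i = σ i := by
  classical
  obtain ⟨hc⟩ := nonempty_isLimit_cone (Ω := Ω) f
  haveI := Fintype.ofFinite ι
  let t : diag (Ω := Ω) f ⟶ (Functor.const _).obj X :=
    { app := fun i => pullback.fst f (bs k i.unop)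
      naturality := fun i j h => (pullback.lift_fst _ _ _).trans (Category.comp_id _).symm }
  choose a g hg hgw using fun i => Scheme.exists_π_app_comp_eq_of_locallyOfFinitePresentation
    (diag f) t U.hom (cone f) hc (σ i) (by
      ext j
      show (cone f).π.app j ≫ pullback.fst f _ = σ i ≫ U.hom
      rw [π_fst, hσ])
  let s : Finset Ω := Finset.univ.biUnion fun i => (a i).unop
  obtain ⟨_, _, _, _⟩ := prop_toSepX f s
  have hle : ∀ i, (a i).unop ⊆ s := fun i => Finset.subset_biUnion_of_mem (fun i => (a i).unop) (Finset.mem_univ i)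
  let g' : ι → (pullback f (bs k s) ⟶ U.left) := fun i =>
    (diag f).map (homOfLE (hle i) : (a i).unop ⟶ s).op ≫ g i
  have hg' : ∀ i, g' i ≫ U.hom = pullback.fst f (bs k s) := fun i => by
    show ((diag f).map _ ≫ g i) ≫ U.hom = _
    rw [Category.assoc, hgw]
    exact pullback.lift_fst _ _ _
  haveI : EffectiveEpi (toSepX f s) := inferInstance
  have hdesc : ∀ i, ∀ {Z : Scheme.{u}} (g₁ g₂ : Z ⟶ pullback f (bs k s)),
      g₁ ≫ toSepX f s = g₂ ≫ toSepX f s → g₁ ≫ g' i = g₂ ≫ g' i := by
    intro i Z g₁ g₂ h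
    have hP : pullback.fst (toSepX f s) (toSepX f s) ≫ g' i = pullback.snd (toSepX f s) (toSepX f s) ≫ g' i := by
      haveI : Surjective (pullback.diagonal (toSepX f s)) := (UniversallyInjective.iff_diagonal _).mp ‹_›
      refine Groth.Agent.FEtLib.eq_of_surjective U.hom _ _ (pullback.diagonal (toSepX f s)) (by simp) ?_
      simp only [Category.assoc, hg']
      rw [show pullback.fst f (bs k s) = toSepX f s ≫ pullback.fst f (bsS k s) from (pullback.lift_fst _ _ _).symm,
        pullback.condition_assoc]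
    calc g₁ ≫ g' i = pullback.lift g₁ g₂ h ≫ pullback.fst _ _ ≫ g' i := by rw [pullback.lift_fst_assoc]
      _ = g₂ ≫ g' i := by rw [hP, pullback.lift_snd_assoc]
  refine ⟨s, fun i => EffectiveEpi.desc (toSepX f s) (g' i) (hdesc i), fun i => ?_, fun i => ?_⟩
  · rw [← cancel_epi (toSepX f s), EffectiveEpi.fac_assoc, hg']
    exact (pullback.lift_fst _ _ _).symm
  · rw [Category.assoc, EffectiveEpi.fac, ← hg i]
    show (cone f).π.app (op s) ≫ (diag f).map _ ≫ g i = _
    rw [← Category.assoc, (cone f).w]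

/-- Covers of `X_{k̄}` are clopen in base changes of covers of `X`. -/
theorem exists_dominating (V : FEt.Cat (pullback f (ξΩ))) :
    ∃ (U : FEt.Cat X) (ι : V ⟶ (FEt.restrict (pullback.fst f (ξΩ))).obj U),
      IsOpenImmersion ι.left ∧ IsClosedImmersion ι.left := by
  obtain ⟨s, W, q, sq⟩ := exists_cover f V
  obtain ⟨_, _⟩ := prop_bsS (k := k) s
  let U : FEt.Cat X := mk (W.hom ≫ pullback.fst f (bsS k s))
  have hJ : ((cone f).π.app (op s) ≫ toSepX f s) ≫ pullback.fst f (bsS k s) = pullback.fst f (ξΩ) := by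
    rw [Category.assoc, show toSepX f s ≫ pullback.fst f (bsS k s) = pullback.fst f (bs k s) from pullback.lift_fst _ _ _]
    exact π_fst f (op s)
  let ι₀ : V.left ⟶ pullback U.hom (pullback.fst f (ξΩ)) := pullback.lift q V.hom (by
    show q ≫ W.hom ≫ pullback.fst f (bsS k s) = _
    rw [reassoc_of% sq.w]
    exact congrArg (V.hom ≫ ·) ((Category.assoc _ _ _).symm.trans hJ))
  let ι : V ⟶ (FEt.restrict (pullback.fst f (ξΩ))).obj U := MorphismProperty.Over.homMk ι₀ (pullback.lift_snd _ _ _)
  haveI : Mono ι₀ := ⟨fun g h e => sq.hom_ext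
    (by simpa [ι₀] using congrArg (· ≫ pullback.fst _ _) e) (by simpa [ι₀] using congrArg (· ≫ pullback.snd _ _) e)⟩
  haveI : Mono ι.left := ‹Mono ι₀›
  haveI := isFinite_left ι
  haveI := etale_left ι
  haveI : UniversallyInjective ι.left := inferInstance
  exact ⟨U, ι, Groth.Agent.FEtLib.isOpenImmersion_of_etale_universallyInjective ι.left,
    (IsClosedImmersion.iff_isFinite_and_mono _).mpr ⟨inferInstance, inferInstance⟩⟩

/-- Covers split over `k̄` are dominated by covers from `k`. -/
theorem exists_from_field (U : FEt.Cat X)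
    (hU : Pi1.IsSplit ((FEt.restrict (pullback.fst f (ξΩ))).obj U)) :
    ∃ (V : FEt.Cat (Spec (CommRingCat.of k))) (e : (FEt.restrict f).obj V ⟶ U), Surjective e.left := by
  obtain ⟨ι, _, e, he⟩ := hU
  let σ : ι → (pullback f (ξΩ) ⟶ U.left) := fun i =>
    Sigma.ι (fun _ : ι => pullback f (ξΩ)) i ≫ e.inv ≫ pullback.fst U.hom (pullback.fst f (ξΩ))
  have hσ : ∀ i, σ i ≫ U.hom = pullback.fst f (ξΩ) := fun i => by
    simp only [σ, Category.assoc, pullback.condition]
    have := congrArg (· ≫ pullback.fst f (ξΩ)) (he i)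
    simp only [Category.assoc, Category.id_comp] at this
    exact this
  obtain ⟨s, τ, hτ, hτσ⟩ := exists_points f U σ hσ
  obtain ⟨_, _⟩ := prop_bsS (k := k) s
  let V₁ : FEt.Cat (Spec (CommRingCat.of k)) := mk (bsS k s)
  haveI := (hasFiniteLimits_colimits (Spec (CommRingCat.of k))).2
  haveI := (restrict_exact f).2
  haveI : Finite (Discrete ι) := Finite.of_equiv ι discreteEquiv.symm
  haveI : HasColimitsOfShape (Discrete ι) (FEt.Cat (Spec (CommRingCat.of k))) := inferInstance
  haveI : PreservesColimitsOfShape (Discrete ι) (FEt.restrict f) := inferInstance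
  let hc := isColimitOfPreserves (FEt.restrict f) (colimit.isColimit (Discrete.functor fun _ : ι => V₁))
  let τ' : ι → ((FEt.restrict f).obj V₁ ⟶ U) := fun i =>
    MorphismProperty.Over.homMk ((pullbackSymmetry (bsS k s) f).hom ≫ τ i) (by
      show ((pullbackSymmetry (bsS k s) f).hom ≫ τ i) ≫ U.hom = pullback.snd (bsS k s) f
      rw [Category.assoc, hτ, pullbackSymmetry_hom_comp_fst])
  let co : Cocone ((Discrete.functor fun _ : ι => V₁) ⋙ FEt.restrict f) :=
    { pt := U
      ι := Discrete.natTrans fun i => τ' i.as }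
  refine ⟨∐ fun _ : ι => V₁, hc.desc co, ⟨fun u => ?_⟩⟩
  haveI : Surjective (pullback.fst f (ξΩ)) := MorphismProperty.pullback_fst _ _
    ⟨fun x => ⟨IsLocalRing.closedPoint _, Subsingleton.elim (α := PrimeSpectrum k) _ _⟩⟩
  haveI : Surjective (pullback.fst U.hom (pullback.fst f (ξΩ))) := MorphismProperty.pullback_fst _ _ ‹_›
  obtain ⟨z, rfl⟩ := (pullback.fst U.hom (pullback.fst f (ξΩ))).surjective u
  obtain ⟨i, x, hx⟩ := (sigmaOpenCover (fun _ : ι => pullback f (ξΩ))).exists_eq (e.hom z)
  have hfac : (FEt.restrict f).map (Sigma.ι (fun _ : ι => V₁) i) ≫ hc.desc co = τ' i := hc.fac co ⟨i⟩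
  let y := (pullbackSymmetry (bsS k s) f).inv (((cone f).π.app (op s) ≫ toSepX f s) x)
  refine ⟨((FEt.restrict f).map (Sigma.ι (fun _ : ι => V₁) i)).left y, ?_⟩
  refine (congrArg (fun m : (FEt.restrict f).obj V₁ ⟶ U => m.left y) hfac).trans ?_
  show τ i ((pullbackSymmetry (bsS k s) f).hom ((pullbackSymmetry (bsS k s) f).inv _)) = _
  rw [← Scheme.Hom.comp_apply (pullbackSymmetry (bsS k s) f).inv, Iso.inv_hom_id]
  show τ i (((cone f).π.app (op s) ≫ toSepX f s) x) = _
  rw [← Scheme.Hom.comp_apply _ (τ i), hτσ]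
  simp only [σ, Scheme.Hom.comp_apply]
  congr 1
  exact (congrArg (fun w => e.inv w) hx).trans
    (congrArg (fun m : pullback U.hom (pullback.fst f (ξΩ)) ⟶ pullback U.hom (pullback.fst f (ξΩ)) => m z) e.hom_inv_id)

end Groth.Agent.FEtQuot.FieldLimit
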