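import Groth.Agent.FEtQuot.Galois
import Mathlib.CategoryTheory.Comma.Over.OverClass
import Mathlib.CategoryTheory.Limits.Yoneda
import Mathlib.CategoryTheory.Limits.FintypeCat

/-!
# The fibre functor of finite étale covers
-/

set_option autoImplicit false
set_option linter.style.haveILetI false
set_option backward.isDefEq.respectTransparency.types false
universe u

namespace Groth.Agent.FEtQuot
open CategoryTheory CategoryTheory.Limits AlgebraicGeometry TopologicalSpace Opposite

variable {X : Scheme.{u}} {Ω : Type u} [Field Ω] (ξ : Spec (CommRingCat.of Ω) ⟶ X)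

instance finite_fiberObj (Y : FEt.Cat X) : Finite (FEt.fiberObj ξ Y) := finite_points Y.hom ξ

/-- The fibre functor with values in finite sets. -/
noncomputable def fiberFin : FEt.Cat X ⥤ FintypeCat.{u} :=
  ObjectProperty.lift _ (FEt.fiber ξ) fun Y => finite_fiberObj ξ Y

/-- Fibre functor is corepresented by the point. -/
noncomputable def fiberIso :
    FEt.fiber ξ ≅ MorphismProperty.Over.forget FEt.prop ⊤ X ⋙ coyoneda.obj (op (Over.mk ξ)) :=
  NatIso.ofComponents (fun Y => Equiv.toIso
    { toFun := fun s => Over.homMk s.1 s.2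
      invFun := fun m => ⟨m.left, Over.w m⟩
      left_inv := fun s => rfl
      right_inv := fun m => Over.OverMorphism.ext rfl })
    fun {Y Z} h => ConcreteCategory.hom_ext _ _ fun s => Over.OverMorphism.ext rfl

theorem preservesFiniteLimits_fiber : PreservesFiniteLimits (FEt.fiber ξ) :=
  preservesFiniteLimits_of_natIso (fiberIso ξ).symm

theorem preservesFiniteLimits_fiberFin : PreservesFiniteLimits (fiberFin ξ) := by
  haveI := preservesFiniteLimits_fiber ξ
  constructor
  intro J _ _
  haveI : PreservesLimitsOfShape J (fiberFin ξ ⋙ FintypeCat.incl) :=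
    inferInstanceAs (PreservesLimitsOfShape J (FEt.fiber ξ))
  exact preservesLimitsOfShape_of_reflects_of_preserves (fiberFin ξ) FintypeCat.incl

theorem fiberFin_map_val {Y Z : FEt.Cat X} (h : Y ⟶ Z) (s : FEt.fiberObj ξ Y) :
    ((fiberFin ξ).map h s : FEt.fiberObj ξ Z).1 = s.1 ≫ h.left := rfl

variable [IsAlgClosed Ω] [ConnectedSpace X]

theorem isEmpty_of_fiber {W : Scheme.{u}} (p : W ⟶ X) [IsFinite p] [Etale p]
    (h : IsEmpty {s : Spec (CommRingCat.of Ω) ⟶ W // s ≫ p = ξ}) : IsEmpty W := by
  rw [← not_nonempty_iff]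
  intro _
  obtain ⟨s, hs⟩ := exists_point_of_connected p ξ
  exact h.elim ⟨s, hs⟩

theorem reflectsIsomorphisms_fiberFin : (fiberFin ξ).ReflectsIsomorphisms where
  reflects {Y Z} q _ := by
    have hb : Function.Bijective ((fiberFin ξ).map q) := (ConcreteCategory.isIso_iff_bijective _).mp inferInstance
    haveI := isFinite_left q
    haveI := etale_left q
    haveI : Surjective q.left := by
      refine ⟨Set.range_eq_univ.mp ?_⟩
      have hE : IsEmpty (coRange q.left) := isEmpty_of_fiber ξ ((coRange q.left).ι ≫ Z.hom) ⟨fun s => by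
        obtain ⟨t, ht⟩ := hb.2 ⟨s.1 ≫ (coRange q.left).ι, by rw [Category.assoc]; exact s.2⟩
        have e : t.1 ≫ q.left = s.1 ≫ (coRange q.left).ι := congrArg Subtype.val ht
        refine (s.1 (IsLocalRing.closedPoint Ω)).2 ?_
        exact ⟨_, congrArg (fun k : Spec (CommRingCat.of Ω) ⟶ Z.left => k (IsLocalRing.closedPoint Ω)) e⟩⟩
      refine Set.eq_univ_of_forall fun z => ?_
      by_contra hz
      exact hE.false ⟨z, hz⟩
    haveI : UniversallyInjective q.left := by
      rw [UniversallyInjective.iff_diagonal]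
      refine ⟨Set.range_eq_univ.mp ?_⟩
      have hcl : IsClosed (Set.range (pullback.diagonal q.left))ᶜ :=
        ((pullback.diagonal q.left).isOpenEmbedding.isOpen_range).isClosed_compl
      let U : (pullback q.left q.left).Opens :=
        ⟨(Set.range (pullback.diagonal q.left))ᶜ, (pullback.diagonal q.left).isClosedEmbedding.isClosed_range.isOpen_compl⟩
      haveI : IsClosedImmersion U.ι := isClosedImmersion_ι_of_isClosed U hcl
      have hE : IsEmpty U := isEmpty_of_fiber ξ (U.ι ≫ pullback.fst q.left q.left ≫ Y.hom) ⟨fun s => by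
        let a := s.1 ≫ U.ι
        have ha : a ≫ pullback.fst q.left q.left ≫ Y.hom = ξ := (Category.assoc _ _ _).trans s.2
        have hb' : (a ≫ pullback.snd q.left q.left) ≫ Y.hom = ξ := by
          rw [← hom_w q, Category.assoc, ← pullback.condition_assoc, hom_w q, ha]
        have heq := hb.1 (a₁ := ⟨a ≫ pullback.fst _ _, (Category.assoc _ _ _).trans ha⟩)
          (a₂ := ⟨a ≫ pullback.snd _ _, hb'⟩) (Subtype.ext (by
            show (a ≫ pullback.fst q.left q.left) ≫ q.left = (a ≫ pullback.snd q.left q.left) ≫ q.left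
            simp only [a, Category.assoc, pullback.condition]))
        have e : a = (a ≫ pullback.fst q.left q.left) ≫ pullback.diagonal q.left :=
          pullback.hom_ext (by simp) (by simpa using (congrArg Subtype.val heq).symm)
        refine (s.1 (IsLocalRing.closedPoint Ω)).2 ?_
        exact ⟨_, (congrArg (fun k : Spec (CommRingCat.of Ω) ⟶ pullback q.left q.left => k (IsLocalRing.closedPoint Ω)) e).symm⟩⟩
      refine Set.eq_univ_of_forall fun z => ?_
      by_contra hz
      exact hE.false ⟨z, hz⟩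
    haveI := Groth.Agent.FEtLib.isOpenImmersion_of_etale_universallyInjective q.left
    haveI : IsIso q.left := by
      haveI : Epi q.left.base := (TopCat.epi_iff_surjective _).mpr q.left.surjective
      exact IsOpenImmersion.isIso _
    haveI : IsIso ((MorphismProperty.Over.forget FEt.prop ⊤ X ⋙ Over.forget X).map q) := ‹_›
    exact isIso_of_reflects_iso q (MorphismProperty.Over.forget FEt.prop ⊤ X ⋙ Over.forget X)

theorem surjective_fiberFin_map_of_epi {Y Z : FEt.Cat X} (q : Y ⟶ Z) [Epi q] :
    Function.Surjective ((fiberFin ξ).map q) := by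
  haveI := isFinite_left q
  haveI := etale_left q
  suffices Surjective q.left by
    intro z
    obtain ⟨s, hs⟩ := exists_point q.left (z : FEt.fiberObj ξ Z).1
    refine ⟨(⟨s, by rw [← hom_w q, reassoc_of% hs]; exact (z : FEt.fiberObj ξ Z).2⟩ : FEt.fiberObj ξ Y), Subtype.ext hs⟩
  refine ⟨Set.range_eq_univ.mp (Set.eq_univ_of_forall fun z => by_contra fun hz => ?_)⟩
  let V : Z.left.Opens := ⟨Set.range q.left, (isClopen_range q.left).isOpen⟩
  let U := coRange q.left
  obtain ⟨hl⟩ := nonempty_isColimit_binaryCofanMk_of_isCompl V.ι U.ι (by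
    rw [Scheme.Opens.opensRange_ι, Scheme.Opens.opensRange_ι]
    exact IsCompl.of_eq (Opens.ext (by simp [V, U, coRange])) (Opens.ext (by simp [V, U, coRange])))
  haveI := etale_coprodDesc Z.hom Z.hom
  let h : Z.left ⟶ Z.left ⨿ Z.left := hl.desc (BinaryCofan.mk (V.ι ≫ (coprod.inl : Z.left ⟶ Z.left ⨿ Z.left)) (U.ι ≫ coprod.inr))
  have hV : V.ι ≫ h = V.ι ≫ coprod.inl := hl.fac _ ⟨.left⟩
  have hU : U.ι ≫ h = U.ι ≫ coprod.inr := hl.fac _ ⟨.right⟩
  have hw : h ≫ coprod.desc Z.hom Z.hom = Z.hom := by
    refine BinaryCofan.IsColimit.hom_ext hl ?_ ?_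
    · show V.ι ≫ h ≫ _ = V.ι ≫ _
      rw [reassoc_of% hV, coprod.inl_desc]
    · show U.ι ≫ h ≫ _ = U.ι ≫ _
      rw [reassoc_of% hU, coprod.inr_desc]
  let a : Z ⟶ mk (coprod.desc Z.hom Z.hom) := MorphismProperty.Over.homMk coprod.inl (coprod.inl_desc _ _)
  let b : Z ⟶ mk (coprod.desc Z.hom Z.hom) := MorphismProperty.Over.homMk h hw
  have hab : a = b := by
    rw [← cancel_epi q]
    refine MorphismProperty.Over.Hom.ext ?_
    show q.left ≫ coprod.inl = q.left ≫ h
    obtain ⟨l, hlq⟩ : ∃ l, l ≫ V.ι = q.left :=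
      ⟨IsOpenImmersion.lift V.ι q.left (by rw [Scheme.Opens.range_ι]; rfl), IsOpenImmersion.lift_fac _ _ _⟩
    rw [← hlq, Category.assoc, Category.assoc, hV]
  have e : U.ι ≫ coprod.inl = U.ι ≫ coprod.inr :=
    (congrArg (fun k : Z ⟶ mk (coprod.desc Z.hom Z.hom) => U.ι ≫ k.left) hab).trans hU
  exact AlgebraicGeometry.inl_ne_inr _ _ z z (congrArg (fun k : (U : Scheme) ⟶ Z.left ⨿ Z.left => k ⟨z, hz⟩) e)

theorem preservesEpis_fiberFin : (fiberFin ξ).PreservesEpimorphisms :=
  ⟨fun q _ => ConcreteCategory.epi_of_surjective _ (surjective_fiberFin_map_of_epi ξ q)⟩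

omit [ConnectedSpace X] in
theorem preservesQuotients_fiberFin (G : Type u) [Group G] [Finite G] :
    PreservesColimitsOfShape (SingleObj G) (fiberFin ξ) where
  preservesColimit {D} := by
    refine preservesColimit_of_preserves_colimit_cocone (isColimit_qCocone D) ?_
    haveI := (prop_toQuot _ (σD D) (hσD D)).1
    haveI := surjective_toQuot _ (σD D) (hσD D)
    have hsurj : Function.Surjective ((fiberFin ξ).map (toQ D)) := fun z => by
      obtain ⟨s, hs⟩ := exists_point (toQuot _ (σD D) (hσD D)) (z : FEt.fiberObj ξ (Q D)).1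
      refine ⟨(⟨s, ?_⟩ : FEt.fiberObj ξ _), Subtype.ext hs⟩
      rw [← toQuot_π _ (σD D) (hσD D), reassoc_of% hs]
      exact (z : FEt.fiberObj ξ (Q D)).2
    exact
      { desc := fun s => FintypeCat.homMk fun z => s.ι.app (SingleObj.star G) (hsurj z).choose
        fac := fun s j => by
          refine FintypeCat.hom_ext _ _ fun y => ?_
          show s.ι.app (SingleObj.star G) (hsurj _).choose = s.ι.app (SingleObj.star G) y
          obtain ⟨g, hg⟩ := exists_smul_point _ (σD D) (hσD D)
            (y : FEt.fiberObj ξ (D.obj (SingleObj.star G))).1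
            (hsurj ((fiberFin ξ).map (toQ D) y)).choose.1
            (congrArg Subtype.val (hsurj ((fiberFin ξ).map (toQ D) y)).choose_spec).symm
          have hy : (hsurj ((fiberFin ξ).map (toQ D) y)).choose =
              (D ⋙ fiberFin ξ).map (show SingleObj.star G ⟶ SingleObj.star G from g) y := Subtype.ext hg
          exact (congrArg (s.ι.app (SingleObj.star G)) hy).trans
            (ConcreteCategory.congr_hom (s.w (show SingleObj.star G ⟶ SingleObj.star G from g)) y)
        uniq := fun s m hm => by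
          refine FintypeCat.hom_ext _ _ fun z => ?_
          obtain ⟨y, hy⟩ : ∃ y, y = (hsurj z).choose := ⟨_, rfl⟩
          show m z = s.ι.app (SingleObj.star G) (hsurj z).choose
          rw [← ConcreteCategory.congr_hom (hm (SingleObj.star G)) (hsurj z).choose]
          show m z = m _
          exact congrArg m (hsurj z).choose_spec.symm }

omit [IsAlgClosed Ω] [ConnectedSpace X] in
theorem preservesFiniteCoproducts_fiberFin : PreservesFiniteCoproducts (fiberFin ξ) := by
  classical
  haveI : PreservesColimitsOfShape (Discrete PEmpty.{1}) (fiberFin ξ) := by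
    refine @preservesColimitsOfShape_pempty_of_preservesInitial _ _ _ _ _ ?_
    haveI : IsEmpty ((fiberFin ξ).obj (emptyObj X)) := ⟨fun s =>
      (inferInstance : IsEmpty (∅ : Scheme.{u})).false
        ((s : FEt.fiberObj ξ (emptyObj X)).1 (IsLocalRing.closedPoint Ω))⟩
    refine preservesColimit_of_preserves_colimit_cocone (isInitialEmptyObj X) ?_
    refine (isColimitMapCoconeEmptyCoconeEquiv _ _).symm ?_
    exact IsInitial.ofUniqueHom (fun T => FintypeCat.homMk isEmptyElim) fun T m => FintypeCat.hom_ext _ _ isEmptyElim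
  haveI : PreservesColimitsOfShape (Discrete WalkingPair) (fiberFin ξ) := by
    refine ⟨fun {K} => ?_⟩
    suffices ∀ Y Z : FEt.Cat X, PreservesColimit (pair Y Z) (fiberFin ξ) from
      haveI := this (K.obj ⟨.left⟩) (K.obj ⟨.right⟩)
      preservesColimit_of_iso_diagram _ (diagramIsoPair K).symm
    intro Y Z
    let l₀ : Y.left ⟶ Y.left ⨿ Z.left := coprod.inl
    let r₀ : Z.left ⟶ Y.left ⨿ Z.left := coprod.inr
    let pt := IsLocalRing.closedPoint Ω
    have hl : l₀ ≫ (coprodObj Y Z).hom = Y.hom := coprod.inl_desc _ _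
    have hr : r₀ ≫ (coprodObj Y Z).hom = Z.hom := coprod.inr_desc _ _
    have key : ∀ w : FEt.fiberObj ξ (coprodObj Y Z), (∃ y : FEt.fiberObj ξ Y, y.1 ≫ l₀ = w.1) ∨
        (∃ z : FEt.fiberObj ξ Z, z.1 ≫ r₀ = w.1) := fun w => by
      obtain ⟨v, hv⟩ := (coprodMk Y.left Z.left).surjective (w.1 pt)
      rcases v with y | z
      · rw [coprodMk_inl] at hv
        refine Or.inl ⟨⟨IsOpenImmersion.lift l₀ w.1 ?_, ?_⟩, IsOpenImmersion.lift_fac _ _ _⟩
        · rintro _ ⟨v, rfl⟩; exact ⟨y, hv.trans (congrArg w.1 (Subsingleton.elim (α := PrimeSpectrum Ω) pt v))⟩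
        · rw [← hl, IsOpenImmersion.lift_fac_assoc]; exact w.2
      · rw [coprodMk_inr] at hv
        refine Or.inr ⟨⟨IsOpenImmersion.lift r₀ w.1 ?_, ?_⟩, IsOpenImmersion.lift_fac _ _ _⟩
        · rintro _ ⟨v, rfl⟩; exact ⟨z, hv.trans (congrArg w.1 (Subsingleton.elim (α := PrimeSpectrum Ω) pt v))⟩
        · rw [← hr, IsOpenImmersion.lift_fac_assoc]; exact w.2
    refine preservesColimit_of_preserves_colimit_cocone (isColimitCoprodCofan Y Z) ?_
    refine (isColimitMapCoconeBinaryCofanEquiv _ _ _).symm (BinaryCofan.isColimitMk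
      (fun s => FintypeCat.homMk fun w =>
        if h : ∃ y : FEt.fiberObj ξ Y, y.1 ≫ l₀ = (w : FEt.fiberObj ξ (coprodObj Y Z)).1 then s.inl h.choose
        else s.inr ((key w).resolve_left h).choose) ?_ ?_ ?_)
    · intro s; refine FintypeCat.hom_ext _ _ fun y => ?_
      show dite _ _ _ = s.inl y
      rw [dif_pos ⟨y, rfl⟩]
      exact congrArg s.inl (Subtype.ext ((cancel_mono l₀).mp (Exists.choose_spec (⟨y, rfl⟩ :
        ∃ y' : FEt.fiberObj ξ Y, y'.1 ≫ l₀ = (y : FEt.fiberObj ξ Y).1 ≫ l₀))))
    · intro s; refine FintypeCat.hom_ext _ _ fun z => ?_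
      show dite _ _ _ = s.inr z
      have hn : ¬ ∃ y : FEt.fiberObj ξ Y, y.1 ≫ l₀ = (z : FEt.fiberObj ξ Z).1 ≫ r₀ := fun ⟨y, hy⟩ =>
        AlgebraicGeometry.inl_ne_inr _ _ _ _
          (congrArg (fun k : Spec (CommRingCat.of Ω) ⟶ Y.left ⨿ Z.left => k pt) hy)
      refine (dif_neg hn).trans ?_
      exact congrArg s.inr (Subtype.ext ((cancel_mono r₀).mp (Exists.choose_spec (⟨z, rfl⟩ :
        ∃ z' : FEt.fiberObj ξ Z, z'.1 ≫ r₀ = (z : FEt.fiberObj ξ Z).1 ≫ r₀))))
    · intro s m h1 h2
      refine FintypeCat.hom_ext _ _ fun w => ?_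
      show m w = dite _ _ _
      split_ifs with hy
      · exact (congrArg m (Subtype.ext hy.choose_spec.symm)).trans (ConcreteCategory.congr_hom h1 hy.choose)
      · exact (congrArg m (Subtype.ext ((key w).resolve_left hy).choose_spec.symm)).trans
          (ConcreteCategory.congr_hom h2 ((key w).resolve_left hy).choose)
  exact ⟨fun n => PreservesFiniteCoproducts.of_preserves_binary_and_initial (fiberFin ξ) (Fin n)⟩

/-- Finite étale covers of a connected scheme form a Galois category. -/
theorem fiberFunctor :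
    letI := preGaloisCategory X
    Nonempty (PreGaloisCategory.FiberFunctor (fiberFin ξ)) := by
  letI := preGaloisCategory X
  haveI := preservesFiniteLimits_fiberFin ξ
  haveI := reflectsIsomorphisms_fiberFin ξ
  haveI := preservesEpis_fiberFin ξ
  haveI := preservesFiniteCoproducts_fiberFin ξ
  exact ⟨{ preservesQuotientsByFiniteGroups := fun G _ _ => preservesQuotients_fiberFin ξ G }⟩

end Groth.Agent.FEtQuot
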