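import Groth.Agent.FEtQuot.FiniteColimits
import Groth.Agent.FEtQuot.Fiber

/-!
# Restriction of finite étale covers is exact
-/

set_option autoImplicit false
set_option linter.style.haveILetI false
set_option backward.isDefEq.respectTransparency.types false
set_option backward.isDefEq.respectTransparency false
universe u

open CategoryTheory CategoryTheory.Limits AlgebraicGeometry TopologicalSpace Opposite
open scoped TensorProduct

namespace Groth.Agent.FEtQuot

namespace Endo

section algebra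

variable {R : Type u} [CommRing R] {A : Type u} [CommRing A] [Algebra R A] [Algebra.Etale R A]
  [Module.Finite R A] {ι : Type u} [Finite ι] (σ : ι → (A →ₐ[R] A))
  {Ω : Type u} [Field Ω] [IsAlgClosed Ω] [Algebra R Ω]

/-- Geometric points with the same restriction to the invariants are related by the endomorphisms. -/
theorem eqvGen_of_restrict_eq (φ₁ φ₂ : A →ₐ[R] Ω) (h : ∀ a ∈ SchFinLib.invSub σ, φ₁ a = φ₂ a) :
    Relation.EqvGen (fun a b => ∃ g, a.comp (σ g) = b) φ₁ φ₂ := by
  classical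
  obtain ⟨T, _, _, hff, hpoint, n, π, hπ⟩ := exists_split R A
  obtain ⟨θ⟩ := hpoint Ω
  let P : Ideal T := RingHom.ker θ
  haveI : P.IsPrime := RingHom.ker_isPrime θ
  let L := Localization.AtPrime P
  haveI : Module.Flat R L := SchFinLib.flat_atPrime (R := R) P
  let c := Algebra.TensorProduct.cancelBaseChange R T L L A
  let πL : (Fin n → L) →ₐ[L] L ⊗[R] A :=
    ((c.toAlgHom).comp (Algebra.TensorProduct.map (AlgHom.id L L) π)).comp
      ((Algebra.TensorProduct.piRight T L L (fun _ : Fin n => T)).trans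
        (AlgEquiv.piCongrRight fun _ => Algebra.TensorProduct.rid T L L)).symm.toAlgHom
  have hπL : Function.Surjective πL := by
    refine (c.surjective.comp ?_).comp (AlgEquiv.surjective _)
    exact Algebra.TensorProduct.map_surjective (R := T) (f := AlgHom.id L L) (g := π) Function.surjective_id hπ
  obtain ⟨m, ⟨eP⟩⟩ := exists_equiv_pi πL hπL
  let θL : L →+* Ω := IsLocalization.lift (M := P.primeCompl) (g := θ.toRingHom)
    fun y => isUnit_iff_ne_zero.mpr fun hy => y.2 hy
  letI : Algebra L Ω := θL.toAlgebra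
  haveI : IsScalarTower R L Ω := .of_algebraMap_eq fun r => by
    show _ = θL (algebraMap R L r)
    rw [IsScalarTower.algebraMap_apply R T L, IsLocalization.lift_eq]
    exact (θ.commutes r).symm
  obtain ⟨ρ, hρ, E, hE⟩ := SchFinLib.invariants_split σ L eP
  let pt : Fin m → (A →ₐ[R] Ω) := fun i =>
    { toFun := fun a => θL (eP (1 ⊗ₜ a) i)
      map_one' := by rw [← Algebra.TensorProduct.one_def, map_one]; exact map_one θL
      map_mul' := fun a b => by
        rw [show ((1 : L) ⊗ₜ[R] (a * b)) = (1 ⊗ₜ a) * (1 ⊗ₜ b) by simp, map_mul, Pi.mul_apply,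
          map_mul]
      map_zero' := by simp
      map_add' := fun a b => by simp [TensorProduct.tmul_add]
      commutes' := fun r => by
        rw [← Algebra.TensorProduct.algebraMap_apply', IsScalarTower.algebraMap_apply R L (L ⊗[R] A),
          eP.commutes]
        exact (IsScalarTower.algebraMap_apply R L Ω r).symm }
  have hpt : ∀ φ : A →ₐ[R] Ω, ∃ i, pt i = φ := by
    intro φ
    let Ψ : (Fin m → L) →ₐ[L] Ω := (Algebra.TensorProduct.lift (Algebra.ofId L Ω) φ
      fun _ _ => Commute.all _ _).comp eP.symm.toAlgHom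
    obtain ⟨i, hi⟩ : ∃ i, Ψ (Pi.single i 1) ≠ 0 := by
      by_contra hh
      push Not at hh
      have : Ψ (∑ j, Pi.single j (1 : L)) = 0 := by
        rw [map_sum]; exact Finset.sum_eq_zero fun j _ => hh j
      rw [Finset.univ_sum_single (fun _ : Fin m => (1 : L))] at this
      exact one_ne_zero ((map_one Ψ).symm.trans this)
    refine ⟨i, AlgHom.ext fun a => ?_⟩
    show θL (eP (1 ⊗ₜ a) i) = φ a
    set v := eP ((1 : L) ⊗ₜ a)
    have hmul : v * Pi.single i 1 = v i • (Pi.single i 1 : Fin m → L) := by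
      funext j
      by_cases hj : j = i
      · subst hj; simp
      · simp [Pi.single_eq_of_ne hj]
    have h2 := congrArg Ψ hmul
    rw [map_mul, map_smul, Algebra.smul_def] at h2
    have h3 : Ψ v = θL (v i) := mul_right_cancel₀ hi h2
    rw [← h3]
    simp [Ψ, v]
  obtain ⟨i, rfl⟩ := hpt φ₁
  obtain ⟨j, rfl⟩ := hpt φ₂
  have key : ∀ c : L ⊗[R] SchFinLib.invSub σ, θL (E c (Quot.mk _ i)) = θL (E c (Quot.mk _ j)) := by
    intro c
    rw [← hE, ← hE]
    induction c using TensorProduct.induction_on with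
    | zero => simp
    | tmul l a =>
        have hl : Algebra.TensorProduct.map (AlgHom.id L L) (SchFinLib.invSub σ).val (l ⊗ₜ a) =
            l • ((1 : L) ⊗ₜ[R] (a : A)) := by simp [TensorProduct.smul_tmul']
        rw [hl, map_smul, Pi.smul_apply, Pi.smul_apply, smul_eq_mul, smul_eq_mul, map_mul, map_mul]
        exact congrArg (θL l * ·) (h a a.2)
    | add x y hx hy => simp only [map_add, Pi.add_apply, hx, hy]
  have hij : Quot.mk (fun i j => ∃ g, ρ g i = j) i = Quot.mk _ j := by
    by_contra hne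
    obtain ⟨c, hc⟩ := E.surjective (Pi.single (Quot.mk _ i) 1)
    have := key c
    rw [hc, Pi.single_eq_same, Pi.single_eq_of_ne (Ne.symm hne), map_one, map_zero] at this
    exact one_ne_zero this
  have hmap : ∀ a b : Fin m, Relation.EqvGen (fun i j => ∃ g, ρ g i = j) a b →
      Relation.EqvGen (fun a b => ∃ g, a.comp (σ g) = b) (pt a) (pt b) := by
    intro a b hab
    induction hab with
    | rel x y hxy =>
        obtain ⟨g, rfl⟩ := hxy
        refine .rel _ _ ⟨g, AlgHom.ext fun z => ?_⟩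
        show θL (eP (1 ⊗ₜ σ g z) x) = θL (eP (1 ⊗ₜ z) (ρ g x))
        rw [← hρ]
        simp
    | refl x => exact .refl _
    | symm x y _ ih => exact .symm _ _ ih
    | trans x y z _ _ ih1 ih2 => exact .trans _ _ _ ih1 ih2
  exact hmap i j (Quot.eqvGen_exact hij)

end algebra

section scheme

variable {X Y : Scheme.{u}} (f : Y ⟶ X) {G : Type u} (σ : G → (Y ⟶ Y))
  (hσ : ∀ g, σ g ≫ f = f) [Finite G] [IsFinite f] [Etale f]

/-- Geometric points with the same image in the quotient are related by the endomorphisms. -/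
theorem exists_eqvGen {Ω : Type u} [Field Ω] [IsAlgClosed Ω] (s t : Spec (CommRingCat.of Ω) ⟶ Y)
    (h : s ≫ toQuot f σ hσ = t ≫ toQuot f σ hσ) :
    Relation.EqvGen (fun a b => ∃ g, a ≫ σ g = b) s t := by
  let x := (s ≫ f) (IsLocalRing.closedPoint Ω)
  obtain ⟨U, hU, hx, -⟩ := exists_isAffineOpen_mem_and_subset (x := x) (U := (⊤ : X.Opens)) trivial
  have hst : s ≫ f = t ≫ f := by rw [← toQuot_π f σ hσ, reassoc_of% h]
  have hrange : ∀ r : Spec (CommRingCat.of Ω) ⟶ Y, r ≫ f = s ≫ f → Set.range r ⊆ Set.range (hU.preimage f).fromSpec := by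
    rintro r hr _ ⟨z, rfl⟩
    rw [IsAffineOpen.range_fromSpec]
    show (r ≫ f) z ∈ U
    rw [hr, Subsingleton.elim z (IsLocalRing.closedPoint Ω)]
    exact hx
  obtain ⟨φ, rfl⟩ : ∃ φ, Spec.map φ ≫ (hU.preimage f).fromSpec = s :=
    ⟨Spec.preimage (IsOpenImmersion.lift _ s (hrange s rfl)), by rw [Spec.map_preimage, IsOpenImmersion.lift_fac]⟩
  obtain ⟨ψ, rfl⟩ : ∃ ψ, Spec.map ψ ≫ (hU.preimage f).fromSpec = t :=
    ⟨Spec.preimage (IsOpenImmersion.lift _ t (hrange t hst.symm)), by rw [Spec.map_preimage, IsOpenImmersion.lift_fac]⟩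
  simp only [Category.assoc, fromSpec_toQuot f σ hσ U hU] at h
  rw [← Category.assoc, ← Category.assoc] at h
  have hinv := Spec.map_injective (show Spec.map ((invι f σ hσ).app (op U) ≫ φ) = Spec.map ((invι f σ hσ).app (op U) ≫ ψ) by
    rw [Spec.map_comp, Spec.map_comp]; exact (cancel_mono _).mp h)
  letI := (f.app U).hom.toAlgebra
  letI : Algebra Γ(X, U) Ω := (f.app U ≫ φ).hom.toAlgebra
  haveI : Module.Finite Γ(X, U) Γ(Y, f ⁻¹ᵁ U) := IsFinite.finite_app f U hU
  haveI : Algebra.Etale Γ(X, U) Γ(Y, f ⁻¹ᵁ U) := RingHom.etale_algebraMap.mp (by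
    have := f.etale_appLE hU (hU.preimage f) le_rfl
    rw [← Scheme.Hom.app_eq_appLE] at this
    exact this)
  let σ' : G → (Γ(Y, f ⁻¹ᵁ U) →ₐ[Γ(X, U)] Γ(Y, f ⁻¹ᵁ U)) := fun g =>
    ⟨(act f σ hσ g U).hom, fun r => ConcreteCategory.congr_hom (app_act f σ hσ g U) r⟩
  let Φ : Γ(Y, f ⁻¹ᵁ U) →ₐ[Γ(X, U)] Ω := ⟨φ.hom, fun r => rfl⟩
  let Ψ : Γ(Y, f ⁻¹ᵁ U) →ₐ[Γ(X, U)] Ω := ⟨ψ.hom, fun r =>
    (ConcreteCategory.congr_hom hinv ((invStr f σ hσ).app (op U) r)).symm⟩
  have hEG := eqvGen_of_restrict_eq σ' Φ Ψ fun a ha =>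
    ConcreteCategory.congr_hom hinv (⟨a, fun g => ha g⟩ : invariants f σ hσ U)
  let F : (Γ(Y, f ⁻¹ᵁ U) →ₐ[Γ(X, U)] Ω) → (Spec (CommRingCat.of Ω) ⟶ Y) := fun a =>
    Spec.map (CommRingCat.ofHom a.toRingHom) ≫ (hU.preimage f).fromSpec
  have hmap : ∀ a b, Relation.EqvGen (fun a b => ∃ g, a.comp (σ' g) = b) a b →
      Relation.EqvGen (fun a b => ∃ g, a ≫ σ g = b) (F a) (F b) := by
    intro a b hab
    induction hab with
    | rel a b hab =>
        obtain ⟨g, rfl⟩ := hab
        refine .rel _ _ ⟨g, ?_⟩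
        have e : CommRingCat.ofHom (a.comp (σ' g)).toRingHom = act f σ hσ g U ≫ CommRingCat.ofHom a.toRingHom := rfl
        show (Spec.map _ ≫ _) ≫ σ g = Spec.map _ ≫ _
        rw [e, Spec.map_comp, Category.assoc, Category.assoc]
        congr 1
        exact (IsAffineOpen.SpecMap_appLE_fromSpec _ (hU.preimage f) (hU.preimage f) (preimage_le f σ hσ g U)).symm
    | refl x => exact .refl _
    | symm x y _ ih => exact .symm _ _ ih
    | trans x y z _ _ ih1 ih2 => exact .trans _ _ _ ih1 ih2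
  exact hmap Φ Ψ hEG

end scheme

end Endo

section coequalizer

variable {X : Scheme.{u}} {Ω : Type u} [Field Ω] (ξ : Spec (CommRingCat.of Ω) ⟶ X) {Y Z : FEt.Cat X}

/-- The collapsing map. -/
noncomputable def collapse (k : Y ⟶ Z) : coprodObj Z Y ⟶ Z :=
  MorphismProperty.Over.homMk (coprod.desc (𝟙 Z.left) k.left) (by
    show coprod.desc (𝟙 Z.left) k.left ≫ Z.hom = coprod.desc Z.hom Y.hom
    refine coprod.hom_ext ?_ ?_
    · rw [coprod.inl_desc_assoc, coprod.inl_desc, Category.id_comp]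
    · rw [coprod.inr_desc_assoc, coprod.inr_desc]; exact hom_w k)

theorem coqEndo_eq_collapse (a b : Y ⟶ Z) (s : ULift.{u} Bool) :
    coqEndo a b s = (collapse (bif s.down then a else b)).left ≫ coprod.inl := by
  refine coprod.hom_ext (X := Z.left) (Y := Y.left) ?_ ?_
  · show coprod.inl ≫ coprod.desc _ _ = coprod.inl ≫ coprod.desc _ _ ≫ _
    rw [coprod.inl_desc, coprod.inl_desc_assoc, Category.id_comp]
    rfl
  · show coprod.inr ≫ coprod.desc _ _ = coprod.inr ≫ coprod.desc _ _ ≫ _
    rw [coprod.inr_desc, coprod.inr_desc_assoc]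

theorem inl_collapse (k : Y ⟶ Z) : (coprodCofan Z Y).inl ≫ collapse k = 𝟙 Z :=
  MorphismProperty.Over.Hom.ext (coprod.inl_desc _ _)

theorem inr_collapse (k : Y ⟶ Z) : (coprodCofan Z Y).inr ≫ collapse k = k :=
  MorphismProperty.Over.Hom.ext (coprod.inr_desc _ _)

variable [IsAlgClosed Ω]

theorem surjective_fiber_toCoq (a b : Y ⟶ Z) : Function.Surjective ((fiberFin ξ).map (toCoq a b)) := fun z => by
  haveI := (Endo.prop_toQuot coqStr (coqEndo a b) (coqEndo_w a b)).1
  haveI := Endo.surjective_toQuot coqStr (coqEndo a b) (coqEndo_w a b)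
  obtain ⟨s, hs⟩ := exists_point (Endo.toQuot coqStr (coqEndo a b) (coqEndo_w a b))
    (z : FEt.fiberObj ξ (coqObj a b)).1
  have hs' : s ≫ (coprodObj Z Y).hom = ξ := by
    rw [show (coprodObj Z Y).hom = coqStr (Y := Y) (Z := Z) from rfl, ← Endo.toQuot_π coqStr (coqEndo a b) (coqEndo_w a b),
      reassoc_of% hs]
    exact (z : FEt.fiberObj ξ (coqObj a b)).2
  refine ⟨(fiberFin ξ).map (collapse a) (⟨s, hs'⟩ : FEt.fiberObj ξ (coprodObj Z Y)), Subtype.ext ?_⟩
  show (s ≫ (collapse a).left) ≫ coprod.inl ≫ Endo.toQuot coqStr (coqEndo a b) (coqEndo_w a b) = _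
  refine Eq.trans ?_ hs
  conv_rhs => rw [← Endo.act_toQuot coqStr (coqEndo a b) (coqEndo_w a b) ⟨true⟩, coqEndo_eq_collapse a b ⟨true⟩]
  simp only [cond_true, Category.assoc]

theorem fiber_toCoq_desc (a b : Y ⟶ Z) {T : FintypeCat.{u}} (k : (fiberFin ξ).obj Z ⟶ T)
    (hk : (fiberFin ξ).map a ≫ k = (fiberFin ξ).map b ≫ k) (y₁ y₂ : (fiberFin ξ).obj Z)
    (h : (fiberFin ξ).map (toCoq a b) y₁ = (fiberFin ξ).map (toCoq a b) y₂) : k y₁ = k y₂ := by
  haveI := preservesFiniteCoproducts_fiberFin (X := X) ξ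
  have hc : ∀ s : Bool, (fiberFin ξ).map (collapse (bif s then a else b)) ≫ k = (fiberFin ξ).map (collapse a) ≫ k := by
    intro s
    refine BinaryCofan.IsColimit.hom_ext
      (isColimitMapCoconeBinaryCofanEquiv _ _ _ (isColimitOfPreserves (fiberFin ξ) (isColimitCoprodCofan Z Y))) ?_ ?_
    · show (fiberFin ξ).map (coprodCofan Z Y).inl ≫ _ = (fiberFin ξ).map (coprodCofan Z Y).inl ≫ _
      simp only [← Functor.map_comp_assoc, inl_collapse]
    · show (fiberFin ξ).map (coprodCofan Z Y).inr ≫ _ = (fiberFin ξ).map (coprodCofan Z Y).inr ≫ _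
      simp only [← Functor.map_comp_assoc, inr_collapse]
      cases s
      · exact hk.symm
      · rfl
  let v₁ : FEt.fiberObj ξ Z := y₁
  let v₂ : FEt.fiberObj ξ Z := y₂
  let l : Z.left ⟶ (coprodObj Z Y).left := coprod.inl
  have hl : l ≫ (coprodObj Z Y).hom = Z.hom := coprod.inl_desc _ _
  have hq : (v₁.1 ≫ l) ≫ Endo.toQuot coqStr (coqEndo a b) (coqEndo_w a b) =
      (v₂.1 ≫ l) ≫ Endo.toQuot coqStr (coqEndo a b) (coqEndo_w a b) :=
    (Category.assoc _ _ _).trans ((congrArg Subtype.val h).trans (Category.assoc _ _ _).symm)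
  have main : ∀ p q, Relation.EqvGen (fun p q => ∃ g, p ≫ coqEndo a b g = q) p q →
      p ≫ (coprodObj Z Y).hom = q ≫ (coprodObj Z Y).hom ∧
      ∀ (hp : p ≫ (coprodObj Z Y).hom = ξ) (hq : q ≫ (coprodObj Z Y).hom = ξ),
        k ((fiberFin ξ).map (collapse a) (⟨p, hp⟩ : FEt.fiberObj ξ (coprodObj Z Y))) =
          k ((fiberFin ξ).map (collapse a) (⟨q, hq⟩ : FEt.fiberObj ξ (coprodObj Z Y))) := by
    intro p q hpq
    induction hpq with
    | rel p q hpq =>
        obtain ⟨g, rfl⟩ := hpq
        refine ⟨by rw [Category.assoc]; exact congrArg (p ≫ ·) (coqEndo_w a b g).symm, fun hp hq => ?_⟩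
        refine ((ConcreteCategory.congr_hom (hc g.down) (⟨p, hp⟩ : FEt.fiberObj ξ (coprodObj Z Y))).symm.trans ?_)
        refine congrArg k (Subtype.ext ?_)
        show p ≫ (collapse (bif g.down then a else b)).left = (p ≫ coqEndo a b g) ≫ coprod.desc (𝟙 Z.left) a.left
        rw [Category.assoc, coqEndo_eq_collapse, Category.assoc, coprod.inl_desc, Category.comp_id]
    | refl p => exact ⟨rfl, fun _ _ => rfl⟩
    | symm p q _ ih => exact ⟨ih.1.symm, fun hp hq => (ih.2 hq hp).symm⟩
    | trans p q r _ _ ih₁ ih₂ =>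
        exact ⟨ih₁.1.trans ih₂.1, fun hp hr => (ih₁.2 hp (ih₂.1.trans hr)).trans (ih₂.2 _ hr)⟩
  have hret : ∀ v : FEt.fiberObj ξ Z, ∀ hv : (v.1 ≫ l) ≫ (coprodObj Z Y).hom = ξ,
      (fiberFin ξ).map (collapse a) (⟨v.1 ≫ l, hv⟩ : FEt.fiberObj ξ (coprodObj Z Y)) = v := fun v hv => by
    refine Subtype.ext ?_
    show (v.1 ≫ coprod.inl) ≫ coprod.desc (𝟙 Z.left) a.left = v.1
    rw [Category.assoc, coprod.inl_desc, Category.comp_id]
  have h1 : (v₁.1 ≫ l) ≫ (coprodObj Z Y).hom = ξ := by rw [Category.assoc, hl]; exact v₁.2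
  have h2 : (v₂.1 ≫ l) ≫ (coprodObj Z Y).hom = ξ := by rw [Category.assoc, hl]; exact v₂.2
  have := (main _ _ (Endo.exists_eqvGen coqStr (coqEndo a b) (coqEndo_w a b) _ _ hq)).2 h1 h2
  rw [hret v₁ h1, hret v₂ h2] at this
  exact this

theorem preservesCoequalizer_fiberFin (a b : Y ⟶ Z) : PreservesColimit (parallelPair a b) (fiberFin ξ) := by
  obtain ⟨hc⟩ := nonempty_isColimit_toCoq a b
  refine preservesColimit_of_preserves_colimit_cocone hc ?_
  refine (isColimitMapCoconeCoforkEquiv _ _).symm (Cofork.IsColimit.mk _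
    (fun c => FintypeCat.homMk fun z => c.π (surjective_fiber_toCoq ξ a b z).choose)
    (fun c => FintypeCat.hom_ext _ _ fun y => ?_) (fun c m hm => FintypeCat.hom_ext _ _ fun z => ?_))
  · exact fiber_toCoq_desc ξ a b c.π c.condition _ _
      (surjective_fiber_toCoq ξ a b ((fiberFin ξ).map (toCoq a b) y)).choose_spec
  · exact (congrArg m (surjective_fiber_toCoq ξ a b z).choose_spec.symm).trans
      (ConcreteCategory.congr_hom hm _)

/-- Fibre functors are right exact over an arbitrary base. -/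
theorem preservesFiniteColimits_fiberFin : PreservesFiniteColimits (fiberFin ξ) := by
  haveI := (hasFiniteLimits_colimits X).2
  haveI : HasCoequalizers (FEt.Cat X) := inferInstance
  haveI := preservesFiniteCoproducts_fiberFin (X := X) ξ
  haveI : PreservesColimitsOfShape WalkingParallelPair (fiberFin ξ) := ⟨fun {K} =>
    haveI := preservesCoequalizer_fiberFin ξ (K.map WalkingParallelPairHom.left) (K.map WalkingParallelPairHom.right)
    preservesColimit_of_iso_diagram _ (diagramIsoParallelPair K).symm⟩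
  exact preservesFiniteColimits_of_preservesCoequalizers_and_finiteCoproducts _

end coequalizer

section conservative

variable {X : Scheme.{u}}

/-- A geometric point at each point of a scheme. -/
theorem exists_geometric_point {W : Scheme.{u}} (z : W) :
    ∃ (Ω : Type u) (_ : Field Ω) (_ : IsAlgClosed Ω) (s : Spec (CommRingCat.of Ω) ⟶ W),
      s (IsLocalRing.closedPoint Ω) = z :=
  ⟨AlgebraicClosure (W.residueField z), inferInstance, inferInstance,
    Spec.map (CommRingCat.ofHom (algebraMap (W.residueField z) (AlgebraicClosure (W.residueField z)))) ≫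
      W.fromSpecResidueField z, by
    rw [Scheme.Hom.comp_apply]
    exact W.fromSpecResidueField_apply z _⟩

/-- All geometric fibres together detect isomorphisms. -/
theorem isIso_of_fibres {Y Z : FEt.Cat X} (q : Y ⟶ Z)
    (h : ∀ (Ω : Type u) [Field Ω] [IsAlgClosed Ω] (ξ : Spec (CommRingCat.of Ω) ⟶ X),
      Function.Bijective ((fiberFin ξ).map q)) : IsIso q := by
  haveI := isFinite_left q
  haveI := etale_left q
  haveI : Surjective q.left := by
    refine ⟨fun z => ?_⟩
    obtain ⟨Ω, _, _, s, hs⟩ := exists_geometric_point z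
    obtain ⟨t, ht⟩ := (h Ω (s ≫ Z.hom)).2 (⟨s, rfl⟩ : FEt.fiberObj (s ≫ Z.hom) Z)
    refine ⟨(t : FEt.fiberObj (s ≫ Z.hom) Y).1 (IsLocalRing.closedPoint Ω), ?_⟩
    rw [← hs]
    exact congrArg (fun k : Spec (CommRingCat.of Ω) ⟶ Z.left => k (IsLocalRing.closedPoint Ω)) (congrArg Subtype.val ht)
  haveI : UniversallyInjective q.left := by
    rw [UniversallyInjective.iff_diagonal]
    refine ⟨fun z => ?_⟩
    obtain ⟨Ω, _, _, a, ha⟩ := exists_geometric_point z
    let ξ := a ≫ pullback.fst q.left q.left ≫ Y.hom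
    have hb' : (a ≫ pullback.snd q.left q.left) ≫ Y.hom = ξ := by
      simp only [ξ]
      rw [← hom_w q, Category.assoc, ← pullback.condition_assoc]
    have heq := (h Ω ξ).1 (a₁ := (⟨a ≫ pullback.fst _ _, Category.assoc _ _ _⟩ : FEt.fiberObj ξ Y))
      (a₂ := (⟨a ≫ pullback.snd _ _, hb'⟩ : FEt.fiberObj ξ Y)) (Subtype.ext (by
        show (a ≫ pullback.fst q.left q.left) ≫ q.left = (a ≫ pullback.snd q.left q.left) ≫ q.left
        simp only [Category.assoc, pullback.condition]))
    have e : a = (a ≫ pullback.fst q.left q.left) ≫ pullback.diagonal q.left :=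
      pullback.hom_ext (by simp) (by simpa using (congrArg Subtype.val heq).symm)
    exact ⟨_, ((congrArg (fun k : Spec (CommRingCat.of Ω) ⟶ pullback q.left q.left => k (IsLocalRing.closedPoint Ω)) e).symm).trans ha⟩
  haveI := Groth.Agent.FEtLib.isOpenImmersion_of_etale_universallyInjective q.left
  haveI : IsIso q.left := by
    haveI : Epi q.left.base := (TopCat.epi_iff_surjective _).mpr q.left.surjective
    exact IsOpenImmersion.isIso _
  haveI : IsIso ((MorphismProperty.Over.forget FEt.prop ⊤ X ⋙ Over.forget X).map q) := ‹_›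
  exact isIso_of_reflects_iso q (MorphismProperty.Over.forget FEt.prop ⊤ X ⋙ Over.forget X)

end conservative

section restrict

variable {X Y : Scheme.{u}} (f : X ⟶ Y) {Ω : Type u} [Field Ω] (ξ : Spec (CommRingCat.of Ω) ⟶ X)

/-- The fibres of a base change. -/
noncomputable def restrictFiberIso : FEt.restrict f ⋙ fiberFin ξ ≅ fiberFin (ξ ≫ f) :=
  NatIso.ofComponents (fun T => FintypeCat.equivEquivIso
    { toFun := fun s => (⟨(s : FEt.fiberObj ξ ((FEt.restrict f).obj T)).1 ≫ pullback.fst T.hom f, by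
          rw [Category.assoc, pullback.condition, ← Category.assoc]
          exact congrArg (· ≫ f) (s : FEt.fiberObj ξ ((FEt.restrict f).obj T)).2⟩ : FEt.fiberObj (ξ ≫ f) T)
      invFun := fun t => (⟨pullback.lift (t : FEt.fiberObj (ξ ≫ f) T).1 ξ (t : FEt.fiberObj (ξ ≫ f) T).2,
          pullback.lift_snd _ _ _⟩ : FEt.fiberObj ξ ((FEt.restrict f).obj T))
      left_inv := fun s => Subtype.ext (pullback.hom_ext (pullback.lift_fst _ _ _)
        ((pullback.lift_snd _ _ _).trans (s : FEt.fiberObj ξ ((FEt.restrict f).obj T)).2.symm))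
      right_inv := fun t => Subtype.ext (pullback.lift_fst _ _ _) })
    fun {S T} k => FintypeCat.hom_ext _ _ fun s => Subtype.ext (by
      show ((s : FEt.fiberObj ξ ((FEt.restrict f).obj S)).1 ≫ pullback.lift _ _ _) ≫ pullback.fst T.hom f =
        ((s : FEt.fiberObj ξ ((FEt.restrict f).obj S)).1 ≫ pullback.fst S.hom f) ≫ k.left
      simp only [Category.assoc, pullback.lift_fst])

end restrict

/-- Base change of finite étale covers preserves finite limits and finite colimits. -/
theorem restrict_exact {X Y : Scheme.{u}} (f : X ⟶ Y) :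
    PreservesFiniteLimits (FEt.restrict f) ∧ PreservesFiniteColimits (FEt.restrict f) := by
  haveI := (hasFiniteLimits_colimits X).2
  haveI := (hasFiniteLimits_colimits Y).2
  constructor
  · refine ⟨fun J _ _ => ⟨fun {K} => ?_⟩⟩
    suffices IsIso (limit.post K (FEt.restrict f)) from preservesLimit_of_isIso_post _ _
    refine isIso_of_fibres _ fun Ω _ _ ξ => ?_
    haveI := preservesFiniteLimits_fiberFin (X := X) ξ
    haveI : PreservesFiniteLimits (FEt.restrict f ⋙ fiberFin ξ) :=
      haveI := preservesFiniteLimits_fiberFin (X := Y) (ξ ≫ f)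
      preservesFiniteLimits_of_natIso (restrictFiberIso f ξ).symm
    haveI : IsIso ((fiberFin ξ).map (limit.post K (FEt.restrict f)) ≫ limit.post (K ⋙ FEt.restrict f) (fiberFin ξ)) := by
      rw [limit.post_post]; infer_instance
    haveI : IsIso ((fiberFin ξ).map (limit.post K (FEt.restrict f))) :=
      IsIso.of_isIso_comp_right _ (limit.post (K ⋙ FEt.restrict f) (fiberFin ξ))
    exact (ConcreteCategory.isIso_iff_bijective _).mp inferInstance
  · refine ⟨fun J _ _ => ⟨fun {K} => ?_⟩⟩
    suffices IsIso (colimit.post K (FEt.restrict f)) from preservesColimit_of_isIso_post _ _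
    refine isIso_of_fibres _ fun Ω _ _ ξ => ?_
    haveI := preservesFiniteColimits_fiberFin (X := X) ξ
    haveI : PreservesFiniteColimits (FEt.restrict f ⋙ fiberFin ξ) :=
      haveI := preservesFiniteColimits_fiberFin (X := Y) (ξ ≫ f)
      preservesFiniteColimits_of_natIso (restrictFiberIso f ξ).symm
    haveI : IsIso (colimit.post (K ⋙ FEt.restrict f) (fiberFin ξ) ≫ (fiberFin ξ).map (colimit.post K (FEt.restrict f))) := by
      rw [colimit.post_post]; infer_instance
    haveI : IsIso ((fiberFin ξ).map (colimit.post K (FEt.restrict f))) :=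
      IsIso.of_isIso_comp_left (colimit.post (K ⋙ FEt.restrict f) (fiberFin ξ)) _
    exact (ConcreteCategory.isIso_iff_bijective _).mp inferInstance

end Groth.Agent.FEtQuot
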