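import Groth.Agent.FEtQuot.Fiber
import Mathlib.Topology.Connected.Clopen

/-!
# Connected objects among finite étale covers
-/

set_option autoImplicit false
set_option linter.style.haveILetI false
set_option backward.isDefEq.respectTransparency.types false
set_option backward.isDefEq.respectTransparency false
universe u

open CategoryTheory CategoryTheory.Limits AlgebraicGeometry TopologicalSpace Opposite

namespace Groth.Agent.FEtQuot

variable {X : Scheme.{u}}

/-- A monomorphism of covers is a monomorphism of schemes. -/
theorem mono_left_of_mono {Z Y : FEt.Cat X} (i : Z ⟶ Y) [Mono i] : Mono i.left := by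
  haveI := isFinite_left i
  haveI := etale_left i
  let P := mk (pullback.fst i.left i.left ≫ Z.hom)
  let a : P ⟶ Z := MorphismProperty.Over.homMk (pullback.fst i.left i.left) rfl
  let b : P ⟶ Z := MorphismProperty.Over.homMk (pullback.snd i.left i.left) (by
    show pullback.snd i.left i.left ≫ Z.hom = pullback.fst i.left i.left ≫ Z.hom
    rw [← hom_w i, ← pullback.condition_assoc])
  have hab : a = b := (cancel_mono i).mp (MorphismProperty.Over.Hom.ext pullback.condition)
  refine ⟨fun {W} g h e => ?_⟩
  have hps : pullback.fst i.left i.left = pullback.snd i.left i.left :=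
    congrArg (fun k : P ⟶ Z => k.left) hab
  calc g = pullback.lift g h e ≫ pullback.fst _ _ := (pullback.lift_fst _ _ _).symm
    _ = pullback.lift g h e ≫ pullback.snd _ _ := by rw [hps]
    _ = h := pullback.lift_snd _ _ _

/-- An empty cover is initial. -/
noncomputable def isInitialOfIsEmpty (Z : FEt.Cat X) [IsEmpty Z.left] : IsInitial Z :=
  haveI : IsIso ((isInitialEmptyObj X).to Z).left := inferInstance
  haveI : IsIso ((MorphismProperty.Over.forget FEt.prop ⊤ X ⋙ Over.forget X).map ((isInitialEmptyObj X).to Z)) := this
  haveI := isIso_of_reflects_iso ((isInitialEmptyObj X).to Z) (MorphismProperty.Over.forget FEt.prop ⊤ X ⋙ Over.forget X)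
  (isInitialEmptyObj X).ofIso (asIso ((isInitialEmptyObj X).to Z))

/-- A cover with connected total space is a connected object. -/
theorem isConnected_of_connectedSpace (Y : FEt.Cat X) [ConnectedSpace Y.left] :
    PreGaloisCategory.IsConnected Y where
  notInitial hi := by
    obtain ⟨y⟩ := (inferInstance : Nonempty Y.left)
    exact IsEmpty.false (α := (∅ : Scheme.{u})) ((hi.to (emptyObj X)).left y)
  noTrivialComponent Z i _ hZ := by
    haveI := mono_left_of_mono i
    haveI := isFinite_left i
    haveI := etale_left i
    haveI : UniversallyInjective i.left := inferInstance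
    haveI := Groth.Agent.FEtLib.isOpenImmersion_of_etale_universallyInjective i.left
    haveI : Nonempty Z.left := by
      by_contra h
      rw [not_nonempty_iff] at h
      exact hZ (isInitialOfIsEmpty Z)
    haveI : Surjective i.left :=
      ⟨Set.range_eq_univ.mp ((isClopen_range i.left).eq_univ (Set.range_nonempty _))⟩
    haveI : IsIso i.left := by
      haveI : Epi i.left.base := (TopCat.epi_iff_surjective _).mpr i.left.surjective
      exact IsOpenImmersion.isIso _
    haveI : IsIso ((MorphismProperty.Over.forget FEt.prop ⊤ X ⋙ Over.forget X).map i) := ‹_›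
    exact isIso_of_reflects_iso i (MorphismProperty.Over.forget FEt.prop ⊤ X ⋙ Over.forget X)

/-- A connected object has connected total space. -/
theorem connectedSpace_of_isConnected (Y : FEt.Cat X) [PreGaloisCategory.IsConnected Y] :
    ConnectedSpace Y.left := by
  haveI : Nonempty Y.left := by
    by_contra h
    rw [not_nonempty_iff] at h
    exact PreGaloisCategory.IsConnected.notInitial (isInitialOfIsEmpty Y)
  refine connectedSpace_iff_clopen.mpr ⟨inferInstance, fun C hC => ?_⟩
  refine or_iff_not_imp_left.mpr fun hne => ?_
  let U : Y.left.Opens := ⟨C, hC.isOpen⟩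
  haveI : IsClosedImmersion U.ι := isClosedImmersion_ι_of_isClosed U hC.isClosed
  let i : mk (U.ι ≫ Y.hom) ⟶ Y := MorphismProperty.Over.homMk U.ι rfl
  haveI : Mono i := ⟨fun a b h => MorphismProperty.Over.Hom.ext
    ((cancel_mono U.ι).mp (congrArg (fun k : _ ⟶ Y => k.left) h))⟩
  obtain ⟨y, hy⟩ := Set.nonempty_iff_ne_empty.mpr hne
  haveI : IsIso i := PreGaloisCategory.IsConnected.noTrivialComponent _ i fun hi =>
    IsEmpty.false (α := (∅ : Scheme.{u})) ((hi.to (emptyObj X)).left ⟨y, hy⟩)
  refine Set.eq_univ_of_forall fun z => ?_
  have : U.ι ((asIso i).inv.left z) = z :=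
    congrArg (fun k : Y ⟶ Y => k.left z) (asIso i).inv_hom_id
  rw [← this]
  exact ((asIso i).inv.left z).2

/-- Finite étale covers of a connected scheme with a geometric point form a Galois category. -/
theorem galoisCategory [ConnectedSpace X] :
    letI := preGaloisCategory X
    GaloisCategory (FEt.Cat X) := by
  letI := preGaloisCategory X
  obtain ⟨x⟩ := (inferInstance : Nonempty X)
  exact { hasFiberFunctor := ⟨fiberFin (Spec.map (CommRingCat.ofHom (algebraMap (X.residueField x)
    (AlgebraicClosure (X.residueField x)))) ≫ X.fromSpecResidueField x), fiberFunctor _⟩ }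

end Groth.Agent.FEtQuot
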