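import Groth.Agent.GaloisCat.EssImage
import Groth.Agent.GaloisCat.Uniq
import Groth.Agent.FEtQuot.RestrictExact
import Groth.Agent.FEtQuot.Connected

/-!
# Connected covers dominated by a cover from the base come from the base
-/

set_option autoImplicit false
set_option linter.style.haveILetI false
set_option backward.isDefEq.respectTransparency.types false
set_option backward.isDefEq.respectTransparency false
universe u

open CategoryTheory CategoryTheory.Limits AlgebraicGeometry TopologicalSpace PreGaloisCategory

namespace Groth.Agent.FEtQuot

variable {X S : Scheme.{u}} (f : X ⟶ S)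

/-- A connected cover receiving a map from the pullback of a nonempty cover of the base is a pullback,
if pullback of covers is fully faithful. -/
theorem exists_iso_restrict_of_hom [ConnectedSpace X] [ConnectedSpace S]
    (hFF : (FEt.restrict f).Full ∧ (FEt.restrict f).Faithful) (V : FEt.Cat S)
    [Nonempty ((FEt.restrict f).obj V).left] (X' : FEt.Cat X) [ConnectedSpace X'.left]
    (e : (FEt.restrict f).obj V ⟶ X') :
    ∃ T : FEt.Cat S, Nonempty ((FEt.restrict f).obj T ≅ X') := by
  letI := preGaloisCategory S
  letI := preGaloisCategory X
  haveI := galoisCategory (X := S)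
  haveI := galoisCategory (X := X)
  haveI := (restrict_exact f).1
  haveI := (restrict_exact f).2
  let H := FEt.restrict f
  let F' := GaloisCategory.getFiberFunctor (FEt.Cat X)
  haveI : H.PreservesEpimorphisms := ⟨fun f _ => preserves_epi_of_preservesColimit H f⟩
  haveI : PreservesFiniteLimits (H ⋙ F') := comp_preservesFiniteLimits H F'
  haveI : PreservesColimitsOfShape (Discrete WalkingPair) (H ⋙ F') := comp_preservesColimitsOfShape H F'
  haveI : (H ⋙ F').PreservesEpimorphisms := ⟨fun f _ => F'.map_epi (H.map f)⟩
  haveI : FiberFunctor (H ⋙ F') := Groth.Agent.GaloisCat.fiberFunctor_of_preserves (H ⋙ F')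
  haveI := isConnected_of_connectedSpace X'
  haveI : Nonempty (F'.obj (H.obj V)) := (not_initial_iff_fiber_nonempty F' (H.obj V)).mp fun hi => by
    obtain ⟨y⟩ := (inferInstance : Nonempty ((FEt.restrict f).obj V).left)
    exact IsEmpty.false (α := (∅ : Scheme.{u})) ((hi.to (emptyObj X)).left y)
  exact Groth.Agent.GaloisCat.mem_essImage_of_hom H F' hFF e

end Groth.Agent.FEtQuot
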