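import Groth.Agent.FEtQuot.Connected
import Groth.Agent.FEtQuot.Field
import Groth.Agent.FEtQuot.RestrictExact
import Groth.Agent.S0267

/-!
# Geometrically connected schemes over a field
-/

set_option autoImplicit false
set_option linter.style.haveILetI false
set_option backward.isDefEq.respectTransparency.types false
set_option backward.isDefEq.respectTransparency false
universe u

open CategoryTheory CategoryTheory.Limits AlgebraicGeometry TopologicalSpace Opposite

namespace Groth.Agent.FEtQuot

variable {k : Type u} [Field k] {X : Scheme.{u}} (f : X ⟶ Spec (CommRingCat.of k))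

/-- The geometric pullback of a cover of a field by a connected scheme is connected. -/
theorem connectedSpace_restrict [ConnectedSpace ↥(pullback f (ξK k))]
    (W : FEt.Cat (Spec (CommRingCat.of k))) [ConnectedSpace W.left] :
    ConnectedSpace ↥(pullback W.hom f) := by
  haveI := discreteTopology_left k W
  haveI : Subsingleton W.left := PreconnectedSpace.trivial_of_discrete
  haveI hne : Nonempty ((𝟭 Scheme.{u}).obj W.left) := (inferInstance : Nonempty W.left)
  haveI hcon : ConnectedSpace ((Functor.fromPUnit (Spec (CommRingCat.of k))).obj W.right) :=
    inferInstanceAs (ConnectedSpace (Spec (CommRingCat.of k)))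
  obtain ⟨σ, hσ⟩ := exists_point_of_connected W.hom (ξK k)
  haveI : Surjective σ := ⟨fun w => ⟨IsLocalRing.closedPoint _, Subsingleton.elim (α := W.left) _ _⟩⟩
  let q : pullback f (ξK k) ⟶ pullback W.hom f :=
    pullback.lift (pullback.snd f (ξK k) ≫ σ) (pullback.fst f (ξK k)) (by
      rw [Category.assoc, hσ, pullback.condition])
  have hsq : IsPullback q (pullback.snd f (ξK k)) (pullback.fst W.hom f) σ := by
    refine IsPullback.of_right (h₁₂ := pullback.snd W.hom f) (v₁₃ := f) (h₂₂ := W.hom) ?_
      (pullback.lift_fst _ _ _) (IsPullback.of_hasPullback W.hom f).flip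
    rw [show q ≫ pullback.snd W.hom f = pullback.fst f (ξK k) from pullback.lift_snd _ _ _, hσ]
    exact IsPullback.of_hasPullback f (ξK k)
  haveI : Surjective q := MorphismProperty.of_isPullback hsq.flip ‹Surjective σ›
  exact q.surjective.connectedSpace q.continuous

/-- Pulling back finite étale covers of a field to a geometrically connected scheme is fully faithful. -/
theorem restrict_full_faithful [ConnectedSpace ↥(pullback f (ξK k))] :
    (FEt.restrict f).Full ∧ (FEt.restrict f).Faithful := by
  haveI : Surjective (ξK k) := ⟨fun x => ⟨IsLocalRing.closedPoint _, Subsingleton.elim (α := PrimeSpectrum k) _ _⟩⟩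
  haveI : Surjective (pullback.fst f (ξK k)) := MorphismProperty.pullback_fst _ _ ‹_›
  haveI : ConnectedSpace X :=
    (pullback.fst f (ξK k)).surjective.connectedSpace (pullback.fst f (ξK k)).continuous
  letI := preGaloisCategory (Spec (CommRingCat.of k))
  letI := preGaloisCategory X
  haveI := galoisCategory (X := Spec (CommRingCat.of k))
  haveI := galoisCategory (X := X)
  haveI := (restrict_exact f).1
  haveI := (restrict_exact f).2
  refine (Groth.Agent.S0267.result (FEt.restrict f)).mpr fun W hW => ?_
  haveI := connectedSpace_of_isConnected W
  haveI : ConnectedSpace ((FEt.restrict f).obj W).left := connectedSpace_restrict f W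
  exact isConnected_of_connectedSpace _

end Groth.Agent.FEtQuot
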