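import Groth.Agent.FEtQuot.Scheme
import Mathlib.RingTheory.Artinian.Module
import Mathlib.FieldTheory.IsAlgClosed.Basic
import Mathlib.AlgebraicGeometry.Morphisms.UniversallyInjective

set_option autoImplicit false
set_option linter.style.haveILetI false
set_option backward.isDefEq.respectTransparency.types false
universe u

namespace Groth.Agent.FEtQuot
open CategoryTheory CategoryTheory.Limits AlgebraicGeometry TopologicalSpace Opposite


section
variable {Ω : Type u} [Field Ω] {P : Scheme.{u}} (q : P ⟶ Spec (CommRingCat.of Ω)) [IsFinite q]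

theorem finite_sections : Finite {s : Spec (CommRingCat.of Ω) ⟶ P // s ≫ q = 𝟙 _} := by
  haveI : IsAffine P := isAffine_of_isAffineHom q
  let φ : CommRingCat.of Ω ⟶ Γ(P, ⊤) := Spec.preimage (P.isoSpec.inv ≫ q)
  letI : Algebra Ω Γ(P, ⊤) := φ.hom.toAlgebra
  haveI : Module.Finite Ω Γ(P, ⊤) := by
    have : IsFinite (Spec.map φ) := by rw [Spec.map_preimage]; infer_instance
    exact RingHom.finite_algebraMap.mp ((IsFinite.SpecMap_iff _).mp this)
  have hq : P.isoSpec.hom ≫ Spec.map φ = q := by rw [Spec.map_preimage, Iso.hom_inv_id_assoc]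
  have key : ∀ s : {s : Spec (CommRingCat.of Ω) ⟶ P // s ≫ q = 𝟙 _},
      φ ≫ Spec.preimage (s.1 ≫ P.isoSpec.hom) = 𝟙 _ := fun s => Spec.map_injective (by
    rw [Spec.map_comp, Spec.map_preimage, Category.assoc, hq, s.2, Spec.map_id])
  refine Finite.of_injective (fun s => (⟨(Spec.preimage (s.1 ≫ P.isoSpec.hom)).hom, fun r =>
    ConcreteCategory.congr_hom (key s) r⟩ : Γ(P, ⊤) →ₐ[Ω] Ω)) fun s t h => ?_
  refine Subtype.ext ((cancel_mono P.isoSpec.hom).mp ?_)
  have := congrArg Spec.map (CommRingCat.hom_ext (congrArg AlgHom.toRingHom h) :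
    Spec.preimage (s.1 ≫ P.isoSpec.hom) = Spec.preimage (t.1 ≫ P.isoSpec.hom))
  simpa only [Spec.map_preimage] using this

theorem exists_section [IsAlgClosed Ω] [Nonempty P] : ∃ s : Spec (CommRingCat.of Ω) ⟶ P, s ≫ q = 𝟙 _ := by
  haveI : IsAffine P := isAffine_of_isAffineHom q
  let φ : CommRingCat.of Ω ⟶ Γ(P, ⊤) := Spec.preimage (P.isoSpec.inv ≫ q)
  letI : Algebra Ω Γ(P, ⊤) := φ.hom.toAlgebra
  haveI : Module.Finite Ω Γ(P, ⊤) := by
    have : IsFinite (Spec.map φ) := by rw [Spec.map_preimage]; infer_instance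
    exact RingHom.finite_algebraMap.mp ((IsFinite.SpecMap_iff _).mp this)
  have hq : P.isoSpec.hom ≫ Spec.map φ = q := by rw [Spec.map_preimage, Iso.hom_inv_id_assoc]
  haveI : Nonempty (Spec Γ(P, ⊤)) := Nonempty.map P.isoSpec.hom inferInstance
  haveI : Nontrivial Γ(P, ⊤) := PrimeSpectrum.nonempty_iff_nontrivial.mp ‹_›
  obtain ⟨M, hM⟩ := Ideal.exists_maximal Γ(P, ⊤)
  letI := Ideal.Quotient.field M
  have hb : Function.Bijective (algebraMap Ω (Γ(P, ⊤) ⧸ M)) :=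
    IsAlgClosed.algebraMap_bijective_of_isIntegral
  let ψ : Γ(P, ⊤) →ₐ[Ω] Ω := (AlgEquiv.ofBijective (Algebra.ofId Ω _) hb).symm.toAlgHom.comp (Ideal.Quotient.mkₐ Ω M)
  refine ⟨Spec.map (CommRingCat.ofHom ψ.toRingHom) ≫ P.isoSpec.inv, ?_⟩
  rw [Category.assoc, ← Spec.map_preimage (P.isoSpec.inv ≫ q), ← Spec.map_comp, ← Spec.map_id]
  congr 1
  ext r
  exact ψ.commutes r

end

variable {Ω : Type u} [Field Ω] {W X : Scheme.{u}} (p : W ⟶ X) [IsFinite p] (ξ : Spec (CommRingCat.of Ω) ⟶ X)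

theorem finite_points : Finite {s : Spec (CommRingCat.of Ω) ⟶ W // s ≫ p = ξ} := by
  haveI := finite_sections (pullback.snd p ξ)
  refine Finite.of_injective (fun s => (⟨pullback.lift s.1 (𝟙 _) (s.2.trans (Category.id_comp ξ).symm),
    pullback.lift_snd _ _ _⟩ : {s : Spec (CommRingCat.of Ω) ⟶ pullback p ξ // s ≫ pullback.snd p ξ = 𝟙 _}))
    fun s t h => Subtype.ext ?_
  have := congrArg (fun z => z.1 ≫ pullback.fst p ξ) h
  simp only [pullback.lift_fst] at this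
  exact this

theorem exists_point [IsAlgClosed Ω] [Surjective p] : ∃ s : Spec (CommRingCat.of Ω) ⟶ W, s ≫ p = ξ := by
  haveI : Nonempty (pullback p ξ : Scheme.{u}) := by
    obtain ⟨z, -⟩ := (pullback.snd p ξ).surjective (IsLocalRing.closedPoint Ω)
    exact ⟨z⟩
  obtain ⟨s, hs⟩ := exists_section (pullback.snd p ξ)
  exact ⟨s ≫ pullback.fst p ξ, by rw [Category.assoc, pullback.condition, reassoc_of% hs]⟩

theorem isClopen_range [Etale p] : IsClopen (Set.range p) :=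
  ⟨p.isClosedMap.isClosed_range, p.isOpenMap.isOpen_range⟩

theorem surjective_of_connected [Etale p] [Nonempty W] [ConnectedSpace X] : Surjective p :=
  ⟨Set.range_eq_univ.mp ((isClopen_range p).eq_univ (Set.range_nonempty p))⟩

theorem exists_point_of_connected [IsAlgClosed Ω] [Etale p] [Nonempty W] [ConnectedSpace X] :
    ∃ s : Spec (CommRingCat.of Ω) ⟶ W, s ≫ p = ξ :=
  haveI := surjective_of_connected p
  exists_point p ξ

variable {G : Type*} [Group G] [Finite G] {Y : Scheme.{u}} (f : Y ⟶ X) [IsFinite f] [Etale f]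
  (σ : G →* Aut Y) (hσ : ∀ g, (σ g).hom ≫ f = f)

omit [IsFinite p] in
/-- The group is transitive on geometric fibres of `toQuot`. -/
theorem exists_smul_point [IsAlgClosed Ω] (s t : Spec (CommRingCat.of Ω) ⟶ Y)
    (h : s ≫ toQuot f σ hσ = t ≫ toQuot f σ hσ) : ∃ g, t = s ≫ (σ g).hom := by
  let x := (s ≫ f) (IsLocalRing.closedPoint Ω)
  obtain ⟨U, hU, hx, -⟩ := exists_isAffineOpen_mem_and_subset (x := x) (U := (⊤ : X.Opens)) trivial
  have hst : s ≫ f = t ≫ f := by rw [← toQuot_π f σ hσ, reassoc_of% h]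
  have hrange : ∀ r : Spec (CommRingCat.of Ω) ⟶ Y, r ≫ f = s ≫ f → Set.range r ⊆ Set.range (hU.preimage f).fromSpec := by
    rintro r hr _ ⟨z, rfl⟩
    rw [IsAffineOpen.range_fromSpec]
    show (r ≫ f) z ∈ U
    rw [hr, Subsingleton.elim z (IsLocalRing.closedPoint Ω)]
    exact hx
  obtain ⟨φ, rfl⟩ : ∃ φ, Spec.map φ ≫ (hU.preimage f).fromSpec = s :=
    ⟨Spec.preimage (IsOpenImmersion.lift _ s (hrange s rfl)), by rw [Spec.map_preimage, IsOpenImmersion.lift_fac]⟩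
  obtain ⟨ψ, rfl⟩ : ∃ ψ, Spec.map ψ ≫ (hU.preimage f).fromSpec = t :=
    ⟨Spec.preimage (IsOpenImmersion.lift _ t (hrange t hst.symm)), by rw [Spec.map_preimage, IsOpenImmersion.lift_fac]⟩
  simp only [Category.assoc, fromSpec_toQuot f σ hσ U hU] at h
  rw [← Category.assoc, ← Category.assoc] at h
  have hinv := Spec.map_injective (show Spec.map ((invι f σ hσ).app (op U) ≫ φ) = Spec.map ((invι f σ hσ).app (op U) ≫ ψ) by
    rw [Spec.map_comp, Spec.map_comp]; exact (cancel_mono _).mp h)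
  letI := (f.app U).hom.toAlgebra
  letI : Algebra Γ(X, U) Ω := (f.app U ≫ φ).hom.toAlgebra
  haveI : Module.Finite Γ(X, U) Γ(Y, f ⁻¹ᵁ U) := IsFinite.finite_app f U hU
  haveI : Algebra.Etale Γ(X, U) Γ(Y, f ⁻¹ᵁ U) := RingHom.etale_algebraMap.mp (by
    have := f.etale_appLE hU (hU.preimage f) le_rfl
    rw [← Scheme.Hom.app_eq_appLE] at this
    exact this)
  let Φ : Γ(Y, f ⁻¹ᵁ U) →ₐ[Γ(X, U)] Ω := ⟨φ.hom, fun r => rfl⟩
  let Ψ : Γ(Y, f ⁻¹ᵁ U) →ₐ[Γ(X, U)] Ω := ⟨ψ.hom, fun r =>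
    (ConcreteCategory.congr_hom hinv ((invStr f σ hσ).app (op U) r)).symm⟩
  obtain ⟨g, hg⟩ := exists_smul_eq (actHom f σ hσ U) (φ := Φ) (ψ := Ψ) fun v =>
    ConcreteCategory.congr_hom hinv (⟨v.1, fun g => v.2 g⟩ : invariants f σ hσ U)
  refine ⟨g⁻¹, ?_⟩
  have h1 : ψ = act f σ hσ g U ≫ φ := CommRingCat.hom_ext (RingHom.ext fun a => DFunLike.congr_fun hg a)
  rw [h1, Spec.map_comp, Category.assoc, Category.assoc]
  congr 1
  exact IsAffineOpen.SpecMap_appLE_fromSpec _ (hU.preimage f) (hU.preimage f) (preimage_le f σ hσ g⁻¹ U)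

end Groth.Agent.FEtQuot
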