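import Groth.Prelude.Def_FEt
import Groth.Agent.FEtQuot.Geometric
import Groth.Agent.FEtLib.EqLocus
import Mathlib.CategoryTheory.Galois.Basic
import Mathlib.AlgebraicGeometry.Limits
import Mathlib.AlgebraicGeometry.Morphisms.Flat
import Mathlib.CategoryTheory.Limits.Constructions.FiniteProductsOfBinaryProducts

set_option autoImplicit false
set_option linter.style.haveILetI false
set_option backward.isDefEq.respectTransparency.types false
universe u

namespace Groth.Agent.FEtQuot
open CategoryTheory CategoryTheory.Limits AlgebraicGeometry TopologicalSpace Opposite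

variable {X : Scheme.{u}}

instance hasOfPostcompProperty_prop : MorphismProperty.HasOfPostcompProperty FEt.prop.{u} FEt.prop.{u} where
  of_postcomp f g hg hfg := by
    haveI := hg.1; haveI := hg.2; haveI := hfg.1; haveI := hfg.2
    exact ⟨IsFinite.of_comp f g, Etale.of_comp f g⟩

instance (Y : FEt.Cat X) : IsFinite Y.hom := Y.prop.1
instance (Y : FEt.Cat X) : Etale Y.hom := Y.prop.2

/-- Object. -/
noncomputable abbrev mk {W : Scheme.{u}} (p : W ⟶ X) [IsFinite p] [Etale p] : FEt.Cat X :=
  MorphismProperty.Over.mk ⊤ p ⟨inferInstance, inferInstance⟩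

theorem hom_w {Y Z : FEt.Cat X} (h : Y ⟶ Z) : h.left ≫ Z.hom = Y.hom := MorphismProperty.Over.w h

theorem isFinite_left {Y Z : FEt.Cat X} (h : Y ⟶ Z) : IsFinite h.left := by
  haveI : IsFinite (h.left ≫ Z.hom) := by rw [hom_w]; infer_instance
  exact IsFinite.of_comp _ Z.hom

theorem etale_left {Y Z : FEt.Cat X} (h : Y ⟶ Z) : Etale h.left := by
  haveI : Etale (h.left ≫ Z.hom) := by rw [hom_w]; infer_instance
  exact Etale.of_comp _ Z.hom

/-- The complement of the range. -/
def coRange {W V : Scheme.{u}} (p : W ⟶ V) [IsFinite p] [Etale p] : V.Opens :=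
  ⟨(Set.range p)ᶜ, (isClopen_range p).1.isOpen_compl⟩

theorem isClosedImmersion_ι_of_isClosed {V : Scheme.{u}} (U : V.Opens) (h : IsClosed (U : Set V)) :
    IsClosedImmersion U.ι := IsClosedImmersion.of_isPreimmersion U.ι (by rw [Scheme.Opens.range_ι]; exact h)

instance {W V : Scheme.{u}} (p : W ⟶ V) [IsFinite p] [Etale p] : IsClosedImmersion (coRange p).ι :=
  isClosedImmersion_ι_of_isClosed _ (isClopen_range p).2.isClosed_compl

theorem etale_coprodDesc {Y Z : Scheme.{u}} (p : Y ⟶ X) (q : Z ⟶ X) [Etale p] [Etale q] :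
    Etale (coprod.desc p q) := by
  rw [IsZariskiLocalAtSource.iff_of_openCover (P := @Etale) (AlgebraicGeometry.coprodOpenCover.{_, 0} Y Z)]
  rintro (a | a)
  · show Etale (coprod.inl ≫ coprod.desc p q); rw [coprod.inl_desc]; infer_instance
  · show Etale (coprod.inr ≫ coprod.desc p q); rw [coprod.inr_desc]; infer_instance

/-- Disjoint union of covers. -/
noncomputable abbrev coprodObj (Y Z : FEt.Cat X) : FEt.Cat X :=
  haveI := etale_coprodDesc Y.hom Z.hom
  mk (coprod.desc Y.hom Z.hom)

/-- Its cofan. -/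
noncomputable abbrev coprodCofan (Y Z : FEt.Cat X) : BinaryCofan Y Z :=
  BinaryCofan.mk (P := coprodObj Y Z) (MorphismProperty.Over.homMk coprod.inl (coprod.inl_desc _ _))
    (MorphismProperty.Over.homMk coprod.inr (coprod.inr_desc _ _))

/-- It is a coproduct. -/
noncomputable def isColimitCoprodCofan (Y Z : FEt.Cat X) : IsColimit (coprodCofan Y Z) := by
  refine BinaryCofan.isColimitMk
    (fun s => MorphismProperty.Over.homMk (coprod.desc s.inl.left s.inr.left)
      (coprod.hom_ext (X := Y.left) (Y := Z.left) ?_ ?_)) ?_ ?_ ?_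
  · exact (coprod.inl_desc_assoc _ _ _).trans ((hom_w s.inl).trans (coprod.inl_desc _ _).symm)
  · exact (coprod.inr_desc_assoc _ _ _).trans ((hom_w s.inr).trans (coprod.inr_desc _ _).symm)
  · exact fun s => MorphismProperty.Over.Hom.ext (coprod.inl_desc _ _)
  · exact fun s => MorphismProperty.Over.Hom.ext (coprod.inr_desc _ _)
  · intro s m h1 h2
    refine MorphismProperty.Over.Hom.ext (coprod.hom_ext (X := Y.left) (Y := Z.left) ?_ ?_)
    · exact (congrArg (fun k : Y ⟶ s.pt => k.left) h1).trans (coprod.inl_desc s.inl.left s.inr.left).symm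
    · exact (congrArg (fun k : Z ⟶ s.pt => k.left) h2).trans (coprod.inr_desc s.inl.left s.inr.left).symm

/-- The empty cover. -/
noncomputable abbrev emptyObj (X : Scheme.{u}) : FEt.Cat X := mk (Scheme.emptyTo X)

/-- The empty cover is initial. -/
noncomputable def isInitialEmptyObj (X : Scheme.{u}) : IsInitial (emptyObj X) :=
  IsInitial.ofUniqueHom (fun Y => MorphismProperty.Over.homMk (Scheme.emptyTo Y.left) (Scheme.empty_ext _ _))
    (fun Y m => MorphismProperty.Over.Hom.ext (Scheme.empty_ext _ _))

instance hasFiniteCoproducts_cat : HasFiniteCoproducts (FEt.Cat X) := by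
  haveI : HasInitial (FEt.Cat X) := (isInitialEmptyObj X).hasInitial
  haveI : ∀ {Y Z : FEt.Cat X}, HasColimit (pair Y Z) := fun {Y Z} =>
    ⟨⟨⟨_, isColimitCoprodCofan Y Z⟩⟩⟩
  haveI : HasBinaryCoproducts (FEt.Cat X) := hasBinaryCoproducts_of_hasColimit_pair _
  exact hasFiniteCoproducts_of_has_binary_and_initial

section quotient

variable {G : Type u} [Group G] [Finite G] (D : SingleObj G ⥤ FEt.Cat X)

/-- The action. -/
noncomputable def σD : G →* Aut (D.obj (SingleObj.star G)).left :=
  (Functor.mapAut (SingleObj.star G) (D ⋙ MorphismProperty.Over.forget _ _ _ ⋙ Over.forget X)).comp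
    { toFun := fun g =>
        { hom := g
          inv := (g⁻¹ : G)
          hom_inv_id := inv_mul_cancel g
          inv_hom_id := mul_inv_cancel g }
      map_one' := Iso.ext rfl
      map_mul' := fun g h => Iso.ext rfl }

theorem hσD (g : G) : (σD D g).hom ≫ (D.obj (SingleObj.star G)).hom = (D.obj (SingleObj.star G)).hom :=
  hom_w (D.map g)

/-- The quotient object. -/
noncomputable abbrev Q : FEt.Cat X :=
  haveI := (prop_quotπ _ (σD D) (hσD D)).1
  haveI := (prop_quotπ _ (σD D) (hσD D)).2
  mk (quotπ _ (σD D) (hσD D))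

/-- The quotient map. -/
noncomputable def toQ : D.obj (SingleObj.star G) ⟶ Q D :=
  MorphismProperty.Over.homMk (toQuot _ (σD D) (hσD D)) (toQuot_π _ _ _)

/-- The quotient cocone. -/
noncomputable def qCocone : Cocone D where
  pt := Q D
  ι := { app := fun _ => toQ D
         naturality := fun a b g => MorphismProperty.Over.Hom.ext ((act_toQuot _ (σD D) (hσD D) g).trans (Category.comp_id _).symm) }

/-- It is a colimit. -/
noncomputable def isColimit_qCocone : IsColimit (qCocone D) := by
  haveI := (prop_toQuot _ (σD D) (hσD D)).1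
  haveI := (prop_toQuot _ (σD D) (hσD D)).2
  haveI := surjective_toQuot _ (σD D) (hσD D)
  haveI : Epi (toQuot _ (σD D) (hσD D)) := Flat.epi_of_flat_of_surjective _
  have h : ∀ s : Cocone D, ∃ b, toQuot _ (σD D) (hσD D) ≫ b = (s.ι.app (SingleObj.star G)).left ∧
      b ≫ s.pt.hom = quotπ _ (σD D) (hσD D) := fun s =>
    exists_desc _ (σD D) (hσD D) s.pt.hom _ (hom_w _) fun g =>
      congrArg (fun k : D.obj (SingleObj.star G) ⟶ s.pt => k.left)
        (s.w (show SingleObj.star G ⟶ SingleObj.star G from g))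
  exact
    { desc := fun s => MorphismProperty.Over.homMk (h s).choose (h s).choose_spec.2
      fac := fun s _ => MorphismProperty.Over.Hom.ext (h s).choose_spec.1
      uniq := fun s m hm => MorphismProperty.Over.Hom.ext
        ((cancel_epi (toQuot _ (σD D) (hσD D))).mp
          ((congrArg (fun k => k.left) (hm (SingleObj.star G))).trans (h s).choose_spec.1.symm)) }

end quotient

/-- Finite étale covers form a pre-Galois category. -/
theorem preGaloisCategory (X : Scheme.{u}) : PreGaloisCategory (FEt.Cat X) where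
  hasQuotientsByFiniteGroups G _ _ := ⟨fun D => ⟨⟨⟨qCocone D, isColimit_qCocone D⟩⟩⟩⟩
  monoInducesIsoOnDirectSummand {Y Z} i _ := by
    haveI := isFinite_left i
    haveI := etale_left i
    haveI : Mono i.left := inferInstanceAs (Mono ((MorphismProperty.Over.forget FEt.prop ⊤ X).map i).left)
    haveI : IsOpenImmersion i.left := IsOpenImmersion.of_flat_of_mono _
    let u : mk ((coRange i.left).ι ≫ Z.hom) ⟶ Z := MorphismProperty.Over.homMk (coRange i.left).ι rfl
    refine ⟨_, u, ?_⟩
    have hc : IsCompl i.left.opensRange (coRange i.left).ι.opensRange := by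
      rw [Scheme.Opens.opensRange_ι]
      refine IsCompl.of_eq (Opens.ext ?_) (Opens.ext ?_)
      · simp [coRange]
      · simp [coRange]
    obtain ⟨hl⟩ := nonempty_isColimit_binaryCofanMk_of_isCompl i.left (coRange i.left).ι hc
    have hd : ∀ s : BinaryCofan Y (mk ((coRange i.left).ι ≫ Z.hom)),
        hl.desc (BinaryCofan.mk s.inl.left s.inr.left) ≫ s.pt.hom = Z.hom := fun s => by
      refine BinaryCofan.IsColimit.hom_ext hl ?_ ?_
      · exact (Category.assoc _ _ _).symm.trans ((congrArg (· ≫ s.pt.hom)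
          (hl.fac (BinaryCofan.mk s.inl.left s.inr.left) ⟨.left⟩)).trans ((hom_w s.inl).trans (hom_w i).symm))
      · exact (Category.assoc _ _ _).symm.trans ((congrArg (· ≫ s.pt.hom)
          (hl.fac (BinaryCofan.mk s.inl.left s.inr.left) ⟨.right⟩)).trans (hom_w s.inr))
    refine ⟨BinaryCofan.isColimitMk (fun s => MorphismProperty.Over.homMk _ (hd s))
      (fun s => MorphismProperty.Over.Hom.ext (hl.fac _ ⟨.left⟩))
      (fun s => MorphismProperty.Over.Hom.ext (hl.fac _ ⟨.right⟩))
      (fun s m h1 h2 => MorphismProperty.Over.Hom.ext (BinaryCofan.IsColimit.hom_ext hl ?_ ?_))⟩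
    · exact (congrArg (fun k : Y ⟶ s.pt => k.left) h1).trans
        (hl.fac (BinaryCofan.mk s.inl.left s.inr.left) ⟨.left⟩).symm
    · exact (congrArg (fun k : _ ⟶ s.pt => k.left) h2).trans
        (hl.fac (BinaryCofan.mk s.inl.left s.inr.left) ⟨.right⟩).symm

end Groth.Agent.FEtQuot
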