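import Mathlib.RingTheory.TotallySplit
import Mathlib.RingTheory.Etale.Descent
import Mathlib.RingTheory.Finiteness.Descent
import Mathlib.RingTheory.Flat.Equalizer
import Mathlib.RingTheory.Jacobson.Ring
import Mathlib.RingTheory.Smooth.Fiber
import Mathlib.RingTheory.Finiteness.ModuleFinitePresentation
import Mathlib.FieldTheory.IsAlgClosed.Basic

/-!
# Invariants of finite étale algebras under finite groups (Lenstra's splitting argument)
-/

set_option autoImplicit false
set_option linter.style.haveILetI false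
universe u

namespace Groth.Agent.FEtQuot

open TensorProduct

variable {R A : Type u} [CommRing R] [CommRing A] [Algebra R A] {G : Type*} [Group G] [Finite G]

/-- The invariant subalgebra. -/
def inv (ρ : G →* (A ≃ₐ[R] A)) : Subalgebra R A where
  carrier := {a | ∀ g, ρ g a = a}
  mul_mem' {a b} ha hb g := by rw [map_mul, ha g, hb g]
  one_mem' g := map_one _
  add_mem' {a b} ha hb g := by rw [map_add, ha g, hb g]
  zero_mem' g := map_zero _
  algebraMap_mem' r g := (ρ g).commutes r

omit [Finite G] in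
theorem mem_inv {ρ : G →* (A ≃ₐ[R] A)} {a : A} : a ∈ inv ρ ↔ ∀ g, ρ g a = a := Iff.rfl

section split

variable (ρ : G →* (A ≃ₐ[R] A)) {n : ℕ} (π : (Fin n → R) →ₐ[R] A) (hπ : Function.Surjective π)

/-- The idempotents of the splitting. -/
def e (i : Fin n) : A := π (Pi.single i 1)

theorem isIdempotentElem_e (i : Fin n) : IsIdempotentElem (e π i) := by
  rw [IsIdempotentElem, e, ← map_mul]
  congr 1
  ext j
  by_cases h : j = i <;> simp [Pi.single_apply, h]

theorem mul_e (c : Fin n → R) (i : Fin n) : π c * e π i = c i • e π i := by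
  rw [e, ← map_smul, ← map_mul]
  congr 1
  ext j
  by_cases h : j = i
  · subst h; simp
  · simp [Pi.single_eq_of_ne h]

/-- The orbit idempotent. -/
noncomputable def E (i : Fin n) : A :=
  letI := Fintype.ofFinite G
  1 - ∏ g : G, (1 - ρ g (e π i))

/-- The orthogonalised orbit idempotent. -/
noncomputable def E' (i : Fin n) : A := E ρ π i * ∏ j with j < i, (1 - E ρ π j)

theorem map_E (g : G) (i : Fin n) : ρ g (E ρ π i) = E ρ π i := by
  letI := Fintype.ofFinite G
  rw [E, map_sub, map_one, map_prod]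
  congr 1
  refine Fintype.prod_equiv (Equiv.mulLeft g) _ _ fun h => ?_
  simp [map_mul, AlgEquiv.mul_apply]

theorem E'_mem (i : Fin n) : E' ρ π i ∈ inv ρ := fun g => by
  simp [E', map_prod, map_E ρ π g]

theorem isIdempotentElem_prod {ι : Type*} (s : Finset ι) (f : ι → A) (h : ∀ i ∈ s, IsIdempotentElem (f i)) :
    IsIdempotentElem (∏ i ∈ s, f i) := by
  rw [IsIdempotentElem, ← Finset.prod_mul_distrib]
  exact Finset.prod_congr rfl h

theorem isIdempotentElem_E (i : Fin n) : IsIdempotentElem (E ρ π i) := by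
  letI := Fintype.ofFinite G
  refine IsIdempotentElem.one_sub (isIdempotentElem_prod _ _ fun g _ => IsIdempotentElem.one_sub ?_)
  exact (isIdempotentElem_e π i).map (ρ g)

theorem isIdempotentElem_E' (i : Fin n) : IsIdempotentElem (E' ρ π i) :=
  (isIdempotentElem_E ρ π i).mul (isIdempotentElem_prod _ _ fun j _ => (isIdempotentElem_E ρ π j).one_sub)

theorem E'_mul_E' {i j : Fin n} (h : i ≠ j) : E' ρ π i * E' ρ π j = 0 := by
  wlog hij : i < j generalizing i j
  · rw [mul_comm]; exact this h.symm (lt_of_le_of_ne (not_lt.mp hij) h.symm)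
  rw [E', E', ← Finset.mul_prod_erase (Finset.univ.filter (· < j)) (fun k => 1 - E ρ π k)
    (Finset.mem_filter.mpr ⟨Finset.mem_univ i, hij⟩)]
  have : E ρ π i * (1 - E ρ π i) = 0 := by rw [mul_sub, mul_one, (isIdempotentElem_E ρ π i).eq, sub_self]
  linear_combination (E ρ π j * (∏ k with k < i, (1 - E ρ π k)) *
    ∏ k ∈ (Finset.univ.filter (· < j)).erase i, (1 - E ρ π k)) * this

theorem mul_E (a : A) (i : Fin n) (h : ∀ g : G, a * ρ g (e π i) = 0) : a * E ρ π i = 0 := by
  letI := Fintype.ofFinite G
  suffices a * ∏ g : G, (1 - ρ g (e π i)) = a by rw [E, mul_sub, this, mul_one, sub_self]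
  refine Finset.prod_induction _ (fun x => a * x = a) (fun x y hx hy => by rw [← mul_assoc, hx, hy])
    (mul_one a) fun g _ => by rw [mul_sub, mul_one, h g, sub_zero]

theorem sum_E' : ∑ i, E' ρ π i = 1 := by
  classical
  letI := Fintype.ofFinite G
  have h0 : ∏ j, (1 - e π j) = 0 := by
    cases n with
    | zero =>
      have h1 : (1 : A) = 0 := by
        rw [← map_one π, Subsingleton.elim (1 : Fin 0 → R) 0, map_zero]
      simpa using h1
    | succ m =>
      rw [show (fun j => 1 - e π j) = (fun j => π (1 - Pi.single j 1)) from funext fun j => by simp [e], ← map_prod]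
      have : (∏ j, ((1 : Fin (m+1) → R) - Pi.single j 1)) = 0 := by
        ext k
        rw [Finset.prod_apply]
        exact Finset.prod_eq_zero (Finset.mem_univ k) (by simp)
      rw [this, map_zero]
  have h1 : ∏ j, (1 - E ρ π j) = 0 := by
    have : ∀ j, (1 - E ρ π j) = (1 - e π j) * ∏ g ∈ Finset.univ.erase (1 : G), (1 - ρ g (e π j)) := fun j => by
      rw [E, sub_sub_cancel, ← Finset.mul_prod_erase Finset.univ _ (Finset.mem_univ (1 : G)), map_one]
      rfl
    rw [Finset.prod_congr rfl fun j _ => this j, Finset.prod_mul_distrib, h0, zero_mul]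
  have := Finset.prod_one_sub_ordered (Finset.univ : Finset (Fin n)) (E ρ π)
  rw [h1] at this
  exact (sub_eq_zero.mp this.symm).symm

include hπ in
theorem smul_E'_eq_zero {c : Fin n → R} (hc : π c = 0) (i : Fin n) : c i • E' ρ π i = 0 := by
  rw [Algebra.smul_def, E', ← mul_assoc, mul_E ρ π (algebraMap R A (c i)) i fun g => ?_, zero_mul]
  rw [← (ρ g).commutes, ← map_mul, ← Algebra.smul_def, ← mul_e, hc, zero_mul, map_zero]

include hπ in
theorem mul_E' {v : A} (hv : v ∈ inv ρ) {c : Fin n → R} (hc : π c = v) (i : Fin n) :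
    v * E' ρ π i = c i • E' ρ π i := by
  rw [Algebra.smul_def, ← sub_eq_zero, ← sub_mul, E', ← mul_assoc, mul_E ρ π _ i fun g => ?_, zero_mul]
  rw [sub_mul, sub_eq_zero]
  conv_lhs => rw [← hv g, ← map_mul, ← hc, mul_e, map_smul]
  rw [Algebra.smul_def]

include hπ in
theorem eq_sum {v : A} (hv : v ∈ inv ρ) {c : Fin n → R} (hc : π c = v) :
    v = ∑ i, c i • E' ρ π i := by
  rw [← Finset.sum_congr rfl fun i _ => mul_E' ρ π hπ hv hc i, ← Finset.mul_sum, sum_E', mul_one]

/-- The splitting of the invariants. -/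
noncomputable def invSplit : (Fin n → R) →ₐ[R] inv ρ :=
  AlgHom.ofLinearMap ((Fintype.linearCombination R fun i => (⟨E' ρ π i, E'_mem ρ π i⟩ : inv ρ))) (by
      refine Subtype.ext ?_
      simp [Fintype.linearCombination_apply, sum_E']) fun a b => by
      classical
      refine Subtype.ext ?_
      simp only [Fintype.linearCombination_apply, Subalgebra.coe_mul, AddSubmonoidClass.coe_finsetSum,
        Subalgebra.coe_smul, Finset.sum_mul_sum, Pi.mul_apply]
      refine Finset.sum_congr rfl fun i _ => ?_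
      rw [Finset.sum_eq_single i (fun j _ hj => by rw [smul_mul_smul_comm, E'_mul_E' ρ π hj.symm, smul_zero])
        (by simp), smul_mul_smul_comm, (isIdempotentElem_E' ρ π i).eq]

theorem invSplit_apply (c : Fin n → R) : (invSplit ρ π c : A) = ∑ i, c i • E' ρ π i := by
  simp [invSplit, Fintype.linearCombination_apply]

include hπ in
theorem invSplit_surjective : Function.Surjective (invSplit ρ π) := fun v => by
  obtain ⟨c, hc⟩ := hπ v.1
  exact ⟨c, Subtype.ext ((invSplit_apply ρ π c).trans (eq_sum ρ π hπ v.2 hc).symm)⟩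

include hπ in
theorem finite_inv_of_split : Module.Finite R (inv ρ) :=
  Module.Finite.of_surjective (invSplit ρ π).toLinearMap (invSplit_surjective ρ π hπ)

include hπ in
theorem etale_inv_of_split [Module.Projective R A] : Algebra.Etale R (inv ρ) := by
  haveI := finite_inv_of_split ρ π hπ
  have hker : LinearMap.ker π.toLinearMap ≤ LinearMap.ker (invSplit ρ π).toLinearMap := fun c hc => by
    refine LinearMap.mem_ker.mpr (Subtype.ext ((invSplit_apply ρ π c).trans ?_))
    exact Finset.sum_eq_zero fun i _ => smul_E'_eq_zero ρ π hπ (LinearMap.mem_ker.mp hc) i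
  let P : A →ₗ[R] inv ρ :=
    ((LinearMap.ker π.toLinearMap).liftQ (invSplit ρ π).toLinearMap hker).comp
      (π.toLinearMap.quotKerEquivOfSurjective hπ).symm.toLinearMap
  haveI : Module.Projective R (inv ρ) := by
    refine Module.Projective.of_split (inv ρ).val.toLinearMap P (LinearMap.ext fun v => ?_)
    obtain ⟨c, hc⟩ := hπ v.1
    have hh : (π.toLinearMap.quotKerEquivOfSurjective hπ).symm v.1 = Submodule.Quotient.mk c := by
      rw [LinearEquiv.symm_apply_eq]; exact hc.symm
    show P v.1 = v
    show (LinearMap.ker π.toLinearMap).liftQ (invSplit ρ π).toLinearMap hker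
      ((π.toLinearMap.quotKerEquivOfSurjective hπ).symm v.1) = v
    rw [hh, Submodule.liftQ_apply]
    exact Subtype.ext ((invSplit_apply ρ π c).trans (eq_sum ρ π hπ v.2 hc).symm)
  haveI : Algebra.FormallyUnramified R (inv ρ) :=
    Algebra.FormallyUnramified.of_surjective (invSplit ρ π) (invSplit_surjective ρ π hπ)
  haveI : Module.FinitePresentation R (inv ρ) := Module.finitePresentation_of_projective R (inv ρ)
  haveI : Algebra.FinitePresentation R (inv ρ) := inferInstance
  exact Algebra.Etale.of_formallyUnramified_of_flat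

variable {K : Type*} [Field K] [Algebra R K]

include hπ in
theorem exists_extension_of_split (φ : inv ρ →ₐ[R] K) : ∃ ψ : A →ₐ[R] K, ∀ v : inv ρ, ψ v = φ v := by
  obtain ⟨i, hi⟩ : ∃ i, φ ⟨E' ρ π i, E'_mem ρ π i⟩ ≠ 0 := by
    by_contra h
    push Not at h
    have : (∑ i, (⟨E' ρ π i, E'_mem ρ π i⟩ : inv ρ)) = 1 := Subtype.ext (by simp [sum_E'])
    simpa [h] using congrArg φ this
  have hi1 : φ ⟨E' ρ π i, E'_mem ρ π i⟩ = 1 :=
    (IsIdempotentElem.iff_eq_zero_or_one.mp ((show IsIdempotentElem (⟨E' ρ π i, E'_mem ρ π i⟩ : inv ρ) from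
      Subtype.ext (isIdempotentElem_E' ρ π i).eq).map φ)).resolve_left hi
  let f : (Fin n → R) →ₐ[R] K := (Algebra.ofId R K).comp (Pi.evalAlgHom R (fun _ : Fin n => R) i)
  have hf : ∀ c, f c = φ (c i • ⟨E' ρ π i, E'_mem ρ π i⟩) := fun c => by
    rw [map_smul, hi1, Algebra.smul_def, mul_one]; rfl
  refine ⟨AlgHom.liftOfSurjective π hπ f fun c hc => ?_, fun v => ?_⟩
  · rw [RingHom.mem_ker] at hc ⊢
    show f c = 0
    rw [hf, show c i • (⟨E' ρ π i, E'_mem ρ π i⟩ : inv ρ) = 0 from Subtype.ext (smul_E'_eq_zero ρ π hπ hc i), map_zero]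
  · obtain ⟨c, hc⟩ := hπ v.1
    rw [← hc, AlgHom.liftOfSurjective_apply, hf,
      show c i • (⟨E' ρ π i, E'_mem ρ π i⟩ : inv ρ) = v * ⟨E' ρ π i, E'_mem ρ π i⟩ from
        Subtype.ext (mul_E' ρ π hπ v.2 hc i).symm, map_mul, hi1, mul_one]

include hπ in
theorem exists_smul_eq_of_split {φ ψ : A →ₐ[R] K} (h : ∀ v : inv ρ, φ v = ψ v) :
    ∃ g : G, ψ = φ.comp (ρ g).toAlgHom := by
  obtain ⟨i, hi⟩ : ∃ i, φ (E' ρ π i) ≠ 0 := by
    by_contra hno
    push Not at hno
    have := congrArg φ (sum_E' ρ π)
    simp [hno] at this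
  have key : ∀ f : A →ₐ[R] K, f (E' ρ π i) ≠ 0 → ∃ g, ∀ c, (f.comp (ρ g).toAlgHom) (π c) = algebraMap R K (c i) := by
    intro f hf
    obtain ⟨g, hg⟩ : ∃ g, f (ρ g (e π i)) ≠ 0 := by
      by_contra hno
      push Not at hno
      letI := Fintype.ofFinite G
      exact hf (by simp [E', E, map_prod, hno])
    refine ⟨g, fun c => ?_⟩
    have hg1 : f (ρ g (e π i)) = 1 :=
      (IsIdempotentElem.iff_eq_zero_or_one.mp (((isIdempotentElem_e π i).map (ρ g)).map f)).resolve_left hg
    have := congrArg (fun a => f (ρ g a)) (mul_e π c i)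
    simp only [map_mul, map_smul, hg1, mul_one] at this
    rw [Algebra.smul_def, mul_one] at this
    exact this
  obtain ⟨g, hg⟩ := key φ hi
  obtain ⟨g', hg'⟩ := key ψ (by rw [← h ⟨_, E'_mem ρ π i⟩]; exact hi)
  refine ⟨g * g'⁻¹, AlgHom.ext fun a => ?_⟩
  obtain ⟨c, hc⟩ := hπ (ρ g'⁻¹ a)
  have e1 : ψ a = algebraMap R K (c i) := by
    rw [← hg' c, hc]
    show ψ a = ψ (ρ g' (ρ g'⁻¹ a))
    rw [← AlgEquiv.mul_apply, ← map_mul, mul_inv_cancel, map_one]
    rfl
  rw [e1, ← hg c, hc]
  show φ (ρ g (ρ g'⁻¹ a)) = φ (ρ (g * g'⁻¹) a)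
  rw [map_mul]
  rfl

end split

set_option maxHeartbeats 1000000 in
/-- A finite étale algebra is split by a faithfully flat algebra. -/
theorem exists_split (R A : Type u) [CommRing R] [CommRing A] [Algebra R A] [Algebra.Etale R A] [Module.Finite R A] :
    ∃ (T : Type u) (_ : CommRing T) (_ : Algebra R T), Module.FaithfullyFlat R T ∧
      (∀ (K : Type u) [Field K] [IsAlgClosed K] [Algebra R K], Nonempty (T →ₐ[R] K)) ∧
      ∃ (n : ℕ) (π : (Fin n → T) →ₐ[T] T ⊗[R] A), Function.Surjective π := by
  classical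
  haveI : Module.Flat R A := inferInstance
  haveI : Module.FinitePresentation R A := Module.FinitePresentation.of_finite_of_finitePresentation R A
  have hlc := Module.isLocallyConstant_rankAtStalk (R := R) (M := A)
  have hloc : ∀ p : PrimeSpectrum R, ∃ f, p ∈ PrimeSpectrum.basicOpen f ∧
      ((PrimeSpectrum.basicOpen f : Set (PrimeSpectrum R)) ⊆ {q | Module.rankAtStalk A q = Module.rankAtStalk A p}) := fun p => by
    obtain ⟨_, ⟨f, rfl⟩, hp, hsub⟩ := PrimeSpectrum.isTopologicalBasis_basic_opens.exists_subset_of_mem_open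
      (show p ∈ {q | Module.rankAtStalk A q = Module.rankAtStalk A p} from rfl) (hlc.isOpen_fiber _)
    exact ⟨f, hp, hsub⟩
  choose f hfp hfc using hloc
  obtain ⟨s, hs⟩ := isCompact_univ.elim_finite_subcover (fun p => (PrimeSpectrum.basicOpen (f p) : Set (PrimeSpectrum R)))
    (fun p => (PrimeSpectrum.basicOpen (f p)).isOpen) fun p _ => Set.mem_iUnion.mpr ⟨p, hfp p⟩
  have hrank : ∀ p : PrimeSpectrum R, Module.rankAtStalk (R := Localization.Away (f p)) (Localization.Away (f p) ⊗[R] A)
      = ((Module.rankAtStalk A p : ℕ) : PrimeSpectrum (Localization.Away (f p)) → ℕ) := fun p => funext fun q => by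
    rw [Module.rankAtStalk_baseChange]
    refine hfc p ?_
    rw [← PrimeSpectrum.localization_away_comap_range (Localization.Away (f p)) (f p)]
    exact ⟨q, rfl⟩
  choose T hTc hTa hTff hTfin hTet hTsplit using fun p : PrimeSpectrum R =>
    Algebra.IsFiniteSplit.exists_tensorProduct_of_etale (hrank p)
  letI := hTc
  letI := hTa
  letI : ∀ p, Algebra R (T p) := fun p => ((algebraMap (Localization.Away (f p)) (T p)).comp (algebraMap R _)).toAlgebra
  haveI : ∀ p, IsScalarTower R (Localization.Away (f p)) (T p) := fun p => IsScalarTower.of_algebraMap_eq' rfl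
  haveI : ∀ p, Module.Flat R (T p) := fun p =>
    haveI := hTff p
    Module.Flat.trans R (Localization.Away (f p)) (T p)
  choose m e' using fun p => (hTsplit p).nonempty_algEquiv_fun
  let U := Π p : s, T p.1
  let N := Σ p : s, Fin (m p.1)
  let eN : Fin (Fintype.card N) ≃ N := (Fintype.equivFin N).symm
  haveI : Module.Flat R U := Module.Flat.of_linearEquiv (DirectSum.linearEquivFunOnFintype R s fun p => T p.1).symm
  refine ⟨U, inferInstance, inferInstance, ?_, ?_, Fintype.card N, ?_⟩
  · refine Module.FaithfullyFlat.of_comap_surjective fun q => ?_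
    obtain ⟨p, hp, hq⟩ := Set.mem_iUnion₂.mp (hs (Set.mem_univ q))
    rw [← PrimeSpectrum.localization_away_comap_range (Localization.Away (f p)) (f p)] at hq
    obtain ⟨q', rfl⟩ := hq
    haveI := hTff p
    obtain ⟨q'', rfl⟩ := PrimeSpectrum.comap_surjective_of_faithfullyFlat (A := Localization.Away (f p)) (B := T p) q'
    refine ⟨PrimeSpectrum.comap (Pi.evalRingHom (fun p : s => T p.1) ⟨p, hp⟩) q'', ?_⟩
    rw [← PrimeSpectrum.comap_comp_apply, ← PrimeSpectrum.comap_comp_apply]
    rfl
  · intro K _ _ _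
    let q : PrimeSpectrum R := ⟨RingHom.ker (algebraMap R K), RingHom.ker_isPrime _⟩
    obtain ⟨p, hp, hq⟩ := Set.mem_iUnion₂.mp (hs (Set.mem_univ q))
    have hunit : IsUnit (algebraMap R K (f p)) := IsUnit.mk0 _ fun h => hq (RingHom.mem_ker.mpr h)
    letI : Algebra (Localization.Away (f p)) K := (IsLocalization.Away.lift (f p) hunit).toAlgebra
    haveI : IsScalarTower R (Localization.Away (f p)) K :=
      IsScalarTower.of_algebraMap_eq' (IsLocalization.Away.lift_comp (f p) hunit).symm
    haveI := hTff p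
    haveI := hTfin p
    haveI : Nontrivial (K ⊗[Localization.Away (f p)] T p) := by
      by_contra hn
      rw [not_nontrivial_iff_subsingleton] at hn
      haveI := hn
      exact not_subsingleton K (Module.FaithfullyFlat.rTensor_reflects_triviality (Localization.Away (f p)) (T p) K)
    obtain ⟨M, hM⟩ := Ideal.exists_maximal (K ⊗[Localization.Away (f p)] T p)
    letI := Ideal.Quotient.field M
    have hb : Function.Bijective (algebraMap K ((K ⊗[Localization.Away (f p)] T p) ⧸ M)) :=
      IsAlgClosed.algebraMap_bijective_of_isIntegral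
    let g : T p →ₐ[Localization.Away (f p)] K :=
      (((AlgEquiv.ofBijective (Algebra.ofId K _) hb).symm.toAlgHom.restrictScalars (Localization.Away (f p))).comp
        ((Ideal.Quotient.mkₐ K M).restrictScalars (Localization.Away (f p)))).comp Algebra.TensorProduct.includeRight
    exact ⟨(g.restrictScalars R).comp (Pi.evalAlgHom R (fun p : s => T p.1) ⟨p, hp⟩)⟩
  · let Φ : U ⊗[R] A ≃ₗ[R] Π p : s, (T p.1 ⊗[R] A) :=
      (TensorProduct.comm R U A).trans ((TensorProduct.piRight R R A (fun p : s => T p.1)).trans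
        (LinearEquiv.piCongrRight fun p => TensorProduct.comm R A (T p.1)))
    let pr : ∀ p : s, U →ₐ[R] T p.1 := fun p => Pi.evalAlgHom R (fun p : s => T p.1) p
    have hΦ : ∀ (x : U ⊗[R] A) (p : s), Φ x p = Algebra.TensorProduct.map (pr p) (AlgHom.id R A) x := by
      intro x p
      induction x using TensorProduct.induction_on with
      | zero => simp
      | tmul a b =>
        show (TensorProduct.comm R A (T p.1)) (TensorProduct.piRight R R A (fun p : s => T p.1) (b ⊗ₜ a) p) = _
        rw [TensorProduct.piRight_apply, TensorProduct.piRightHom_tmul]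
        rfl
      | add x y hx hy => simp [hx, hy]
    let ψ : ∀ p : s, (Fin (m p.1) → T p.1) ≃ₐ[T p.1] T p.1 ⊗[R] A := fun p =>
      (e' p.1).some.symm.trans (Algebra.TensorProduct.cancelBaseChange R (Localization.Away (f p.1)) (T p.1) (T p.1) A)
    clear_value Φ ψ
    let Ψ : (Fin (Fintype.card N) → U) → U ⊗[R] A := fun c =>
      Φ.symm fun p => ψ p fun j => c (eN.symm ⟨p, j⟩) p
    have hΨ : ∀ (c : Fin (Fintype.card N) → U) (p : s),
        Algebra.TensorProduct.map (pr p) (AlgHom.id R A) (Ψ c) = ψ p (fun j => c (eN.symm ⟨p, j⟩) p) :=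
      fun c p => (hΦ _ p).symm.trans (by simp [Ψ])
    have hext : ∀ x y : U ⊗[R] A, (∀ p, Algebra.TensorProduct.map (pr p) (AlgHom.id R A) x =
        Algebra.TensorProduct.map (pr p) (AlgHom.id R A) y) → x = y := fun x y h =>
      Φ.injective (funext fun p => (hΦ x p).trans ((h p).trans (hΦ y p).symm))
    clear_value Ψ
    let π : (Fin (Fintype.card N) → U) →ₐ[U] U ⊗[R] A :=
      { toFun := Ψ
        map_one' := hext _ _ fun p => by rw [hΨ, map_one]; exact map_one (ψ p)
        map_mul' := fun a b => hext _ _ fun p => by rw [map_mul, hΨ, hΨ, hΨ, ← map_mul]; rfl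
        map_zero' := hext _ _ fun p => by rw [hΨ, map_zero]; exact map_zero (ψ p)
        map_add' := fun a b => hext _ _ fun p => by rw [map_add, hΨ, hΨ, hΨ, ← map_add]; rfl
        commutes' := fun r => hext _ _ fun p => by
          rw [hΨ, Algebra.TensorProduct.algebraMap_apply, Algebra.TensorProduct.map_tmul]
          simp only [Algebra.algebraMap_self_apply, map_one]
          exact (ψ p).commutes (r p) }
    refine ⟨π, fun x => ?_⟩
    let g : N → U := fun k => Pi.single (M := fun p : s => T p.1) k.1 ((ψ k.1).symm (Φ x k.1) k.2)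
    refine ⟨fun k => g (eN k), ?_⟩
    refine hext _ _ fun p => (hΨ _ p).trans ?_
    rw [← hΦ]
    conv_rhs => rw [← (ψ p).apply_symm_apply (Φ x p)]
    refine congrArg (ψ p) (funext fun j => ?_)
    show g (eN (eN.symm ⟨p, j⟩)) p = _
    rw [eN.apply_symm_apply]
    exact Pi.single_eq_same _ _

section main

variable [Algebra.Etale R A] [Module.Finite R A] (ρ : G →* (A ≃ₐ[R] A)) (T : Type u) [CommRing T] [Algebra R T]

/-- The base changed action. -/
noncomputable def baseρ : G →* (T ⊗[R] A ≃ₐ[T] T ⊗[R] A) where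
  toFun g := Algebra.TensorProduct.congr AlgEquiv.refl (ρ g)
  map_one' := AlgEquiv.ext fun x => by
    induction x using TensorProduct.induction_on with
    | zero => simp
    | tmul a b => simp
    | add x y hx hy => simp only [map_add, hx, hy]
  map_mul' g h := AlgEquiv.ext fun x => by
    induction x using TensorProduct.induction_on with
    | zero => simp
    | tmul a b => simp [map_mul, AlgEquiv.mul_apply]
    | add x y hx hy => simp only [map_add, hx, hy]

omit [Finite G] [Algebra.Etale R A] [Module.Finite R A] in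
theorem baseρ_tmul (g : G) (t : T) (a : A) : baseρ ρ T g (t ⊗ₜ a) = t ⊗ₜ ρ g a := by simp [baseρ]

/-- The comparison map. -/
noncomputable def invMap : T ⊗[R] inv ρ →ₐ[T] inv (baseρ ρ T) :=
  (Algebra.TensorProduct.map (AlgHom.id T T) (inv ρ).val).codRestrict _ fun x g => by
    induction x using TensorProduct.induction_on with
    | zero => simp
    | tmul t v => simp [baseρ_tmul, v.2 g]
    | add x y hx hy => simp only [map_add, hx, hy]

omit [Algebra.Etale R A] [Module.Finite R A] in
theorem invMap_bijective [Module.Flat R T] : Function.Bijective (invMap ρ T) := by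
  classical
  letI := Fintype.ofFinite G
  constructor
  · intro x y h
    have h2 : Function.Injective ((inv ρ).val.toLinearMap.lTensor T) :=
      Module.Flat.lTensor_preserves_injective_linearMap _ Subtype.val_injective
    exact h2 (congrArg Subtype.val h)
  · intro y
    let δ : A →ₗ[R] (G → A) := LinearMap.pi fun g => (ρ g).toLinearMap - LinearMap.id
    have hex : Function.Exact (inv ρ).val.toLinearMap δ := fun a => by
      constructor
      · intro ha
        exact ⟨⟨a, fun g => sub_eq_zero.mp (congrFun ha g)⟩, rfl⟩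
      · rintro ⟨v, rfl⟩
        exact funext fun g => sub_eq_zero.mpr (v.2 g)
    have hpr : ∀ (x : T ⊗[R] A) (g : G),
        TensorProduct.piRight R R T (fun _ : G => A) (δ.lTensor T x) g = baseρ ρ T g x - x := by
      intro x g
      induction x using TensorProduct.induction_on with
      | zero => simp
      | tmul t a => simp [δ, baseρ_tmul, tmul_sub]
      | add x y hx hy => rw [map_add, map_add, Pi.add_apply, hx, hy, map_add]; abel
    obtain ⟨z, hz⟩ := ((Module.Flat.lTensor_exact T hex) y.1).mp (by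
      apply (TensorProduct.piRight R R T (fun _ : G => A)).injective
      refine funext fun g => ?_
      rw [hpr, y.2 g, sub_self, map_zero]; rfl)
    exact ⟨z, Subtype.ext hz⟩

/-- The invariants of a finite étale algebra under a finite group are finite étale. -/
theorem finite_etale_inv : Module.Finite R (inv ρ) ∧ Algebra.Etale R (inv ρ) := by
  obtain ⟨T, _, _, hff, -, n, π, hπ⟩ := exists_split R A
  haveI : Module.Flat R A := inferInstance
  haveI : Module.FinitePresentation R A := Module.FinitePresentation.of_finite_of_finitePresentation R A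
  haveI : Module.Projective R A := Module.Flat.projective_of_finitePresentation
  let θ := AlgEquiv.ofBijective (invMap ρ T) (invMap_bijective ρ T)
  haveI := finite_inv_of_split (baseρ ρ T) π hπ
  haveI := etale_inv_of_split (baseρ ρ T) π hπ
  haveI : Module.Finite T (T ⊗[R] inv ρ) := Module.Finite.equiv θ.symm.toLinearEquiv
  haveI : Algebra.Etale T (T ⊗[R] inv ρ) := Algebra.Etale.of_equiv θ.symm
  exact ⟨Module.Finite.of_finite_tensorProduct_of_faithfullyFlat T,
    Algebra.Etale.of_etale_tensorProduct_of_faithfullyFlat (T := T)⟩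

variable {K : Type u} [Field K] [IsAlgClosed K] [Algebra R K]

/-- Geometric points of the invariants lift. -/
theorem exists_extension (φ : inv ρ →ₐ[R] K) : ∃ ψ : A →ₐ[R] K, ∀ v : inv ρ, ψ v = φ v := by
  obtain ⟨T, _, _, hff, hpt, n, π, hπ⟩ := exists_split R A
  obtain ⟨t⟩ := hpt K
  letI : Algebra T K := t.toRingHom.toAlgebra
  haveI : IsScalarTower R T K := IsScalarTower.of_algebraMap_eq fun r => (t.commutes r).symm
  let θ := AlgEquiv.ofBijective (invMap ρ T) (invMap_bijective ρ T)
  let φT : T ⊗[R] inv ρ →ₐ[T] K :=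
    Algebra.TensorProduct.lift (Algebra.ofId T K) φ fun _ _ => Commute.all _ _
  obtain ⟨ψ, hψ⟩ := exists_extension_of_split (baseρ ρ T) π hπ (φT.comp θ.symm.toAlgHom)
  refine ⟨(ψ.restrictScalars R).comp Algebra.TensorProduct.includeRight, fun v => ?_⟩
  have := hψ (θ (1 ⊗ₜ v))
  rw [show ((φT.comp θ.symm.toAlgHom) (θ (1 ⊗ₜ v))) = φT (θ.symm (θ (1 ⊗ₜ v))) from rfl,
    θ.symm_apply_apply] at this
  simp only [φT, Algebra.TensorProduct.lift_tmul, map_one, one_mul] at this
  rw [← this]
  rfl

/-- The group acts transitively on the fibres. -/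
theorem exists_smul_eq {φ ψ : A →ₐ[R] K} (h : ∀ v : inv ρ, φ v = ψ v) :
    ∃ g : G, ψ = φ.comp (ρ g).toAlgHom := by
  obtain ⟨T, _, _, hff, hpt, n, π, hπ⟩ := exists_split R A
  obtain ⟨t⟩ := hpt K
  letI : Algebra T K := t.toRingHom.toAlgebra
  haveI : IsScalarTower R T K := IsScalarTower.of_algebraMap_eq fun r => (t.commutes r).symm
  let up : (A →ₐ[R] K) → (T ⊗[R] A →ₐ[T] K) := fun χ =>
    Algebra.TensorProduct.lift (Algebra.ofId T K) χ fun _ _ => Commute.all _ _
  obtain ⟨g, hg⟩ := exists_smul_eq_of_split (baseρ ρ T) π hπ (φ := up φ) (ψ := up ψ) fun v => by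
    obtain ⟨z, rfl⟩ := (invMap_bijective ρ T).2 v
    induction z using TensorProduct.induction_on with
    | zero => simp
    | tmul a b =>
      show up φ (Algebra.TensorProduct.map (AlgHom.id T T) (inv ρ).val (a ⊗ₜ b)) =
        up ψ (Algebra.TensorProduct.map (AlgHom.id T T) (inv ρ).val (a ⊗ₜ b))
      simp [up, h b]
    | add x y hx hy => simp only [map_add, Subalgebra.coe_add, hx, hy]
  refine ⟨g, AlgHom.ext fun a => ?_⟩
  have := DFunLike.congr_fun hg (1 ⊗ₜ a)
  simpa [up, baseρ_tmul] using this

end main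

end Groth.Agent.FEtQuot
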