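import Groth.Agent.FEtQuot.Connected
import Groth.Agent.Et18.SpectralClopen
import Mathlib.Topology.Separation.Profinite
import Mathlib.AlgebraicGeometry.Properties

/-!
# Connected components and equivalences of categories of finite étale covers
-/

set_option autoImplicit false
set_option linter.style.haveILetI false
set_option backward.isDefEq.respectTransparency.types false
set_option backward.isDefEq.respectTransparency false
universe u

open CategoryTheory CategoryTheory.Limits AlgebraicGeometry TopologicalSpace Opposite

namespace Groth.Agent.FEtQuot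

/-- Connected components of a spectral space are totally separated. -/
theorem totallySeparatedSpace_connectedComponents (α : Type u) [TopologicalSpace α] [SpectralSpace α] :
    TotallySeparatedSpace (_root_.ConnectedComponents α) := by
  refine totallySeparatedSpace_iff_exists_isClopen.mpr fun a b hab => ?_
  obtain ⟨x, rfl⟩ := _root_.ConnectedComponents.surjective_coe a
  obtain ⟨y, rfl⟩ := _root_.ConnectedComponents.surjective_coe b
  obtain ⟨W, hW, hx, hy⟩ := Et18.SpectralClopen.exists_isClopen_of_notMem_connectedComponent
    (x := x) (y := y) fun h => hab (_root_.ConnectedComponents.coe_eq_coe'.mpr h).symm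
  have hpre : ((↑) : α → _root_.ConnectedComponents α) ⁻¹' (((↑) : α → _root_.ConnectedComponents α) '' W) = W := by
    rw [connectedComponents_preimage_image, hW.biUnion_connectedComponent_eq]
  refine ⟨((↑) : α → _root_.ConnectedComponents α) '' W,
    _root_.ConnectedComponents.isQuotientMap_coe.isClopen_preimage.mp (by rw [hpre]; exact hW),
    ⟨x, hx, rfl⟩, fun hy' => hy ?_⟩
  rw [← hpre]; exact hy'

variable {X Y : Scheme.{u}} (f : X ⟶ Y)

/-- The cover given by a clopen. -/
noncomputable abbrev clopenObj {C : Set Y} (hC : IsClopen C) : FEt.Cat Y :=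
  haveI : IsClosedImmersion (Scheme.Opens.ι (X := Y) ⟨C, hC.isOpen⟩) :=
    isClosedImmersion_ι_of_isClosed _ hC.isClosed
  mk (Scheme.Opens.ι (X := Y) ⟨C, hC.isOpen⟩)

theorem eq_empty_of_preimage_eq_empty (h : (FEt.restrict f).IsEquivalence) {C : Set Y} (hC : IsClopen C)
    (hpre : f ⁻¹' C = ∅) : C = ∅ := by
  haveI := h
  let W := clopenObj hC
  haveI : IsEmpty ((FEt.restrict f).obj W).left := ⟨fun (z : (pullback W.hom f : Scheme.{u})) => by
    have h1 : f (pullback.snd W.hom f z) = W.hom (pullback.fst W.hom f z) := by
      rw [← Scheme.Hom.comp_apply, ← pullback.condition, Scheme.Hom.comp_apply]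
      rfl
    have : pullback.snd W.hom f z ∈ f ⁻¹' C := by
      show f (pullback.snd W.hom f z) ∈ C
      rw [h1]
      exact (pullback.fst W.hom f z).2
    rw [hpre] at this
    exact this⟩
  obtain ⟨g⟩ : Nonempty (W ⟶ emptyObj Y) :=
    ⟨(FEt.restrict f).preimage ((isInitialOfIsEmpty ((FEt.restrict f).obj W)).to _)⟩
  exact Set.eq_empty_of_forall_notMem fun y hy => IsEmpty.false (α := (∅ : Scheme.{u})) (g.left ⟨y, hy⟩)

theorem exists_clopen_preimage_eq (h : (FEt.restrict f).IsEquivalence) {D : Set X} (hD : IsClopen D) :
    ∃ C : Set Y, IsClopen C ∧ f ⁻¹' C = D := by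
  haveI := h
  let V := clopenObj hD
  obtain ⟨W, ⟨e⟩⟩ : ∃ W, Nonempty ((FEt.restrict f).obj W ≅ V) :=
    ⟨_, ⟨(FEt.restrict f).objObjPreimageIso V⟩⟩
  have hrange : Set.range (pullback.snd W.hom f) = D := by
    have he : e.hom.left ≫ Scheme.Opens.ι (X := X) ⟨D, hD.isOpen⟩ = pullback.snd W.hom f := hom_w e.hom
    rw [← he]
    haveI : Surjective e.hom.left := by
      have : e.inv.left ≫ e.hom.left = 𝟙 _ := congrArg (fun k : V ⟶ V => k.left) e.inv_hom_id
      exact ⟨fun z => ⟨e.inv.left z, congrArg (fun k : V.left ⟶ V.left => k z) this⟩⟩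
    refine Eq.trans ?_ (Scheme.Opens.range_ι (X := X) ⟨D, hD.isOpen⟩)
    exact e.hom.left.surjective.range_comp (Scheme.Opens.ι (X := X) ⟨D, hD.isOpen⟩).base
  exact ⟨Set.range W.hom, isClopen_range W.hom, (Scheme.Pullback.range_snd W.hom f).symm.trans hrange⟩

/-- An equivalence on finite étale covers induces a homeomorphism on connected components. -/
theorem isHomeomorph_connectedComponentsMap [CompactSpace X] [QuasiSeparatedSpace X] [CompactSpace Y]
    [QuasiSeparatedSpace Y] (h : (FEt.restrict f).IsEquivalence) :
    IsHomeomorph f.continuous.connectedComponentsMap := by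
  haveI hsX : SpectralSpace X := {}
  haveI hsY : SpectralSpace Y := {}
  haveI := totallySeparatedSpace_connectedComponents X
  haveI := totallySeparatedSpace_connectedComponents Y
  rw [isHomeomorph_iff_continuous_bijective]
  refine ⟨f.continuous.connectedComponentsMap_continuous, fun a b hab => ?_, fun b => ?_⟩
  · obtain ⟨x, rfl⟩ := _root_.ConnectedComponents.surjective_coe a
    obtain ⟨x', rfl⟩ := _root_.ConnectedComponents.surjective_coe b
    by_contra hne
    obtain ⟨D, hD, hx, hx'⟩ := Et18.SpectralClopen.exists_isClopen_of_notMem_connectedComponent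
      (x := x) (y := x') fun h' => hne (_root_.ConnectedComponents.coe_eq_coe'.mpr h').symm
    obtain ⟨C, hC, rfl⟩ := exists_clopen_preimage_eq f h hD
    exact hx' (hC.connectedComponent_subset hx (_root_.ConnectedComponents.coe_eq_coe'.mp hab.symm))
  · by_contra hb
    have hcl : IsClosed (Set.range f.continuous.connectedComponentsMap) :=
      (isCompact_range f.continuous.connectedComponentsMap_continuous).isClosed
    obtain ⟨V, hV, hbV, hVs⟩ := isTopologicalBasis_isClopen.exists_subset_of_mem_open
      (show b ∈ (Set.range f.continuous.connectedComponentsMap)ᶜ from hb) hcl.isOpen_compl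
    have hempty : f ⁻¹' (((↑) : Y → _root_.ConnectedComponents Y) ⁻¹' V) = ∅ :=
      Set.eq_empty_of_forall_notMem fun x hx => hVs hx ⟨(x : _root_.ConnectedComponents X), rfl⟩
    have := eq_empty_of_preimage_eq_empty f h (hV.preimage _root_.ConnectedComponents.continuous_coe) hempty
    obtain ⟨y, rfl⟩ := _root_.ConnectedComponents.surjective_coe b
    exact (Set.eq_empty_iff_forall_notMem.mp this) y hbV

end Groth.Agent.FEtQuot
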