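import Groth.Prelude.Def_PiSp
import Groth.Prelude.Def_SGA1
import Groth.Agent.GaloisCat.Uniq
import Groth.Agent.GaloisCat.Whisker
import Groth.Agent.FEtQuot.RestrictExact
import Groth.Agent.FEtQuot.Connected
import Groth.Agent.FEtQuot.Field
import Groth.Agent.FEtDesc.EtaleHom
import Groth.Agent.HenselLib.ProperCouple
import Mathlib.Topology.Connected.CardComponents

/-!
# Topological finite generation of fundamental groups descends along proper surjective morphisms
-/

set_option autoImplicit false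
set_option linter.style.haveILetI false
set_option backward.isDefEq.respectTransparency.types false
set_option backward.isDefEq.respectTransparency false
universe u

open CategoryTheory CategoryTheory.Limits AlgebraicGeometry TopologicalSpace PreGaloisCategory

namespace Groth.Agent.FEtQuot

section fibres

variable {C S : Scheme.{u}} (h : C ⟶ S) {Ω : Type u} [Field Ω] (x : Spec (CommRingCat.of Ω) ⟶ C)

/-- Fibres of pulled back covers. -/
noncomputable def fiberCompIso : FEt.restrict h ⋙ fiberFin x ≅ fiberFin (x ≫ h) :=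
  NatIso.ofComponents
    (fun Y => FintypeCat.equivEquivIso
      { toFun := fun s => ⟨s.1 ≫ pullback.fst Y.hom h, by
          rw [Category.assoc, pullback.condition, ← Category.assoc]
          exact congrArg (· ≫ h) s.2⟩
        invFun := fun t => ⟨pullback.lift t.1 x t.2, pullback.lift_snd _ _ _⟩
        left_inv := fun s => Subtype.ext (pullback.hom_ext (pullback.lift_fst _ _ _)
          ((pullback.lift_snd _ _ _).trans s.2.symm))
        right_inv := fun t => Subtype.ext (pullback.lift_fst _ _ _) })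
    (fun {Y Z} a => ConcreteCategory.hom_ext _ _ fun s => Subtype.ext (by
      show (s.1 ≫ ((FEt.restrict h).map a).left) ≫ pullback.fst Z.hom h = (s.1 ≫ pullback.fst Y.hom h) ≫ a.left
      simp [FEt.restrict, MorphismProperty.Over.pullback]))

theorem fiberCompIso_val {Y : FEt.Cat S} (s : FEt.fiberObj x ((FEt.restrict h).obj Y)) :
    ((fiberCompIso h x).hom.app Y s : FEt.fiberObj (x ≫ h) Y).1 = s.1 ≫ pullback.fst Y.hom h := rfl

theorem eqToIso_val {z z' : Spec (CommRingCat.of Ω) ⟶ S} (e : z = z') (Y : FEt.Cat S) (s : FEt.fiberObj z Y) :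
    ((eqToIso (congrArg (fun w => fiberFin w) e)).hom.app Y s : FEt.fiberObj z' Y).1 = s.1 := by
  subst e
  rfl

/-- Two identifications of fibres whose difference fixes a point agree on it. -/
theorem val_eq_of_fixed {Ω' : Type u} [Field Ω'] {z z' : Spec (CommRingCat.of Ω) ⟶ S} (e : z = z')
    {ξ : Spec (CommRingCat.of Ω') ⟶ S} (Q : fiberFin ξ ≅ fiberFin z) (Q' : fiberFin ξ ≅ fiberFin z')
    {Y : FEt.Cat S} (a : FEt.fiberObj ξ Y)
    (ha : ((Q ≪≫ eqToIso (congrArg (fun w => fiberFin w) e) ≪≫ Q'.symm).hom.app Y a : FEt.fiberObj ξ Y) = a) :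
    (Q.hom.app Y a : FEt.fiberObj z Y).1 = (Q'.hom.app Y a : FEt.fiberObj z' Y).1 := by
  subst e
  have h1 := congrArg (Q'.hom.app Y) ha
  have h4 := fun y => congr((ConcreteCategory.hom (($(Q'.inv_hom_id)).app Y)) y)
  exact congrArg Subtype.val ((h4 _).symm.trans h1)

end fibres

/-- Two fibre functors of a connected scheme are isomorphic. -/
theorem nonempty_fiberFin_iso {X : Scheme.{u}} [ConnectedSpace X] {Ω Ω' : Type u} [Field Ω] [IsAlgClosed Ω]
    [Field Ω'] [IsAlgClosed Ω'] (ξ : Spec (CommRingCat.of Ω) ⟶ X) (ξ' : Spec (CommRingCat.of Ω') ⟶ X) :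
    Nonempty (fiberFin ξ ≅ fiberFin ξ') := by
  letI := preGaloisCategory X
  haveI := galoisCategory (X := X)
  obtain ⟨i₁⟩ := fiberFunctor ξ
  obtain ⟨i₂⟩ := fiberFunctor ξ'
  haveI := i₁; haveI := i₂
  haveI := preservesFiniteLimits_fiberFin ξ
  exact GaloisCat.nonempty_iso_fiberFunctor (fiberFin ξ') (fiberFin ξ) (GaloisCat.isInitial_of_isEmpty _)

/-- If a dense set of automorphisms fixes a point of a fibre, all do. -/
theorem forall_fix_of_dense {X : Scheme.{u}} {Ω : Type u} [Field Ω] {ξ : Spec (CommRingCat.of Ω) ⟶ X}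
    {F : Set (FEt.piOne X ξ)} (hF : PiSp.TopGenerates F) (Y : FEt.Cat X) (a : FEt.fiberObj ξ Y)
    (hfix : ∀ σ ∈ F, σ.hom.app Y a = a) (σ : FEt.piOne X ξ) : σ.hom.app Y a = a := by
  let St : Subgroup (FEt.piOne X ξ) :=
    { carrier := {τ | τ.hom.app Y a = a}
      mul_mem' := fun {p q} hp hq => by
        show p.hom.app Y (q.hom.app Y a) = a
        rw [show q.hom.app Y a = a from hq]
        exact hp
      one_mem' := rfl
      inv_mem' := fun {p} hp => by
        show p.inv.app Y a = a
        conv_lhs => rw [← (show p.hom.app Y a = a from hp)]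
        exact congrArg (fun k => k.app Y a) p.hom_inv_id }
  have hc : IsClosed (St : Set (FEt.piOne X ξ)) := by
    letI tP : ∀ Z : FEt.Cat X, TopologicalSpace (FEt.fiberObj ξ Z → FEt.fiberObj ξ Z) := fun _ => ⊥
    haveI : ∀ Z : FEt.Cat X, DiscreteTopology (FEt.fiberObj ξ Z → FEt.fiberObj ξ Z) := fun _ => ⟨rfl⟩
    let co : FEt.piOne X ξ → ∀ Z : FEt.Cat X, FEt.fiberObj ξ Z → FEt.fiberObj ξ Z := fun τ Z s => (τ.hom.app Z) s
    have hcont : Continuous co := continuous_induced_dom
    exact (isClosed_discrete {k : FEt.fiberObj ξ Y → FEt.fiberObj ξ Y | k a = a}).preimage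
      ((continuous_apply Y).comp hcont)
  have h1 : (Subgroup.closure F : Set (FEt.piOne X ξ)) ⊆ St :=
    (Subgroup.closure_le St).mpr fun τ hτ => hfix τ hτ
  exact closure_minimal h1 hc (hF σ)

/-- A dense subgroup from a subgroup moving every nontrivial connected cover. -/
theorem topGenerates_of_forall_fix {S : Scheme.{u}} [ConnectedSpace S] {Ω : Type u} [Field Ω] [IsAlgClosed Ω]
    (ξ : Spec (CommRingCat.of Ω) ⟶ S) (T : Set (Aut (fiberFin ξ)))
    (h : ∀ (Y : FEt.Cat S), ConnectedSpace Y.left → ∀ a : FEt.fiberObj ξ Y,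
      (∀ τ ∈ T, (τ.hom.app Y a : FEt.fiberObj ξ Y) = a) → ∀ σ : Aut (fiberFin ξ), (σ.hom.app Y a : FEt.fiberObj ξ Y) = a) :
    PiSp.TopGenerates (autFiberEquiv ξ '' T) := by
  letI := preGaloisCategory S
  haveI := galoisCategory (X := S)
  obtain ⟨i₁⟩ := fiberFunctor ξ
  haveI := i₁
  let H : Subgroup (Aut (fiberFin ξ)) := (Subgroup.closure T).topologicalClosure
  have hH : ⊤ ≤ H := GaloisCat.le_of_forall_stabilizer (fiberFin ξ) (Subgroup.isClosed_topologicalClosure _)
    fun Y a hY hle σ _ => by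
      haveI := connectedSpace_of_isConnected Y
      exact MulAction.mem_stabilizer_iff.mpr (h Y inferInstance a (fun τ hτ =>
        MulAction.mem_stabilizer_iff.mp (hle (Subgroup.le_topologicalClosure _ (Subgroup.subset_closure hτ)))) σ)
  have hcont : Continuous (autFiberEquiv ξ) := by
    letI tP : ∀ Z : FEt.Cat S, TopologicalSpace (FEt.fiberObj ξ Z → FEt.fiberObj ξ Z) := fun _ => ⊥
    haveI : ∀ Z : FEt.Cat S, DiscreteTopology (FEt.fiberObj ξ Z → FEt.fiberObj ξ Z) := fun _ => ⟨rfl⟩
    let co : Aut (fiberFin ξ) → ∀ Z : FEt.Cat S, FEt.fiberObj ξ Z → FEt.fiberObj ξ Z :=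
      fun τ Z s => ((autFiberEquiv ξ τ).hom.app Z) s
    suffices h0 : Continuous co from continuous_induced_rng.mpr h0
    refine continuous_pi fun Z => ?_
    rw [continuous_discrete_rng]
    intro k
    have heq : ((fun τ : Aut (fiberFin ξ) => fun s : FEt.fiberObj ξ Z => (((autFiberEquiv ξ τ).hom.app Z) s : FEt.fiberObj ξ Z)) ⁻¹' {k}) =
        ⋂ s : FEt.fiberObj ξ Z, (fun τ : Aut (fiberFin ξ) => τ • (show (fiberFin ξ).obj Z from s)) ⁻¹' {k s} := by
      ext τ
      simp only [Set.mem_preimage, Set.mem_singleton_iff, Set.mem_iInter, funext_iff]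
      try rfl
    show IsOpen ((fun τ : Aut (fiberFin ξ) => fun s : FEt.fiberObj ξ Z => (((autFiberEquiv ξ τ).hom.app Z) s : FEt.fiberObj ξ Z)) ⁻¹' {k})
    rw [heq]
    haveI : DiscreteTopology ((fiberFin ξ).obj Z) := inferInstance
    exact isOpen_iInter_of_finite fun s => (isOpen_discrete _).preimage
      (continuous_id.smul continuous_const)
  show Dense ((Subgroup.closure (autFiberEquiv ξ '' T) : Subgroup (FEt.piOne S ξ)) : Set (FEt.piOne S ξ))
  have hd : Dense (Subgroup.closure T : Set (Aut (fiberFin ξ))) := fun σ => hH (Subgroup.mem_top σ)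
  have h2 := (autFiberEquiv ξ).surjective.denseRange.dense_image hcont hd
  have h3 : (autFiberEquiv ξ) '' (Subgroup.closure T : Set (Aut (fiberFin ξ))) =
      (Subgroup.closure (autFiberEquiv ξ '' T) : Set (FEt.piOne S ξ)) := by
    exact congrArg (fun K : Subgroup (FEt.piOne S ξ) => (K : Set (FEt.piOne S ξ)))
      (MonoidHom.map_closure (autFiberEquiv ξ).toMonoidHom T)
  rwa [h3] at h2

/-- A proper surjective morphism is universally submersive. -/
theorem univSubmersive_of_isProper {S S' : Scheme.{u}} (g : S' ⟶ S) [IsProper g] [Surjective g] :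
    SGA1.UnivSubmersive g := fun A B a b k h => by
  haveI : IsProper k := MorphismProperty.of_isPullback h.flip ‹IsProper g›
  haveI : Surjective k := MorphismProperty.of_isPullback h.flip ‹Surjective g›
  exact k.isClosedMap.isQuotientMap k.continuous k.surjective

/-- Two lifts to a cover from a connected scheme agreeing at a point are equal. -/
theorem hom_ext_of_point {D S : Scheme.{u}} [ConnectedSpace D] (Y : FEt.Cat S) (a b : D ⟶ Y.left)
    (w : a ≫ Y.hom = b ≫ Y.hom) {Ω : Type u} [Field Ω] (d : Spec (CommRingCat.of Ω) ⟶ D)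
    (hd : d ≫ a = d ≫ b) : a = b := by
  let c := pullback.lift a b w
  let Δ := pullback.diagonal Y.hom
  let e := pullback.fst c Δ
  haveI : IsOpenImmersion e := MorphismProperty.pullback_fst _ _ (inferInstance : IsOpenImmersion Δ)
  haveI : IsClosedImmersion e := MorphismProperty.pullback_fst _ _ (inferInstance : IsClosedImmersion Δ)
  have he : e ≫ a = e ≫ b := by
    have h1 := congrArg (· ≫ pullback.fst Y.hom Y.hom) (pullback.condition (f := c) (g := Δ))
    have h2 := congrArg (· ≫ pullback.snd Y.hom Y.hom) (pullback.condition (f := c) (g := Δ))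
    simp only [c, Δ, Category.assoc, pullback.lift_fst, pullback.lift_snd, pullback.diagonal_fst,
      pullback.diagonal_snd, Category.comp_id] at h1 h2
    exact h1.trans h2.symm
  let d' : Spec (CommRingCat.of Ω) ⟶ pullback c Δ := pullback.lift d (d ≫ a)
    (pullback.hom_ext (by simp [c, Δ]) (by simp [c, Δ, hd]))
  haveI : Epi e.base := by
    rw [TopCat.epi_iff_surjective]
    intro z
    have hc : IsClopen (Set.range e) := ⟨e.isClosedEmbedding.isClosed_range, e.isOpenEmbedding.isOpen_range⟩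
    rw [← Set.mem_range, hc.eq_univ ⟨_, d' (IsLocalRing.closedPoint Ω), rfl⟩]
    trivial
  haveI : IsIso e := IsOpenImmersion.isIso e
  exact (cancel_epi e).mp he

/-- The component of a point, as an open subscheme. -/
noncomputable def compOpens {Z : Scheme.{u}} [IsNoetherian Z] (c : _root_.ConnectedComponents Z) : Z.Opens :=
  ⟨{z | _root_.ConnectedComponents.mk z = c}, by
    obtain ⟨z₀, rfl⟩ := _root_.ConnectedComponents.surjective_coe c
    convert HenselLib.ProperCouple.isOpen_connectedComponent z₀ using 1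
    ext z
    exact _root_.ConnectedComponents.coe_eq_coe'⟩

theorem compOpens_props {Z : Scheme.{u}} [IsNoetherian Z] (c : _root_.ConnectedComponents Z) :
    IsClosed (compOpens c : Set Z) ∧ ConnectedSpace (compOpens c) := by
  obtain ⟨z₀, rfl⟩ := _root_.ConnectedComponents.surjective_coe c
  have e : (compOpens (_root_.ConnectedComponents.mk z₀) : Set Z) = connectedComponent z₀ :=
    Set.ext fun z => _root_.ConnectedComponents.coe_eq_coe'
  refine ⟨e ▸ isClosed_connectedComponent, ?_⟩
  exact Subtype.connectedSpace (e ▸ isConnected_connectedComponent)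

theorem finite_connectedComponents (Z : Scheme.{u}) [IsNoetherian Z] : Finite (_root_.ConnectedComponents Z) := by
  classical
  obtain ⟨t, ht⟩ := isCompact_univ.elim_finite_subcover (fun c : _root_.ConnectedComponents Z => (compOpens c : Set Z))
    (fun c => (compOpens c).isOpen) fun z _ => Set.mem_iUnion.mpr ⟨_root_.ConnectedComponents.mk z, rfl⟩
  exact Finite.of_surjective (fun c : t => c.1) fun c => by
    obtain ⟨z, rfl⟩ := _root_.ConnectedComponents.surjective_coe c
    obtain ⟨c', hc', hz⟩ := Set.mem_iUnion₂.mp (ht (Set.mem_univ z))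
    exact ⟨⟨c', hc'⟩, (show _root_.ConnectedComponents.mk z = c' from hz).symm⟩

section transport

variable {C S : Scheme.{u}} [ConnectedSpace C] (h : C ⟶ S) {Ω K : Type u} [Field Ω] [IsAlgClosed Ω] [Field K] [IsAlgClosed K]
  (ξ : Spec (CommRingCat.of Ω) ⟶ S) (η : Spec (CommRingCat.of K) ⟶ C)
  (e : fiberFin ξ ≅ FEt.restrict h ⋙ fiberFin η)

/-- The transport of fibres to a point of a component. -/
noncomputable def transport {L : Type u} [Field L] [IsAlgClosed L] (x : Spec (CommRingCat.of L) ⟶ C) :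
    fiberFin ξ ≅ fiberFin (x ≫ h) :=
  e ≪≫ Functor.isoWhiskerLeft (FEt.restrict h) (nonempty_fiberFin_iso η x).some ≪≫ fiberCompIso h x

/-- The automorphism of the fibres pushed forward from a component. -/
noncomputable def pushAut (σ : FEt.piOne C η) : Aut (fiberFin ξ) :=
  e ≪≫ Pi1X.autWhisker (FEt.restrict h) (fiberFin η) ((autFiberEquiv η).symm σ) ≪≫ e.symm

/-- A point of a fibre fixed by generators of the group of a component gives a section over the component. -/
theorem exists_lift_of_fixed {F : Set (FEt.piOne C η)} (hF : PiSp.TopGenerates F) (Y : FEt.Cat S)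
    (a : FEt.fiberObj ξ Y) (ha : ∀ σ ∈ F, ((pushAut h ξ η e σ).hom.app Y a : FEt.fiberObj ξ Y) = a) :
    ∃ s : C ⟶ Y.left, s ≫ Y.hom = h ∧ ∀ {L : Type u} [Field L] [IsAlgClosed L] (x : Spec (CommRingCat.of L) ⟶ C),
      ((transport h ξ η e x).hom.app Y a : FEt.fiberObj (x ≫ h) Y).1 = x ≫ s := by
  letI := preGaloisCategory C
  haveI := galoisCategory (X := C)
  obtain ⟨i₁⟩ := fiberFunctor η
  haveI := i₁
  let a' : (fiberFin η).obj ((FEt.restrict h).obj Y) := e.hom.app Y a
  have hfix : ∀ σ : Aut (fiberFin η), σ • a' = a' := by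
    intro σ
    refine forall_fix_of_dense hF _ a' (fun σ' hσ' => ?_) (autFiberEquiv η σ)
    have h2 := congrArg (e.hom.app Y) (ha σ' hσ')
    have h3 : σ' = autFiberEquiv η ((autFiberEquiv η).symm σ') := ((autFiberEquiv η).apply_symm_apply σ').symm
    rw [h3]
    refine Eq.trans ?_ h2
    have h4 := fun y => congr((ConcreteCategory.hom (($(e.inv_hom_id)).app Y)) y)
    exact (h4 _).symm
  obtain ⟨m₀, hm₀⟩ := (GaloisCat.exists_section_iff (fiberFin η) a').mp hfix
  let m : mk (𝟙 C) ⟶ (FEt.restrict h).obj Y := terminal.from (mk (𝟙 C)) ≫ m₀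
  have h0 : (fiberFin η).map m ⟨η, Category.comp_id _⟩ = a' := by
    rw [Functor.map_comp]
    exact hm₀ _
  refine ⟨m.left ≫ pullback.fst Y.hom h, ?_, fun {L} _ _ x => ?_⟩
  · rw [Category.assoc, pullback.condition, ← Category.assoc]
    exact (congrArg (· ≫ h) (hom_w m)).trans (Category.id_comp _)
  · show ((fiberCompIso h x).hom.app Y (((nonempty_fiberFin_iso η x).some).hom.app ((FEt.restrict h).obj Y) a') :
      FEt.fiberObj (x ≫ h) Y).1 = _
    rw [fiberCompIso_val, ← h0]
    have h1 := congr((ConcreteCategory.hom $((nonempty_fiberFin_iso η x).some.hom.naturality m)) ⟨η, Category.comp_id _⟩)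
    refine (congrArg (fun s : FEt.fiberObj x ((FEt.restrict h).obj Y) => s.1 ≫ pullback.fst Y.hom h) h1).trans ?_
    show (((nonempty_fiberFin_iso η x).some.hom.app (mk (𝟙 C)) ⟨η, Category.comp_id _⟩ :
      FEt.fiberObj x (mk (𝟙 C))).1 ≫ m.left) ≫ _ = _
    have h2 : ∀ s : FEt.fiberObj x (mk (𝟙 C)), s.1 = x := fun s => (Category.comp_id _).symm.trans s.2
    rw [h2, Category.assoc]

end transport

/-- A connected cover with a section has one point in each fibre. -/
theorem fiber_subsingleton_of_section {S : Scheme.{u}} [Nonempty S] (Y : FEt.Cat S) [ConnectedSpace Y.left]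
    (u : S ⟶ Y.left) (hu : u ≫ Y.hom = 𝟙 S) {Ω : Type u} [Field Ω] (ξ : Spec (CommRingCat.of Ω) ⟶ S)
    (s : FEt.fiberObj ξ Y) : s.1 = ξ ≫ u := by
  haveI : ConnectedSpace ((𝟭 Scheme.{u}).obj Y.left) := ‹ConnectedSpace Y.left›
  haveI : Etale (u ≫ Y.hom) := by rw [hu]; infer_instance
  haveI : Etale u := Etale.of_comp u Y.hom
  haveI : IsClosedImmersion (u ≫ Y.hom) := by rw [hu]; infer_instance
  haveI : IsClosedImmersion u := IsClosedImmersion.of_comp u Y.hom
  haveI : IsOpenImmersion u := IsOpenImmersion.of_flat_of_mono u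
  haveI : Epi u.base := by
    rw [TopCat.epi_iff_surjective]
    intro z
    have hc : IsClopen (Set.range u) := ⟨u.isClosedEmbedding.isClosed_range, u.isOpenEmbedding.isOpen_range⟩
    obtain ⟨z₀⟩ := (inferInstance : Nonempty S)
    rw [← Set.mem_range, hc.eq_univ ⟨_, z₀, rfl⟩]
    trivial
  haveI : IsIso u := IsOpenImmersion.isIso u
  have h1 : CategoryTheory.inv u = Y.hom := IsIso.inv_eq_of_hom_inv_id hu
  have h3 : Y.hom ≫ u = 𝟙 _ := by rw [← h1, IsIso.inv_hom_id]
  have h2 : (s.1 ≫ Y.hom) ≫ u = ξ ≫ u := congrArg (· ≫ u) s.2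
  exact (Category.comp_id _).symm.trans ((congrArg (s.1 ≫ ·) h3).symm.trans ((Category.assoc _ _ _).symm.trans h2))

/-- Glueing along a partition into components. -/
theorem exists_glue {Z T : Scheme.{u}} [IsNoetherian Z] (s : ∀ c, (compOpens (Z := Z) c : Scheme.{u}) ⟶ T) :
    ∃ σ : Z ⟶ T, ∀ c, (compOpens c).ι ≫ σ = s c := by
  let 𝒰 := Z.openCoverOfIsOpenCover compOpens (TopologicalSpace.IsOpenCover.mk (eq_top_iff.mpr fun z _ =>
    Opens.mem_iSup.mpr ⟨_root_.ConnectedComponents.mk z, rfl⟩))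
  refine ⟨𝒰.glueMorphisms s fun c c' => ?_, fun c => 𝒰.ι_glueMorphisms _ _ c⟩
  by_cases hcc : c = c'
  · subst hcc
    have h1 : pullback.fst (𝒰.f c) (𝒰.f c) = pullback.snd (𝒰.f c) (𝒰.f c) :=
      (cancel_mono (𝒰.f c)).mp pullback.condition
    rw [h1]
  · haveI : IsEmpty ↥(pullback (𝒰.f c) (𝒰.f c')) := ⟨fun w => hcc (by
      have h1 : (𝒰.f c) (pullback.fst (𝒰.f c) (𝒰.f c') w) = (𝒰.f c') (pullback.snd (𝒰.f c) (𝒰.f c') w) :=
        ((Scheme.Hom.comp_apply _ _ _).symm.trans
          (congrArg (fun k : pullback (𝒰.f c) (𝒰.f c') ⟶ Z => k w) pullback.condition)).trans (Scheme.Hom.comp_apply _ _ _)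
      exact ((pullback.fst (𝒰.f c) (𝒰.f c') w).2).symm.trans
        ((congrArg _root_.ConnectedComponents.mk h1).trans (pullback.snd (𝒰.f c) (𝒰.f c') w).2))⟩
    exact AlgebraicGeometry.isInitialOfIsEmpty.hom_ext _ _

set_option maxHeartbeats 800000 in
/-- Finite generation descends along proper surjective morphisms. -/
theorem exists_topGenerates_of_proper_surjective {S S' : Scheme.{u}} [IsNoetherian S]
    [ConnectedSpace S] (g : S' ⟶ S) [IsProper g] [Surjective g]
    (hfg : ∀ (C : S'.Opens), IsClosed (C : Set S') → ConnectedSpace C →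
      ∀ (Ω : Type u) [Field Ω] [IsAlgClosed Ω] (η : Spec (CommRingCat.of Ω) ⟶ (C : Scheme.{u})),
        ∃ F : Finset (FEt.piOne (C : Scheme.{u}) η), PiSp.TopGenerates (F : Set (FEt.piOne (C : Scheme.{u}) η)))
    {Ω : Type u} [Field Ω] [IsAlgClosed Ω] (ξ : Spec (CommRingCat.of Ω) ⟶ S) :
    ∃ F : Finset (FEt.piOne S ξ), PiSp.TopGenerates (F : Set (FEt.piOne S ξ)) := by
  classical
  haveI : IsLocallyNoetherian S' := LocallyOfFiniteType.isLocallyNoetherian g
  haveI : CompactSpace S' := QuasiCompact.compactSpace_of_compactSpace g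
  haveI : IsNoetherian S' := {}
  let P := pullback g g
  haveI : IsLocallyNoetherian P := LocallyOfFiniteType.isLocallyNoetherian (pullback.fst g g)
  haveI : CompactSpace P := QuasiCompact.compactSpace_of_compactSpace (pullback.fst g g)
  haveI : IsNoetherian P := {}
  haveI := finite_connectedComponents S'
  haveI := finite_connectedComponents P
  let C := fun c : _root_.ConnectedComponents S' => compOpens c
  let hS := fun c => (C c).ι ≫ g
  haveI hCc : ∀ c, ConnectedSpace (C c) := fun c => (compOpens_props c).2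
  haveI : ∀ c, ConnectedSpace ↥(C c : Scheme.{u}) := hCc
  have hη : ∀ c, ∃ (Ω' : Type u) (_ : Field Ω') (_ : IsAlgClosed Ω')
      (_ : Spec (CommRingCat.of Ω') ⟶ (C c : Scheme.{u})), True := fun c => by
    obtain ⟨z⟩ := (inferInstance : Nonempty ↥(C c : Scheme.{u}))
    obtain ⟨K, i₁, i₂, s, -⟩ := exists_geometric_point z
    exact ⟨K, i₁, i₂, s, trivial⟩
  choose K iK₁ iK₂ η _ using hη
  choose Fc hFc using fun c => hfg (C c) (compOpens_props c).1 (hCc c) (K c) (η c)
  let α : ∀ c, fiberFin ξ ≅ fiberFin (η c ≫ hS c) := fun c => (nonempty_fiberFin_iso ξ (η c ≫ hS c)).some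
  let e : ∀ c, fiberFin ξ ≅ FEt.restrict (hS c) ⋙ fiberFin (η c) := fun c =>
    α c ≪≫ (fiberCompIso (hS c) (η c)).symm
  let push := fun c => pushAut (hS c) ξ (η c) (e c)
  have hd : ∀ d : _root_.ConnectedComponents P, ∃ (L : Type u) (_ : Field L) (_ : IsAlgClosed L)
      (_ : Spec (CommRingCat.of L) ⟶ (compOpens d : Scheme.{u})), True := fun d => by
    haveI := (compOpens_props d).2
    obtain ⟨z⟩ := (inferInstance : Nonempty (compOpens d))
    obtain ⟨L, i₁, i₂, s, -⟩ := exists_geometric_point (W := (compOpens d : Scheme.{u})) z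
    exact ⟨L, i₁, i₂, s, trivial⟩
  choose L iL₁ iL₂ δ _ using hd
  let cpt : ∀ (d : _root_.ConnectedComponents P) (p : P ⟶ S'), _root_.ConnectedComponents S' := fun d p =>
    _root_.ConnectedComponents.mk ((δ d ≫ (compOpens d).ι ≫ p) (IsLocalRing.closedPoint (L d)))
  have hlift : ∀ (d : _root_.ConnectedComponents P) (p : P ⟶ S'),
      Set.range (δ d ≫ (compOpens d).ι ≫ p) ⊆ Set.range (C (cpt d p)).ι := fun d p => by
    rintro _ ⟨z, rfl⟩
    rw [Scheme.Opens.range_ι, Subsingleton.elim (α := PrimeSpectrum (L d)) z (IsLocalRing.closedPoint (L d))]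
    rfl
  let pt : ∀ (d : _root_.ConnectedComponents P) (p : P ⟶ S'), Spec (CommRingCat.of (L d)) ⟶ (C (cpt d p) : Scheme.{u}) :=
    fun d p => IsOpenImmersion.lift (C (cpt d p)).ι _ (hlift d p)
  have hpt : ∀ d p, pt d p ≫ (C (cpt d p)).ι = δ d ≫ (compOpens d).ι ≫ p := fun d p => IsOpenImmersion.lift_fac _ _ _
  have hz : ∀ d, pt d (pullback.fst g g) ≫ hS (cpt d (pullback.fst g g)) =
      pt d (pullback.snd g g) ≫ hS (cpt d (pullback.snd g g)) := fun d => by
    show pt d _ ≫ (C _).ι ≫ g = pt d _ ≫ (C _).ι ≫ g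
    rw [reassoc_of% hpt d (pullback.fst g g), reassoc_of% hpt d (pullback.snd g g), pullback.condition]
  let τ : _root_.ConnectedComponents P → Aut (fiberFin ξ) := fun d =>
    transport (hS _) ξ (η _) (e _) (pt d (pullback.fst g g)) ≪≫ eqToIso (congrArg (fun w => fiberFin w) (hz d)) ≪≫
      (transport (hS _) ξ (η _) (e _) (pt d (pullback.snd g g))).symm
  let T : Set (Aut (fiberFin ξ)) := (⋃ c, push c '' (Fc c : Set _)) ∪ Set.range τ
  have hTfin : T.Finite :=
    (Set.finite_iUnion fun c => (Fc c).finite_toSet.image _).union (Set.finite_range τ)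
  refine ⟨(hTfin.image (autFiberEquiv ξ)).toFinset, ?_⟩
  rw [Set.Finite.coe_toFinset]
  refine topGenerates_of_forall_fix ξ T fun Y hY a ha σ₀ => ?_
  choose sc hscq hval using fun c => exists_lift_of_fixed (hS c) ξ (η c) (e c) (hFc c) Y a
    fun σ hσ => ha _ (Or.inl (Set.mem_iUnion.mpr ⟨c, σ, hσ, rfl⟩))
  obtain ⟨σ', hσ⟩ := exists_glue sc
  have hσq : σ' ≫ Y.hom = g :=
    (S'.openCoverOfIsOpenCover C (TopologicalSpace.IsOpenCover.mk (eq_top_iff.mpr fun z _ =>
      Opens.mem_iSup.mpr ⟨_root_.ConnectedComponents.mk z, rfl⟩))).hom_ext _ _ fun c => by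
    show (C c).ι ≫ σ' ≫ Y.hom = (C c).ι ≫ g
    rw [reassoc_of% hσ c, hscq]
  have hσσ : pullback.fst g g ≫ σ' = pullback.snd g g ≫ σ' := by
    let 𝒱 := P.openCoverOfIsOpenCover compOpens (TopologicalSpace.IsOpenCover.mk (eq_top_iff.mpr fun z _ =>
      Opens.mem_iSup.mpr ⟨_root_.ConnectedComponents.mk z, rfl⟩))
    refine 𝒱.hom_ext _ _ fun d => ?_
    haveI : ConnectedSpace ↥(compOpens d : Scheme.{u}) := (compOpens_props d).2
    show (compOpens d).ι ≫ _ = (compOpens d).ι ≫ _
    refine hom_ext_of_point Y _ _ (by simp only [Category.assoc, hσq, pullback.condition]) (δ d) ?_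
    have hp : ∀ p : P ⟶ S', δ d ≫ (compOpens d).ι ≫ p ≫ σ' = pt d p ≫ sc (cpt d p) := fun p => by
      rw [← hσ, reassoc_of% hpt d p]
    have hA := hval (cpt d (pullback.fst g g)) (pt d (pullback.fst g g))
    have hB := hval (cpt d (pullback.snd g g)) (pt d (pullback.snd g g))
    rw [hp, hp, ← hA, ← hB]
    exact val_eq_of_fixed (hz d) _ _ a (ha (τ d) (Or.inr ⟨d, rfl⟩))
  haveI : Etale Y.hom := Y.prop.2
  let f' : pullback (𝟙 S) g ⟶ pullback Y.hom g := pullback.lift (pullback.snd _ _ ≫ σ') (pullback.snd _ _)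
    (by rw [Category.assoc, hσq])
  obtain ⟨u, ⟨hu, -⟩, -⟩ := Groth.Agent.FEtDesc.existsUnique_hom_descend g (univSubmersive_of_isProper g) (𝟙 S) Y.hom f'
    (pullback.lift_snd _ _ _) fun {T} x y hxy => by
      simp only [f', pullback.lift_fst]
      have hc : (x ≫ pullback.snd (𝟙 S) g) ≫ g = (y ≫ pullback.snd (𝟙 S) g) ≫ g := by
        simp only [Category.assoc, ← pullback.condition, Category.comp_id]
        exact hxy
      have h1 := congrArg (pullback.lift _ _ hc ≫ ·) hσσ
      simpa using h1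
  haveI := hY
  exact Subtype.ext ((fiber_subsingleton_of_section Y u hu ξ _).trans (fiber_subsingleton_of_section Y u hu ξ _).symm)

end Groth.Agent.FEtQuot
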