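import Groth.Agent.FEtQuot.Algebra
import Groth.Agent.SchFinLib.Invariants
import Mathlib.RingTheory.Flat.EquationalCriterion
import Mathlib.Algebra.Module.Projective

/-!
# Invariants of a finite family of endomorphisms of a finite étale algebra over any ring
-/

set_option autoImplicit false
set_option linter.style.haveILetI false
universe u

open TensorProduct

namespace Groth.Agent.FEtQuot.Endo

variable {R : Type u} [CommRing R] {A : Type u} [CommRing A] [Algebra R A]

/-- Over a local ring a flat algebra which is a quotient of a finite product of copies of the base is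
itself such a product. -/
theorem exists_equiv_pi {L B : Type u} [CommRing L] [IsLocalRing L] [CommRing B] [Algebra L B]
    [Module.Flat L B] [Module.Finite L B] {n : ℕ} (π : (Fin n → L) →ₐ[L] B) (hπ : Function.Surjective π) :
    ∃ m : ℕ, Nonempty (B ≃ₐ[L] (Fin m → L)) := by
  classical
  let f : Fin n → B := fun i => π (Pi.single i 1)
  have hf : ∀ i, IsIdempotentElem (f i) := fun i => by
    show π _ * π _ = π _
    rw [← map_mul, ← Pi.single_mul, one_mul]
  have hann : ∀ i, f i ≠ 0 → ∀ c : L, c • f i = 0 → c = 0 := by
    intro i hi c hc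
    let μ : B →ₗ[L] B := LinearMap.mulLeft L (f i)
    have hμ : ∀ b, μ (μ b) = μ b := fun b => by
      show f i * (f i * b) = f i * b
      rw [← mul_assoc, hf i]
    haveI : Module.Free L B := Module.free_of_flat_of_isLocalRing
    haveI : Module.Projective L B := Module.Projective.of_free (R := L) (P := B)
    haveI : Module.Projective L (LinearMap.range μ) :=
      Module.Projective.of_split (LinearMap.range μ).subtype μ.rangeRestrict
        (LinearMap.ext fun ⟨y, b, hb⟩ => Subtype.ext (by subst hb; exact hμ b))
    haveI : Module.Flat L (LinearMap.range μ) := inferInstance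
    haveI : Module.Finite L (LinearMap.range μ) := inferInstance
    haveI : Module.Free L (LinearMap.range μ) := Module.free_of_flat_of_isLocalRing
    let y : LinearMap.range μ := ⟨f i, f i, hf i⟩
    let b := Module.Free.chooseBasis L (LinearMap.range μ)
    obtain ⟨j⟩ : Nonempty (Module.Free.ChooseBasisIndex L (LinearMap.range μ)) := by
      by_contra h
      rw [not_nonempty_iff] at h
      haveI := b.repr.toEquiv.subsingleton
      exact hi (congrArg Subtype.val (Subsingleton.elim y 0))
    have hz : ∀ z : LinearMap.range μ, c • z = 0 := fun ⟨z, d, hd⟩ => Subtype.ext (by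
      subst hd
      show c • (f i * d) = 0
      rw [← smul_mul_assoc, hc, zero_mul])
    have := congrArg (fun v => b.repr v j) (hz (b j))
    simpa using this
  let S := {i : Fin n // f i ≠ 0}
  let eS : Fin (Fintype.card S) ≃ S := (Fintype.equivFin S).symm
  have hsum : ∀ v : Fin n → L, π v = ∑ i, v i • f i := fun v => by
    conv_lhs => rw [← Finset.univ_sum_single v]
    rw [map_sum]
    refine Finset.sum_congr rfl fun i _ => ?_
    rw [← map_smul]
    congr 1
    rw [← Pi.single_smul, smul_eq_mul, mul_one]
  have hzero : ∀ v, π v = 0 → ∀ i, f i ≠ 0 → v i = 0 := fun v hv i hi => hann i hi _ (by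
    have h := congrArg (f i * ·) hv
    simp only [hsum, Finset.mul_sum, mul_zero] at h
    rw [Finset.sum_eq_single i] at h
    · rwa [mul_smul_comm, hf i] at h
    · intro j _ hj
      rw [mul_smul_comm]
      show v j • (π _ * π _) = 0
      rw [← map_mul, show (Pi.single i (1 : L) : Fin n → L) * Pi.single j 1 = 0 from funext fun k => by
        rcases eq_or_ne k i with rfl | hk
        · simp [Pi.single_eq_of_ne hj.symm]
        · simp [Pi.single_eq_of_ne hk], map_zero, smul_zero]
    · simp)
  let ext : (Fin (Fintype.card S) → L) →ₐ[L] B :=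
    { toFun := fun w => π fun i => if h : f i ≠ 0 then w (eS.symm ⟨i, h⟩) else 0
      map_one' := by
        rw [← map_one π, hsum, hsum]
        refine Finset.sum_congr rfl fun i _ => ?_
        by_cases h : f i ≠ 0
        · simp [h]
        · push Not at h; simp [h]
      map_mul' := fun a b => by
        rw [← map_mul]; congr 1; funext i; by_cases h : f i ≠ 0 <;> simp [h]
      map_zero' := by
        rw [hsum]
        refine Finset.sum_eq_zero fun i _ => ?_
        split_ifs <;> simp
      map_add' := fun a b => by
        rw [← map_add]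
        congr 1
        funext i
        simp only [Pi.add_apply]
        split_ifs <;> simp
      commutes' := fun r => by
        rw [← π.commutes r, hsum, hsum]
        refine Finset.sum_congr rfl fun i _ => ?_
        by_cases h : f i ≠ 0
        · simp [h]
        · push Not at h; simp [h] }
  refine ⟨Fintype.card S, ⟨(AlgEquiv.ofBijective ext ⟨(injective_iff_map_eq_zero ext).2 fun w hw => funext fun k => ?_, fun b => ?_⟩).symm⟩⟩
  · have := hzero _ hw (eS k).1 (eS k).2
    simpa [(eS k).2] using this
  · obtain ⟨v, rfl⟩ := hπ b
    refine ⟨fun k => v (eS k).1, ?_⟩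
    show π _ = π v
    rw [hsum, hsum]
    refine Finset.sum_congr rfl fun i _ => ?_
    by_cases h : f i ≠ 0
    · simp [h]
    · push Not at h; simp [h]

variable {ι : Type u} [Finite ι] (σ : ι → (A →ₐ[R] A)) [Algebra.Etale R A] [Module.Finite R A]

/-- The difference map. -/
def delta : A →ₗ[R] ι → A := LinearMap.pi fun g => (σ g).toLinearMap - LinearMap.id

/-- The invariants of a finite étale algebra under a finite family of endomorphisms are finite étale. -/
theorem finite_etale_invSub : Module.Finite R (SchFinLib.invSub σ) ∧ Algebra.Etale R (SchFinLib.invSub σ) := by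
  classical
  letI := Fintype.ofFinite ι
  obtain ⟨T, _, _, hff, -, n, π, hπ⟩ := exists_split R A
  haveI : Module.Flat R A := inferInstance
  haveI : Module.FinitePresentation R A := Module.FinitePresentation.of_finite_of_finitePresentation R A
  haveI : Module.Projective R A := Module.Flat.projective_of_finitePresentation
  let d := delta σ
  have hlocal : ∀ (P : Ideal T) [P.IsPrime],
      Algebra.Etale (Localization.AtPrime P) (Localization.AtPrime P ⊗[R] SchFinLib.invSub σ) ∧
      Module.Flat (Localization.AtPrime P) (Localization.AtPrime P ⊗[R] ((ι → A) ⧸ LinearMap.range d)) := by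
    intro P _
    let L := Localization.AtPrime P
    haveI : Module.Flat R L := SchFinLib.flat_atPrime (R := R) P
    let c := Algebra.TensorProduct.cancelBaseChange R T L L A
    let πL : (Fin n → L) →ₐ[L] L ⊗[R] A :=
      ((c.toAlgHom).comp (Algebra.TensorProduct.map (AlgHom.id L L) π)).comp
        ((Algebra.TensorProduct.piRight T L L (fun _ : Fin n => T)).trans
          (AlgEquiv.piCongrRight fun _ => Algebra.TensorProduct.rid T L L)).symm.toAlgHom
    have hπL : Function.Surjective πL := by
      refine (c.surjective.comp ?_).comp (AlgEquiv.surjective _)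
      exact Algebra.TensorProduct.map_surjective (R := T) (f := AlgHom.id L L) (g := π) Function.surjective_id hπ
    obtain ⟨m, ⟨e⟩⟩ := exists_equiv_pi πL hπL
    obtain ⟨φ, hφ, E, -⟩ := SchFinLib.invariants_split σ L e
    haveI := Fintype.ofFinite (Quot fun i j => ∃ g, φ g i = j)
    refine ⟨Algebra.Etale.of_equiv E.symm, ?_⟩
    -- the cokernel of the difference map is a direct summand
    let dL : L ⊗[R] A →ₗ[L] L ⊗[R] (ι → A) := d.baseChange L
    let P' : L ⊗[R] (ι → A) ≃ₗ[L] ι → L ⊗[R] A := TensorProduct.piRight R L L fun _ : ι => A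
    have hdL : ∀ z g, P' (dL z) g = Algebra.TensorProduct.map (AlgHom.id L L) (σ g) z - z := by
      intro z g
      induction z using TensorProduct.induction_on with
      | zero => simp
      | tmul l a => simp [P', dL, d, delta, TensorProduct.tmul_sub]
      | add x y hx hy => simp only [map_add, Pi.add_apply, hx, hy]; abel
    let r : Fin m → Fin m → Prop := fun i j => ∃ g, φ g i = j
    let Φ : L ⊗[R] (ι → A) →ₗ[L] ι → Fin m → L :=
      (LinearEquiv.piCongrRight fun _ : ι => e.toLinearEquiv).toLinearMap ∘ₗ P'.toLinearMap
    have hΦ : ∀ z g i, Φ (dL z) g i = e z (φ g i) - e z i := fun z g i => by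
      show e (P' (dL z) g) i = _
      rw [hdL, map_sub, Pi.sub_apply, hφ]
    have hell : ∀ i j, Relation.EqvGen r i j →
        ∃ ℓ : L ⊗[R] (ι → A) →ₗ[L] L, ∀ z, ℓ (dL z) = e z j - e z i := by
      intro i j h
      induction h with
      | rel i j hij =>
        obtain ⟨g, rfl⟩ := hij
        exact ⟨LinearMap.proj i ∘ₗ LinearMap.proj g ∘ₗ Φ, fun z => hΦ z g i⟩
      | refl i => exact ⟨0, fun z => by simp⟩
      | symm i j _ ih =>
        obtain ⟨ℓ, hℓ⟩ := ih
        exact ⟨-ℓ, fun z => by simp [hℓ]⟩
      | trans i j k _ _ ih₁ ih₂ =>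
        obtain ⟨ℓ₁, h₁⟩ := ih₁
        obtain ⟨ℓ₂, h₂⟩ := ih₂
        exact ⟨ℓ₁ + ℓ₂, fun z => by simp [h₁, h₂]⟩
    choose ℓ hℓ using fun i : Fin m => hell i _ (Quot.eqvGen_exact (Quot.out_eq (Quot.mk r i)).symm)
    let rep : Fin m → Fin m := fun i => Quot.out (Quot.mk r i)
    have hrep : ∀ g i, rep (φ g i) = rep i := fun g i =>
      congrArg Quot.out (Quot.sound (show r i (φ g i) from ⟨g, rfl⟩)).symm
    let s : L ⊗[R] (ι → A) →ₗ[L] L ⊗[R] A :=
      e.symm.toLinearMap ∘ₗ LinearMap.pi fun i => -(ℓ i)
    have hsd : ∀ z, dL (s (dL z)) = dL z := by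
      intro z
      apply ((P'.trans (LinearEquiv.piCongrRight fun _ : ι => e.toLinearEquiv)).injective)
      funext g i
      show Φ (dL (s (dL z))) g i = Φ (dL z) g i
      rw [hΦ, hΦ]
      have hs : ∀ j, e (s (dL z)) j = e z j - e z (rep j) := fun j => by
        show e (e.symm fun i => -(ℓ i (dL z))) j = _
        rw [e.apply_symm_apply, hℓ, neg_sub]
      rw [hs, hs, hrep]
      ring
    let Q := L ⊗[R] ((ι → A) ⧸ LinearMap.range d)
    let q : L ⊗[R] (ι → A) →ₗ[L] Q := (LinearMap.range d).mkQ.baseChange L
    have hq : Function.Surjective q := LinearMap.lTensor_surjective L (Submodule.mkQ_surjective _)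
    have hex : Function.Exact dL q := lTensor_exact L (LinearMap.exact_map_mkQ_range d) (Submodule.mkQ_surjective _)
    haveI : Module.Projective L (L ⊗[R] (ι → A)) :=
      Module.Projective.of_equiv (P'.trans (LinearEquiv.piCongrRight fun _ : ι => e.toLinearEquiv)).symm
    let pr : L ⊗[R] (ι → A) →ₗ[L] L ⊗[R] (ι → A) := LinearMap.id - dL ∘ₗ s
    let sec := (LinearMap.ker q).liftQ pr (by
      intro w hw
      obtain ⟨z, rfl⟩ := (hex w).1 hw
      show dL z - dL (s (dL z)) = 0
      rw [hsd, sub_self])
    let eq := (q.quotKerEquivOfSurjective hq)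
    haveI : Module.Projective L Q := Module.Projective.of_split (sec ∘ₗ eq.symm.toLinearMap) q (by
      refine LinearMap.ext fun x => ?_
      obtain ⟨w, rfl⟩ := hq x
      show q (sec (eq.symm (q w))) = q w
      rw [show eq.symm (q w) = Submodule.Quotient.mk w from eq.injective (by rw [eq.apply_symm_apply]; rfl)]
      show q (w - dL (s w)) = q w
      rw [map_sub, hex.apply_apply_eq_zero, sub_zero])
    infer_instance
  let C := (ι → A) ⧸ LinearMap.range d
  haveI : Module.FinitePresentation R (ι → A) := inferInstance
  haveI : Module.FinitePresentation R C :=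
    Module.finitePresentation_of_surjective (LinearMap.range d).mkQ (Submodule.mkQ_surjective _)
      (by rw [Submodule.ker_mkQ]; exact Module.Finite.fg_top.map d |> fun h => by rwa [Submodule.map_top] at h)
  haveI : Module.Flat R C := SchFinLib.flat_of_local (T := T) C fun P _ => (hlocal P).2
  haveI : Module.Projective R C := Module.Flat.projective_of_finitePresentation
  obtain ⟨sC, hsC⟩ := Module.projective_lifting_property (LinearMap.range d).mkQ LinearMap.id (Submodule.mkQ_surjective _)
  let pr : (ι → A) →ₗ[R] LinearMap.range d := LinearMap.codRestrict _ (LinearMap.id - sC ∘ₗ (LinearMap.range d).mkQ)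
    fun w => (Submodule.Quotient.mk_eq_zero _).1 (by
      show (LinearMap.range d).mkQ (w - sC ((LinearMap.range d).mkQ w)) = 0
      rw [map_sub, sub_eq_zero]
      exact (LinearMap.congr_fun hsC ((LinearMap.range d).mkQ w)).symm)
  haveI : Module.Projective R (ι → A) := Module.Projective.of_equiv (DirectSum.linearEquivFunOnFintype R ι fun _ => A)
  haveI : Module.Projective R (LinearMap.range d) := Module.Projective.of_split (LinearMap.range d).subtype pr (by
    refine LinearMap.ext fun y => Subtype.ext ?_
    show y.1 - sC ((LinearMap.range d).mkQ y.1) = y.1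
    rw [show (LinearMap.range d).mkQ y.1 = 0 from (Submodule.Quotient.mk_eq_zero _).2 y.2, map_zero, sub_zero])
  obtain ⟨sA, hsA⟩ := Module.projective_lifting_property d.rangeRestrict LinearMap.id d.surjective_rangeRestrict
  have hker : ∀ a, a ∈ SchFinLib.invSub σ ↔ d a = 0 := fun a => by
    simp only [SchFinLib.mem_invSub, d, delta, funext_iff, LinearMap.pi_apply, LinearMap.sub_apply]
    exact forall_congr' fun g => (sub_eq_zero).symm
  let proj : A →ₗ[R] SchFinLib.invSub σ :=
    { toFun := fun a => ⟨a - sA (d.rangeRestrict a), (hker _).2 (by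
        have := congrArg Subtype.val (LinearMap.congr_fun hsA (d.rangeRestrict a))
        rw [map_sub, sub_eq_zero]
        exact this.symm)⟩
      map_add' := fun a b => Subtype.ext (show a + b - sA (d.rangeRestrict (a + b)) = _ by simp only [map_add]; exact (add_sub_add_comm _ _ _ _))
      map_smul' := fun c a => Subtype.ext (show c • a - sA (d.rangeRestrict (c • a)) = _ by simp only [map_smul, ← smul_sub]; rfl) }
  have hproj : proj ∘ₗ (SchFinLib.invSub σ).val.toLinearMap = LinearMap.id := LinearMap.ext fun a => Subtype.ext (by
    show a.1 - sA (d.rangeRestrict a.1) = a.1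
    rw [show d.rangeRestrict a.1 = 0 from Subtype.ext ((hker _).1 a.2), map_zero, sub_zero])
  haveI hfin : Module.Finite R (SchFinLib.invSub σ) := Module.Finite.of_surjective proj fun a =>
    ⟨a.1, LinearMap.congr_fun hproj a⟩
  haveI : Module.Projective R (SchFinLib.invSub σ) := Module.Projective.of_split _ proj hproj
  haveI : Module.FinitePresentation R (SchFinLib.invSub σ) := Module.finitePresentation_of_projective R _
  haveI : Algebra.FinitePresentation R (SchFinLib.invSub σ) := Algebra.FinitePresentation.of_finitePresentation R _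
  haveI : Algebra.FormallyUnramified R (SchFinLib.invSub σ) := by
    refine ⟨SchFinLib.subsingleton_of_local (R := R) (T := T) _ fun P _ => ?_⟩
    haveI := (hlocal P).1
    letI := Algebra.TensorProduct.rightAlgebra (R := R) (A := Localization.AtPrime P) (B := SchFinLib.invSub σ)
    exact (KaehlerDifferential.tensorKaehlerEquivBase R (Localization.AtPrime P) (SchFinLib.invSub σ)
      (Localization.AtPrime P ⊗[R] SchFinLib.invSub σ)).toEquiv.subsingleton
  exact ⟨hfin, Algebra.Etale.of_formallyUnramified_of_flat⟩

end Groth.Agent.FEtQuot.Endo
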