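import Groth.Agent.FEtQuot.EndoAlgebra
import Groth.Agent.RelSpecLib.Basic
import Mathlib.AlgebraicGeometry.Morphisms.Etale
import Mathlib.AlgebraicGeometry.Morphisms.Finite

/-!
# Quotient of a finite étale cover by a finite family of endomorphisms
-/

set_option autoImplicit false
set_option linter.style.haveILetI false
set_option backward.isDefEq.respectTransparency.types false
universe u

namespace Groth.Agent.FEtQuot.Endo

open CategoryTheory CategoryTheory.Limits AlgebraicGeometry TopologicalSpace Opposite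

variable {X Y : Scheme.{u}} (f : Y ⟶ X) {G : Type u} (σ : G → (Y ⟶ Y))
  (hσ : ∀ g, σ g ≫ f = f)

include hσ in
theorem preimage_le (g : G) (U : X.Opens) : f ⁻¹ᵁ U ≤ (σ g) ⁻¹ᵁ (f ⁻¹ᵁ U) := by
  rw [← Scheme.Hom.comp_preimage, hσ]

/-- The action on sections. -/
noncomputable def act (g : G) (U : X.Opens) : Γ(Y, f ⁻¹ᵁ U) ⟶ Γ(Y, f ⁻¹ᵁ U) :=
  (σ g).appLE _ _ (preimage_le f σ hσ g U)

theorem act_res (g : G) {U V : X.Opens} (i : V ≤ U) :
    act f σ hσ g U ≫ Y.presheaf.map (homOfLE (f.preimage_mono i)).op =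
      Y.presheaf.map (homOfLE (f.preimage_mono i)).op ≫ act f σ hσ g V := by
  simp only [act, Scheme.Hom.appLE_map, Scheme.Hom.map_appLE]

theorem app_act (g : G) (U : X.Opens) : f.app U ≫ act f σ hσ g U = f.app U := by
  simp only [act]
  rw [← Scheme.Hom.comp_appLE, Scheme.Hom.app_eq_appLE]
  congr 1
  exact hσ _

/-- The invariant sections. -/
noncomputable def invariants (U : X.Opens) : Subring Γ(Y, f ⁻¹ᵁ U) where
  carrier := {a | ∀ g, act f σ hσ g U a = a}
  mul_mem' {a b} ha hb g := by rw [map_mul, ha g, hb g]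
  one_mem' g := map_one _
  add_mem' {a b} ha hb g := by rw [map_add, ha g, hb g]
  zero_mem' g := map_zero _
  neg_mem' {a} ha g := by rw [map_neg, ha g]

theorem res_mem {U V : X.Opens} (i : V ≤ U) {a : Γ(Y, f ⁻¹ᵁ U)} (ha : a ∈ invariants f σ hσ U) :
    Y.presheaf.map (homOfLE (f.preimage_mono i)).op a ∈ invariants f σ hσ V := fun g => by
  rw [← CommRingCat.comp_apply, ← act_res f σ hσ g i, CommRingCat.comp_apply, ha g]

/-- The presheaf of invariant sections. -/
noncomputable def invPresheaf : TopCat.Presheaf CommRingCat.{u} X.carrier where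
  obj U := CommRingCat.of (invariants f σ hσ U.unop)
  map {U V} i := CommRingCat.ofHom
    ((((Y.presheaf.map (homOfLE (f.preimage_mono i.unop.le)).op).hom.comp (invariants f σ hσ U.unop).subtype)).codRestrict
      (invariants f σ hσ V.unop) fun a => res_mem f σ hσ i.unop.le a.2)
  map_id U := by
    ext a
    show Y.presheaf.map (homOfLE (f.preimage_mono (le_refl U.unop))).op a.1 = a.1
    simp
  map_comp {U V W} i j := by
    ext a
    show Y.presheaf.map (homOfLE (f.preimage_mono (i ≫ j).unop.le)).op a.1 =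
      Y.presheaf.map (homOfLE (f.preimage_mono j.unop.le)).op (Y.presheaf.map (homOfLE (f.preimage_mono i.unop.le)).op a.1)
    rw [← CommRingCat.comp_apply, ← Functor.map_comp]
    rfl

/-- The inclusion into the direct image. -/
noncomputable def invι : invPresheaf f σ hσ ⟶ f.base _* Y.presheaf where
  app U := CommRingCat.ofHom (invariants f σ hσ U.unop).subtype
  naturality U V i := rfl

theorem invι_injective (U : X.Opens) : Function.Injective ((invι f σ hσ).app (op U)) := Subtype.val_injective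

theorem isSheaf_invPresheaf : (invPresheaf f σ hσ).IsSheaf := by
  have hP : (f.base _* Y.presheaf).IsSheaf := TopCat.Sheaf.pushforward_sheaf_of_sheaf _ Y.sheaf.property
  rw [TopCat.Presheaf.isSheaf_iff_isSheafUniqueGluing] at hP ⊢
  intro ι U sf hsf
  have hn : ∀ {A B : X.Opens} (i : B ⟶ A) (a : (invPresheaf f σ hσ).obj (op A)),
      ((invPresheaf f σ hσ).map i.op a).1 = (f.base _* Y.presheaf).map i.op a.1 := fun i a =>
    ConcreteCategory.congr_hom ((invι f σ hσ).naturality i.op) a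
  have hc : TopCat.Presheaf.IsCompatible (f.base _* Y.presheaf) U fun i => (sf i).1 := fun i j =>
    (hn _ (sf i)).symm.trans ((congrArg Subtype.val (hsf i j)).trans (hn _ (sf j)))
  obtain ⟨s, hs, hu⟩ := hP U _ hc
  have hinv : s ∈ invariants f σ hσ (iSup U) := fun g => hu (act f σ hσ g (iSup U) s) fun i => by
    show Y.presheaf.map (homOfLE (f.preimage_mono (le_iSup U i))).op (act f σ hσ g (iSup U) s) = (sf i).1
    rw [← CommRingCat.comp_apply, act_res f σ hσ g (le_iSup U i), CommRingCat.comp_apply,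
      show Y.presheaf.map (homOfLE (f.preimage_mono (le_iSup U i))).op s = (sf i).1 from hs i]
    exact (sf i).2 g
  exact ⟨⟨s, hinv⟩, fun i => Subtype.ext ((hn _ _).trans (hs i)),
    fun t ht => Subtype.ext (hu t.1 fun i => (hn _ t).symm.trans (congrArg Subtype.val (ht i)))⟩

/-- The structure map. -/
noncomputable def invStr : X.presheaf ⟶ invPresheaf f σ hσ where
  app U := CommRingCat.ofHom ((f.app U.unop).hom.codRestrict (invariants f σ hσ U.unop)
    fun r g => by rw [← CommRingCat.comp_apply, app_act])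
  naturality U V i := by
    ext r
    apply Subtype.ext
    exact ConcreteCategory.congr_hom (f.c.naturality i) r

theorem invStr_invι : invStr f σ hσ ≫ invι f σ hσ = f.c := rfl

variable [Finite G] [IsAffineHom f]

theorem isQC_inv : RelSpec.IsQC (invPresheaf f σ hσ) (invStr f σ hσ) := by
  classical
  intro U hU r
  letI := ((invPresheaf f σ hσ).map (homOfLE (X.basicOpen_le r)).op).hom.toAlgebra
  letI iB := (Y.presheaf.map (homOfLE (f.preimage_mono (X.basicOpen_le r))).op).hom.toAlgebra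
  have hloc : IsLocalization.Away (f.app U r) Γ(Y, f ⁻¹ᵁ X.basicOpen r) := RelSpec.QCAlg.isQC_pushforward f U hU r
  let t : Γ(Y, f ⁻¹ᵁ U) := f.app U r
  have htinv : t ∈ invariants f σ hσ U := fun g => by rw [← CommRingCat.comp_apply, app_act]
  let res := Y.presheaf.map (homOfLE (f.preimage_mono (X.basicOpen_le r))).op
  have hres : ∀ (g : G) (a : Γ(Y, f ⁻¹ᵁ U)), act f σ hσ g (X.basicOpen r) (res a) = res (act f σ hσ g U a) :=
    fun g a => by rw [← CommRingCat.comp_apply, ← act_res f σ hσ g (X.basicOpen_le r), CommRingCat.comp_apply]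
  have htn : ∀ (k : ℕ) (g : G), act f σ hσ g U (t ^ k) = t ^ k := fun k g => by rw [map_pow, htinv g]
  refine ⟨?_, ?_, ?_⟩
  · rintro ⟨_, n, rfl⟩
    obtain ⟨v, hv⟩ := isUnit_iff_exists_inv.mp (IsLocalization.map_units Γ(Y, f ⁻¹ᵁ X.basicOpen r)
      (⟨t ^ n, n, rfl⟩ : Submonoid.powers t))
    have hv' : res (t ^ n) * v = 1 := hv
    refine isUnit_iff_exists_inv.mpr ⟨⟨v, fun g => ?_⟩, Subtype.ext hv'⟩
    have h1 := congrArg (act f σ hσ g (X.basicOpen r)) hv'
    rw [map_mul, map_one, hres, htn n g] at h1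
    calc act f σ hσ g (X.basicOpen r) v = (res (t ^ n) * v) * act f σ hσ g (X.basicOpen r) v := by rw [hv', one_mul]
      _ = v * (res (t ^ n) * act f σ hσ g (X.basicOpen r) v) := by ring
      _ = v := by rw [h1, mul_one]
  · intro x
    obtain ⟨⟨a, ⟨_, n, rfl⟩⟩, hx⟩ := IsLocalization.surj (Submonoid.powers t) x.1
    have hx' : x.1 * res (t ^ n) = res a := hx
    have hg : ∀ g : G, ∃ m : ℕ, t ^ m * act f σ hσ g U a = t ^ m * a := fun g => by
      obtain ⟨⟨_, m, rfl⟩, hm⟩ := IsLocalization.exists_of_eq (M := Submonoid.powers t) (x := act f σ hσ g U a) (y := a)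
        (show res (act f σ hσ g U a) = res a by
          rw [← hres, ← hx', map_mul, x.2 g, hres, htn n g])
      exact ⟨m, hm⟩
    choose m hm using hg
    letI := Fintype.ofFinite G
    let N := Finset.univ.sup m
    have hN : ∀ g, t ^ N * act f σ hσ g U a = t ^ N * a := fun g => by
      rw [show N = (N - m g) + m g from (Nat.sub_add_cancel (Finset.le_sup (f := m) (Finset.mem_univ g))).symm,
        pow_add, mul_assoc, hm g, ← mul_assoc]
    refine ⟨⟨⟨t ^ N * a, fun g => by rw [map_mul, htn N g, hN g]⟩,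
      ⟨(⟨t, htinv⟩ : invariants f σ hσ U) ^ (n + N), n + N, rfl⟩⟩, Subtype.ext ?_⟩
    show x.1 * res (t ^ (n + N)) = res (t ^ N * a)
    rw [pow_add, map_mul, map_mul, ← mul_assoc, hx', mul_comm]
  · intro a b hab
    have hab' : res a.1 = res b.1 := congrArg Subtype.val hab
    obtain ⟨⟨_, m, rfl⟩, hm⟩ := IsLocalization.exists_of_eq (M := Submonoid.powers t) hab'
    exact ⟨⟨(⟨t, htinv⟩ : invariants f σ hσ U) ^ m, m, rfl⟩, Subtype.ext hm⟩

/-- The quotient algebra. -/
@[reducible] noncomputable def invAlg : RelSpec.QCAlg X where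
  presheaf := invPresheaf f σ hσ
  isSheaf := isSheaf_invPresheaf f σ hσ
  str := invStr f σ hσ
  isQC := isQC_inv f σ hσ

/-- The quotient scheme. -/
noncomputable abbrev quot : Scheme.{u} := (invAlg f σ hσ).spec

/-- Its structure morphism. -/
noncomputable abbrev quotπ : quot f σ hσ ⟶ X := (invAlg f σ hσ).π

omit [Finite G] in
theorem range_fromSpec_preimage {U : X.Opens} (hU : IsAffineOpen U) :
    Set.range (hU.preimage f).fromSpec = f ⁻¹' (U : Set X) := (hU.preimage f).range_fromSpec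

theorem finite_etale_str [IsFinite f] [Etale f] {U : X.Opens} (hU : IsAffineOpen U) :
    ((invAlg f σ hσ).str.app (op U)).hom.Finite ∧ ((invAlg f σ hσ).str.app (op U)).hom.Etale := by
  letI := (f.app U).hom.toAlgebra
  haveI : Module.Finite Γ(X, U) Γ(Y, f ⁻¹ᵁ U) := IsFinite.finite_app f U hU
  haveI : Algebra.Etale Γ(X, U) Γ(Y, f ⁻¹ᵁ U) := RingHom.etale_algebraMap.mp (by
    have := f.etale_appLE hU (hU.preimage f) le_rfl
    rw [← Scheme.Hom.app_eq_appLE] at this
    exact this)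
  let φ : G → (Γ(Y, f ⁻¹ᵁ U) →ₐ[Γ(X, U)] Γ(Y, f ⁻¹ᵁ U)) := fun g =>
    ⟨(act f σ hσ g U).hom, fun r => ConcreteCategory.congr_hom (app_act f σ hσ g U) r⟩
  obtain ⟨h1, h2⟩ := finite_etale_invSub φ
  letI : Algebra Γ(X, U) ((invPresheaf f σ hσ).obj (op U)) := ((invStr f σ hσ).app (op U)).hom.toAlgebra
  let e : SchFinLib.invSub φ ≃ₐ[Γ(X, U)] (invPresheaf f σ hσ).obj (op U) :=
    AlgEquiv.ofBijective
      { toFun := fun a => ⟨a.1, fun g => a.2 g⟩
        map_one' := rfl
        map_mul' := fun _ _ => rfl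
        map_zero' := rfl
        map_add' := fun _ _ => rfl
        commutes' := fun _ => rfl }
      ⟨fun a b h => Subtype.ext (congrArg (fun z : invariants f σ hσ U => z.1) h), fun a => ⟨⟨a.1, fun g => a.2 g⟩, rfl⟩⟩
  constructor
  · exact RingHom.finite_algebraMap.mpr (Module.Finite.equiv e.toLinearEquiv)
  · exact RingHom.etale_algebraMap.mpr (Algebra.Etale.of_equiv e)

theorem restrict_iso_chart {A : RelSpec.QCAlg X} {U : X.Opens} (hU : IsAffineOpen U) :
    ∃ e : Spec (A.presheaf.obj (op U)) ≅ (A.π ⁻¹ᵁ U : A.spec.Opens).toScheme,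
      e.hom ≫ (A.π ∣_ U) ≫ U.ι = Spec.map (A.str.app (op U)) ≫ hU.fromSpec := by
  refine ⟨(A.ι U hU).isoOpensRange ≪≫ A.spec.isoOfEq (A.π_preimage U hU).symm, ?_⟩
  rw [morphismRestrict_ι, Iso.trans_hom, Category.assoc, Scheme.isoOfEq_hom_ι_assoc,
    Scheme.Hom.isoOpensRange_hom_ι_assoc, A.ι_π]

theorem prop_quotπ [IsFinite f] [Etale f] : IsFinite (quotπ f σ hσ) ∧ Etale (quotπ f σ hσ) := by
  have key : ∀ (P : MorphismProperty Scheme.{u}) [IsZariskiLocalAtTarget P] [P.RespectsIso],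
      (∀ U : X.affineOpens, P (Spec.map ((invAlg f σ hσ).str.app (op U.1)))) → P (quotπ f σ hσ) := by
    intro P _ _ h
    rw [IsZariskiLocalAtTarget.iff_of_iSup_eq_top (P := P) (fun U : X.affineOpens => U.1) (iSup_affineOpens_eq_top X)]
    intro U
    obtain ⟨e, he⟩ := restrict_iso_chart (A := invAlg f σ hσ) U.2
    have : e.hom ≫ (quotπ f σ hσ ∣_ U.1) = Spec.map ((invAlg f σ hσ).str.app (op U.1)) ≫ U.2.isoSpec.inv := by
      rw [← cancel_mono U.1.ι, Category.assoc, he, Category.assoc, U.2.isoSpec_inv_ι]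
    rw [← P.cancel_left_of_respectsIso e.hom, this, P.cancel_right_of_respectsIso]
    exact h U
  exact ⟨key @IsFinite fun U => (IsFinite.SpecMap_iff _).mpr (finite_etale_str f σ hσ U.2).1,
    key @Etale fun U => (HasRingHomProperty.Spec_iff (P := @Etale)).mpr (finite_etale_str f σ hσ U.2).2⟩

theorem exists_toQuot :
    ∃ p : Y ⟶ quot f σ hσ, p ≫ quotπ f σ hσ = f ∧
      ∀ (U : X.Opens) (hU : IsAffineOpen U),
        (hU.preimage f).fromSpec ≫ p = Spec.map ((invι f σ hσ).app (op U)) ≫ (invAlg f σ hσ).ι U hU := by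
  let B := RelSpec.QCAlg.directImage f
  let φ : invAlg f σ hσ ⟶ B := ⟨invι f σ hσ, invStr_invι f σ hσ⟩
  obtain ⟨e, he, -⟩ := RelSpecLib.existsUnique_glue B (fun U : X.affineOpens => U.1) (fun U => U.2)
    RelSpecLib.affineOpens_cover (fun U => (U.2.preimage f).fromSpec) (fun j k s hsj hsk => by
      obtain ⟨V, hV, hsV, hle⟩ := exists_isAffineOpen_mem_and_subset (x := s) (U := j.1 ⊓ k.1) ⟨hsj, hsk⟩
      refine ⟨V, hV, hsV, fun x hx => (hle hx).1, fun x hx => (hle hx).2, ?_⟩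
      show Spec.map (Y.presheaf.map _) ≫ _ = Spec.map (Y.presheaf.map _) ≫ _
      exact ((j.2.preimage f).map_fromSpec (hV.preimage f) _).trans ((k.2.preimage f).map_fromSpec (hV.preimage f) _).symm)
  have heπ : e ≫ f = B.π := by
    refine RelSpecLib.hom_ext_charts B (fun U : X.affineOpens => U.1) (fun U => U.2) RelSpecLib.affineOpens_cover fun U => ?_
    rw [reassoc_of% (he U), B.ι_π]
    show _ = Spec.map (f.app U.1) ≫ U.2.fromSpec
    rw [Scheme.Hom.app_eq_appLE, IsAffineOpen.SpecMap_appLE_fromSpec f U.2 (U.2.preimage f)]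
    rfl
  haveI : IsIso e := by
    show MorphismProperty.isomorphisms Scheme.{u} e
    rw [IsZariskiLocalAtTarget.iff_of_iSup_eq_top (P := MorphismProperty.isomorphisms Scheme.{u})
      (fun U : X.affineOpens => f ⁻¹ᵁ U.1) (by rw [← Scheme.Hom.preimage_iSup, iSup_affineOpens_eq_top]; rfl)]
    intro U
    show IsIso (e ∣_ (f ⁻¹ᵁ U.1))
    have hop : e ⁻¹ᵁ (f ⁻¹ᵁ U.1) = (B.ι U.1 U.2).opensRange := by
      rw [← Scheme.Hom.comp_preimage, heπ, B.π_preimage]
    have : ((B.ι U.1 U.2).isoOpensRange ≪≫ B.spec.isoOfEq hop.symm).hom ≫ (e ∣_ (f ⁻¹ᵁ U.1)) =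
        (U.2.preimage f).isoSpec.inv := by
      rw [← cancel_mono (f ⁻¹ᵁ U.1).ι, Category.assoc, morphismRestrict_ι, Iso.trans_hom, Category.assoc,
        Scheme.isoOfEq_hom_ι_assoc, Scheme.Hom.isoOpensRange_hom_ι_assoc, he]
      exact (IsAffineOpen.isoSpec_inv_ι _).symm
    exact @IsIso.of_isIso_fac_left _ _ _ _ _ _ _ _ inferInstance inferInstance this
  refine ⟨CategoryTheory.inv e ≫ RelSpec.QCAlg.specMap φ, ?_, fun U hU => ?_⟩
  · rw [Category.assoc, RelSpec.QCAlg.specMap_π, IsIso.inv_comp_eq, heπ]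
  · rw [show (hU.preimage f).fromSpec = B.ι U hU ≫ e from (he ⟨U, hU⟩).symm]
    erw [Category.assoc, IsIso.hom_inv_id_assoc]
    exact RelSpec.QCAlg.ι_specMap _ _ _

/-- The projection to the quotient. -/
noncomputable def toQuot : Y ⟶ quot f σ hσ := (exists_toQuot f σ hσ).choose

theorem toQuot_π : toQuot f σ hσ ≫ quotπ f σ hσ = f := (exists_toQuot f σ hσ).choose_spec.1

theorem fromSpec_toQuot (U : X.Opens) (hU : IsAffineOpen U) :
    (hU.preimage f).fromSpec ≫ toQuot f σ hσ = Spec.map ((invι f σ hσ).app (op U)) ≫ (invAlg f σ hσ).ι U hU :=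
  (exists_toQuot f σ hσ).choose_spec.2 U hU

theorem act_toQuot (g : G) : (σ g) ≫ toQuot f σ hσ = toQuot f σ hσ := by
  refine Scheme.hom_ext_of_forall _ _ fun y => ?_
  obtain ⟨U, hU, hy, -⟩ := exists_isAffineOpen_mem_and_subset (x := f y) (U := (⊤ : X.Opens)) trivial
  refine ⟨f ⁻¹ᵁ U, hy, ?_⟩
  rw [← cancel_epi (hU.preimage f).isoSpec.inv]
  rw [IsAffineOpen.isoSpec_inv_ι_assoc, IsAffineOpen.isoSpec_inv_ι_assoc, fromSpec_toQuot f σ hσ U hU]
  have h1 : Spec.map ((σ g).appLE _ _ (preimage_le f σ hσ g U)) ≫ (hU.preimage f).fromSpec =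
      (hU.preimage f).fromSpec ≫ (σ g) :=
    IsAffineOpen.SpecMap_appLE_fromSpec _ (hU.preimage f) (hU.preimage f) (preimage_le f σ hσ g U)
  rw [← reassoc_of% h1, fromSpec_toQuot f σ hσ U hU, ← Spec.map_comp_assoc]
  congr 2
  ext a
  exact a.2 g

theorem surjective_toQuot [IsFinite f] : Surjective (toQuot f σ hσ) := by
  refine ⟨fun q => ?_⟩
  obtain ⟨U, hU, hq, -⟩ := exists_isAffineOpen_mem_and_subset (x := quotπ f σ hσ q) (U := (⊤ : X.Opens)) trivial
  obtain ⟨q', rfl⟩ := RelSpecLib.exists_chart_eq (invAlg f σ hσ) hU q hq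
  have hint : ((invι f σ hσ).app (op U)).hom.IsIntegral := by
    refine RingHom.IsIntegral.tower_top ((invAlg f σ hσ).str.app (op U)).hom _ ?_
    rw [← CommRingCat.hom_comp]
    exact RingHom.IsIntegral.of_finite (IsFinite.finite_app f U hU)
  obtain ⟨z, hz⟩ := hint.comap_surjective (invι_injective f σ hσ U) q'
  refine ⟨(hU.preimage f).fromSpec z, ?_⟩
  rw [← Scheme.Hom.comp_apply, fromSpec_toQuot, Scheme.Hom.comp_apply]
  exact congrArg _ hz

theorem prop_toQuot [IsFinite f] [Etale f] : IsFinite (toQuot f σ hσ) ∧ Etale (toQuot f σ hσ) := by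
  obtain ⟨h1, h2⟩ := prop_quotπ f σ hσ
  haveI : IsFinite (toQuot f σ hσ ≫ quotπ f σ hσ) := by rw [toQuot_π]; infer_instance
  haveI : Etale (toQuot f σ hσ ≫ quotπ f σ hσ) := by rw [toQuot_π]; infer_instance
  exact ⟨IsFinite.of_comp _ (quotπ f σ hσ), Etale.of_comp _ (quotπ f σ hσ)⟩

/-- The universal property of the quotient among affine `X`-schemes. -/
theorem exists_desc {Z : Scheme.{u}} (h : Z ⟶ X) [IsAffineHom h] (a : Y ⟶ Z) (ha : a ≫ h = f)
    (hinv : ∀ g, (σ g) ≫ a = a) :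
    ∃ b : quot f σ hσ ⟶ Z, toQuot f σ hσ ≫ b = a ∧ b ≫ h = quotπ f σ hσ := by
  have hle : ∀ U : X.Opens, f ⁻¹ᵁ U ≤ a ⁻¹ᵁ (h ⁻¹ᵁ U) := fun U => by rw [← Scheme.Hom.comp_preimage, ha]
  have key : ∀ (p q : Y ⟶ Z) (U : X.Opens) (e : f ⁻¹ᵁ U ≤ p ⁻¹ᵁ (h ⁻¹ᵁ U)) (e' : f ⁻¹ᵁ U ≤ q ⁻¹ᵁ (h ⁻¹ᵁ U)),
      p = q → p.appLE _ _ e = q.appLE _ _ e' := by
    rintro p q U e e' rfl; rfl
  let ψ : ∀ U : X.Opens, Γ(Z, h ⁻¹ᵁ U) ⟶ (invPresheaf f σ hσ).obj (op U) := fun U =>
    CommRingCat.ofHom ((a.appLE _ _ (hle U)).hom.codRestrict (invariants f σ hσ U) fun z g => by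
      rw [← CommRingCat.comp_apply, act, Scheme.Hom.appLE_comp_appLE]
      rw [key _ a U _ (hle U) (hinv g)])
  have hψ : ∀ (U V : X.Opens) (i : V ≤ U),
      ψ U ≫ (invPresheaf f σ hσ).map (homOfLE i).op = Z.presheaf.map (homOfLE (h.preimage_mono i)).op ≫ ψ V := by
    intro U V i
    ext z
    apply Subtype.ext
    show (a.appLE _ _ (hle U) ≫ Y.presheaf.map (homOfLE (f.preimage_mono i)).op) z =
      (Z.presheaf.map (homOfLE (h.preimage_mono i)).op ≫ a.appLE _ _ (hle V)) z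
    rw [Scheme.Hom.appLE_map, Scheme.Hom.map_appLE]
  obtain ⟨b, hb, -⟩ := RelSpecLib.existsUnique_glue (invAlg f σ hσ) (fun U : X.affineOpens => U.1) (fun U => U.2)
    RelSpecLib.affineOpens_cover (fun U => Spec.map (ψ U.1) ≫ (U.2.preimage h).fromSpec) (fun j k s hsj hsk => by
      obtain ⟨V, hV, hsV, hV'⟩ := exists_isAffineOpen_mem_and_subset (x := s) (U := j.1 ⊓ k.1) ⟨hsj, hsk⟩
      have hj : V ≤ j.1 := fun x hx => (hV' hx).1
      have hk : V ≤ k.1 := fun x hx => (hV' hx).2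
      refine ⟨V, hV, hsV, hj, hk, ?_⟩
      show Spec.map ((invPresheaf f σ hσ).map _) ≫ _ = Spec.map ((invPresheaf f σ hσ).map _) ≫ _
      rw [← Spec.map_comp_assoc, ← Spec.map_comp_assoc, hψ _ _ hj, hψ _ _ hk, Spec.map_comp_assoc, Spec.map_comp_assoc,
        (j.2.preimage h).map_fromSpec (hV.preimage h), (k.2.preimage h).map_fromSpec (hV.preimage h)])
  refine ⟨b, ?_, ?_⟩
  · refine Scheme.hom_ext_of_forall _ _ fun y => ?_
    obtain ⟨U, hU, hy, -⟩ := exists_isAffineOpen_mem_and_subset (x := f y) (U := (⊤ : X.Opens)) trivial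
    refine ⟨f ⁻¹ᵁ U, hy, ?_⟩
    rw [← cancel_epi (hU.preimage f).isoSpec.inv]
    rw [IsAffineOpen.isoSpec_inv_ι_assoc, IsAffineOpen.isoSpec_inv_ι_assoc,
      reassoc_of% (fromSpec_toQuot f σ hσ U hU), hb ⟨U, hU⟩, ← Spec.map_comp_assoc,
      show ψ U ≫ (invι f σ hσ).app (op U) = a.appLE _ _ (hle U) from rfl,
      IsAffineOpen.SpecMap_appLE_fromSpec a (hU.preimage h) (hU.preimage f) (hle U)]
  · refine RelSpecLib.hom_ext_charts (invAlg f σ hσ) (fun U : X.affineOpens => U.1) (fun U => U.2)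
      RelSpecLib.affineOpens_cover fun U => ?_
    rw [reassoc_of% (hb U), RelSpec.QCAlg.ι_π]
    rw [← IsAffineOpen.SpecMap_appLE_fromSpec h U.2 (U.2.preimage h) le_rfl, ← Spec.map_comp_assoc]
    congr 2
    ext r
    apply Subtype.ext
    show (h.appLE _ _ le_rfl ≫ a.appLE _ _ (hle U.1)) r = f.app U.1 r
    rw [Scheme.Hom.appLE_comp_appLE, Scheme.Hom.app_eq_appLE]
    have : ∀ (p q : Y ⟶ X) (e : f ⁻¹ᵁ U.1 ≤ p ⁻¹ᵁ U.1) (e' : f ⁻¹ᵁ U.1 ≤ q ⁻¹ᵁ U.1), p = q →
        p.appLE _ _ e = q.appLE _ _ e' := by rintro p q e e' rfl; rfl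
    rw [this _ f _ le_rfl ha]

end Groth.Agent.FEtQuot.Endo
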