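import Groth.Agent.GaloisTraceLib.Inertia
import Mathlib.RingTheory.Unramified.Finite
import Mathlib.RingTheory.Etale.Locus
import Mathlib.RingTheory.Localization.BaseChange
import Mathlib.RingTheory.Adjoin.Tower

/-!
# An étale algebra is étale over its ring of invariants under a finite group
-/

set_option autoImplicit false
set_option linter.style.haveILetI false
universe u w

open TensorProduct

namespace Groth.Agent.FEtQuot

variable {R A B : Type u} [CommRing R] [CommRing A] [CommRing B] [Algebra R A] [Algebra R B]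
  [Algebra A B] [IsScalarTower R A B] {G : Type w} [Group G] [MulSemiringAction G B]
  [SMulCommClass G A B]

variable (A) in
include A in
/-- Over an unramified algebra, an element of inertia at `P` fixes an open neighbourhood of `P`. -/
theorem exists_notMem_mul_eq_zero [Algebra.FormallyUnramified R B] [Algebra.EssFiniteType R B]
    (P : Ideal B) [hP : P.IsPrime] (h : P.inertia G) :
    ∃ c : B, c ∉ P ∧ ∀ b : B, ((h : G) • b - b) * c = 0 := by
  let σ : B →ₐ[R] B :=
    { MulSemiringAction.toRingHom G B (h : G) with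
      commutes' := fun r => by
        show (h : G) • algebraMap R B r = algebraMap R B r
        rw [IsScalarTower.algebraMap_apply R A B, Algebra.algebraMap_eq_smul_one, smul_comm, smul_one] }
  have hσ : ∀ b, σ b = (h : G) • b := fun _ => rfl
  let μ : B ⊗[R] B →ₐ[R] B :=
    Algebra.TensorProduct.lift (AlgHom.id R B) σ fun _ _ => Commute.all _ _
  have hμ : ∀ x : B ⊗[R] B, μ x - Algebra.TensorProduct.lmul' R x ∈ P := fun x => by
    induction x using TensorProduct.induction_on with
    | zero => simp
    | add a b ha hb =>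
      rw [map_add, map_add, add_sub_add_comm]
      exact P.add_mem ha hb
    | tmul a b =>
      have hab : a * σ b - a * b ∈ P := by
        rw [← mul_sub, hσ]; exact P.mul_mem_left _ (h.2 b)
      simpa [μ] using hab
  refine ⟨μ (Algebra.FormallyUnramified.elem R B), fun hc => ?_, fun b => ?_⟩
  · have := P.sub_mem hc (hμ (Algebra.FormallyUnramified.elem R B))
    rw [sub_sub_cancel, Algebra.FormallyUnramified.lmul_elem] at this
    exact hP.ne_top ((Ideal.eq_top_iff_one P).2 this)
  · have := congrArg μ (Algebra.FormallyUnramified.one_tmul_sub_tmul_one_mul_elem (R := R) b)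
    rw [map_mul, map_zero] at this
    have h2 : μ ((1 : B) ⊗ₜ[R] b - b ⊗ₜ[R] (1 : B)) = (h : G) • b - b := by simp [μ, hσ]
    rwa [h2] at this

/-- If `B d ⊆ C` for a subalgebra `C` and `d ∉ P`, then `C` and `B` have the same local ring at `P`. -/
theorem isEtaleAt_of_mul_mem {A B : Type u} [CommRing A] [CommRing B] [Algebra A B] (C : Subalgebra A B)
    (P : Ideal B) [hP : P.IsPrime] (d : B) (hd : d ∉ P) (hC : ∀ b, b * d ∈ C)
    (h : Algebra.IsEtaleAt A (P.comap C.val)) : Algebra.IsEtaleAt A P := by
  let Bp := Localization.AtPrime P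
  have hmapC : ∀ x : C, algebraMap C Bp x = algebraMap B Bp x.1 := fun _ => rfl
  haveI : IsScalarTower A C Bp := inferInstance
  haveI : (P.comap C.val).IsPrime := P.comap_isPrime _
  haveI : IsLocalization.AtPrime Bp (P.comap C.val) := by
    refine ⟨fun s => ?_, fun z => ?_, fun {x y} h => ?_⟩
    · rw [hmapC]
      have hs : (s.1 : B) ∈ P.primeCompl := fun h => s.2 h
      exact IsLocalization.map_units Bp (⟨_, hs⟩ : P.primeCompl)
    · obtain ⟨⟨b, s⟩, hbs⟩ := IsLocalization.surj P.primeCompl z
      refine ⟨(⟨b * d, hC b⟩, ⟨⟨s.1 * d, hC s.1⟩, fun h => (hP.mem_or_mem h).elim s.2 hd⟩), ?_⟩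
      rw [hmapC, hmapC]
      simp only [map_mul]
      rw [← mul_assoc, hbs]
    · rw [hmapC, hmapC] at h
      obtain ⟨s, hs⟩ := IsLocalization.exists_of_eq (M := P.primeCompl) h
      refine ⟨⟨⟨s.1 * d, hC s.1⟩, fun h => (hP.mem_or_mem h).elim s.2 hd⟩, Subtype.ext ?_⟩
      show s.1 * d * x.1 = s.1 * d * y.1
      rw [mul_right_comm, hs, mul_right_comm]
  haveI : Algebra.FormallyEtale A (Localization.AtPrime (P.comap C.val)) := h
  exact Algebra.FormallyEtale.of_equiv
    ((IsLocalization.algEquiv (P.comap C.val).primeCompl (Localization.AtPrime (P.comap C.val)) Bp).restrictScalars A)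

theorem isEtaleAt_of_etale_away {A C : Type u} [CommRing A] [CommRing C] [Algebra A C] (c : C)
    (he : Algebra.Etale A (Localization.Away c)) (Q : Ideal C) [Q.IsPrime] (hc : c ∉ Q) :
    Algebra.IsEtaleAt A Q :=
  (Algebra.basicOpen_subset_etaleLocus_iff (R := A) (f := c)).2 he.formallyEtale
    (show (⟨Q, inferInstance⟩ : PrimeSpectrum C) ∈ PrimeSpectrum.basicOpen c from hc)

variable [Finite G] [Algebra.IsInvariant A B G] [FaithfulSMul A B]

variable (R G) in
include R G in
theorem isEtaleAt_of_etale [Algebra.FormallyUnramified R B] [Algebra.EssFiniteType R B]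
    (P : Ideal B) [hP : P.IsPrime] : Algebra.IsEtaleAt A P := by
  classical
  haveI := Fintype.ofFinite (P.inertia G)
  obtain ⟨c₀, hc₀, he⟩ := GaloisTraceLib.exists_etale_inertia A B G P
  choose c hcP hc using exists_notMem_mul_eq_zero (R := R) A (G := G) P
  have hinv : ∀ (σ : P.inertia G) (b : B), σ • b ∈ P ↔ b ∈ P := fun σ b => by
    have hσ : (σ : G) • b - b ∈ P := σ.2 b
    exact ⟨fun h => by simpa using P.sub_mem (show (σ : G) • b ∈ P from h) hσ,
      fun h => show (σ : G) • b ∈ P by simpa using P.add_mem hσ h⟩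
  let c' := ∏ h, c h
  let d := ∏ σ : P.inertia G, σ • c'
  have hdP : d ∉ P := fun h => by
    obtain ⟨σ, -, hσ⟩ := Ideal.IsPrime.prod_mem_iff.1 h
    rw [hinv] at hσ
    obtain ⟨τ, -, hτ⟩ := Ideal.IsPrime.prod_mem_iff.1 hσ
    exact hcP τ hτ
  have hd : ∀ (σ : P.inertia G) (b : B), ((σ : G) • b - b) * d = 0 := fun σ b => by
    have h1 : c σ ∣ d := (Finset.dvd_prod_of_mem c (Finset.mem_univ σ)).trans
      ((dvd_of_eq (one_smul _ c').symm).trans (Finset.dvd_prod_of_mem (fun σ : P.inertia G => σ • c') (Finset.mem_univ 1)))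
    obtain ⟨e, he⟩ := h1
    rw [he, ← mul_assoc, hc σ b, zero_mul]
  let C := FixedPoints.subalgebra A B (P.inertia G)
  have hdC : ∀ b : B, b * d ∈ C := fun b σ => by
    have hdσ : σ • d = d := by
      simp only [d, Finset.smul_prod', smul_smul]
      exact Fintype.prod_bijective _ (Group.mulLeft_bijective σ) _ _ fun _ => rfl
    rw [smul_mul', hdσ, ← sub_eq_zero, ← sub_mul]
    exact hd σ b
  haveI : (P.comap C.val).IsPrime := P.comap_isPrime _
  have hc : c₀ ∉ P.comap C.val := fun h => hc₀ h
  exact isEtaleAt_of_mul_mem C P d hdP hdC (isEtaleAt_of_etale_away c₀ he _ hc)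

variable (R G) in
include R G in
theorem etale_of_invariant [Algebra.Etale R B] [IsNoetherianRing R] : Algebra.Etale A B := by
  haveI : Algebra.FiniteType A B := Algebra.FiniteType.of_restrictScalars_finiteType R A B
  haveI := Algebra.IsInvariant.isIntegral A B G
  haveI : Module.Finite A B := Algebra.IsIntegral.finite
  haveI : IsNoetherianRing A := by
    haveI : Algebra.FiniteType R A := ⟨fg_of_fg_of_fg R A B Algebra.FiniteType.out Module.Finite.fg_top
      (FaithfulSMul.algebraMap_injective A B)⟩
    exact Algebra.FiniteType.isNoetherianRing R A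
  haveI : Algebra.FinitePresentation A B := Algebra.FinitePresentation.of_finiteType.1 inferInstance
  exact Algebra.etaleLocus_eq_univ_iff_etale.1 (Set.eq_univ_of_forall fun P =>
    isEtaleAt_of_etale R G P.asIdeal)

end Groth.Agent.FEtQuot
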