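import Groth.Agent.FEtQuot.EndoScheme
import Groth.Agent.FEtQuot.Galois
import Mathlib.CategoryTheory.Limits.Constructions.LimitsOfProductsAndEqualizers
import Mathlib.CategoryTheory.Limits.Shapes.Equalizers
import Mathlib.CategoryTheory.MorphismProperty.Limits

/-!
# Finite limits and colimits of finite étale covers
-/

set_option autoImplicit false
set_option linter.style.haveILetI false
set_option backward.isDefEq.respectTransparency.types false
set_option backward.isDefEq.respectTransparency false
universe u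

open CategoryTheory CategoryTheory.Limits AlgebraicGeometry

namespace Groth.Agent.FEtQuot

variable {X : Scheme.{u}} {Y Z : FEt.Cat X} (a b : Y ⟶ Z)

/-- The structure map of `Z ⨿ Y`. -/
noncomputable abbrev coqStr : (coprodObj Z Y).left ⟶ X := (coprodObj Z Y).hom

/-- The two collapsing endomorphisms of `Z ⨿ Y`. -/
noncomputable def coqEndo : ULift.{u} Bool → ((coprodObj Z Y).left ⟶ (coprodObj Z Y).left) :=
  fun s => coprod.desc coprod.inl ((bif s.down then a else b).left ≫ coprod.inl)

theorem coqEndo_w (s : ULift.{u} Bool) : coqEndo a b s ≫ coqStr = coqStr (Y := Y) (Z := Z) := by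
  show coprod.desc _ _ ≫ coprod.desc Z.hom Y.hom = coprod.desc Z.hom Y.hom
  refine coprod.hom_ext ?_ ?_
  · rw [coprod.inl_desc_assoc, coprod.inl_desc]
  · rw [coprod.inr_desc_assoc, Category.assoc, coprod.inl_desc, coprod.inr_desc]
    exact hom_w _

/-- The coequalizer object. -/
noncomputable abbrev coqObj : FEt.Cat X :=
  haveI := (Endo.prop_quotπ coqStr (coqEndo a b) (coqEndo_w a b)).1
  haveI := (Endo.prop_quotπ coqStr (coqEndo a b) (coqEndo_w a b)).2
  mk (Endo.quotπ coqStr (coqEndo a b) (coqEndo_w a b))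

/-- The projection to the coequalizer. -/
noncomputable def toCoq : Z ⟶ coqObj a b :=
  MorphismProperty.Over.homMk (coprod.inl ≫ Endo.toQuot coqStr (coqEndo a b) (coqEndo_w a b)) (by
    show (coprod.inl ≫ _) ≫ Endo.quotπ coqStr (coqEndo a b) (coqEndo_w a b) = Z.hom
    rw [Category.assoc, Endo.toQuot_π]
    exact coprod.inl_desc _ _)

theorem inr_toQuot (s : Bool) :
    (bif s then a else b).left ≫ coprod.inl ≫ Endo.toQuot coqStr (coqEndo a b) (coqEndo_w a b) =
      coprod.inr ≫ Endo.toQuot coqStr (coqEndo a b) (coqEndo_w a b) := by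
  conv_rhs => rw [← Endo.act_toQuot coqStr (coqEndo a b) (coqEndo_w a b) ⟨s⟩]
  simp only [coqEndo]
  rw [coprod.inr_desc_assoc, Category.assoc]

theorem toCoq_condition : a ≫ toCoq a b = b ≫ toCoq a b :=
  MorphismProperty.Over.Hom.ext ((inr_toQuot a b true).trans (inr_toQuot a b false).symm)

theorem nonempty_isColimit_toCoq :
    Nonempty (IsColimit (Cofork.ofπ (toCoq a b) (toCoq_condition a b))) := by
  let q := Endo.toQuot coqStr (coqEndo a b) (coqEndo_w a b)
  haveI := (Endo.prop_toQuot coqStr (coqEndo a b) (coqEndo_w a b)).2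
  haveI := Endo.surjective_toQuot coqStr (coqEndo a b) (coqEndo_w a b)
  haveI : Epi q := Flat.epi_of_flat_of_surjective q
  have hdesc : ∀ {T : FEt.Cat X} (k : Z ⟶ T), a ≫ k = b ≫ k →
      ∃ m, q ≫ m = coprod.desc k.left (a.left ≫ k.left) ∧ m ≫ T.hom = (coqObj a b).hom := fun {T} k hk => by
    refine Endo.exists_desc coqStr (coqEndo a b) (coqEndo_w a b) T.hom _ ?_ fun s => ?_
    · show coprod.desc _ _ ≫ T.hom = coprod.desc Z.hom Y.hom
      refine coprod.hom_ext ?_ ?_
      · rw [coprod.inl_desc_assoc, coprod.inl_desc]; exact hom_w k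
      · rw [coprod.inr_desc_assoc, Category.assoc, coprod.inr_desc, hom_w k]; exact hom_w a
    · simp only [coqEndo]
      refine coprod.hom_ext ?_ ?_
      · rw [coprod.inl_desc_assoc]
      · rw [coprod.inr_desc_assoc, Category.assoc, coprod.inl_desc, coprod.inr_desc]
        obtain ⟨_ | _⟩ := s
        · exact (congrArg (fun j : Y ⟶ T => j.left) hk).symm
        · rfl
  refine ⟨Cofork.IsColimit.mk _
    (fun c => MorphismProperty.Over.homMk (hdesc c.π c.condition).choose (hdesc c.π c.condition).choose_spec.2)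
    (fun c => MorphismProperty.Over.Hom.ext ?_) (fun c m hm => MorphismProperty.Over.Hom.ext ?_)⟩
  · show (coprod.inl ≫ q) ≫ (hdesc c.π c.condition).choose = c.π.left
    rw [Category.assoc, (hdesc c.π c.condition).choose_spec.1, coprod.inl_desc]
  · show m.left = (hdesc c.π c.condition).choose
    have h1 : coprod.inl ≫ q ≫ m.left = c.π.left :=
      (Category.assoc _ _ _).symm.trans (congrArg (fun j : Z ⟶ c.pt => j.left) hm)
    rw [← cancel_epi q, (hdesc c.π c.condition).choose_spec.1]
    refine coprod.hom_ext ?_ ?_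
    · rw [coprod.inl_desc]; exact h1
    · rw [coprod.inr_desc, ← h1]
      have h2 := inr_toQuot a b true
      exact (congrArg (· ≫ m.left) h2).symm.trans (by simp [q])

theorem hasCoequalizer : HasColimit (parallelPair a b) :=
  ⟨⟨⟨_, (nonempty_isColimit_toCoq a b).some⟩⟩⟩

/-- Finite étale covers have finite limits and finite colimits. -/
theorem hasFiniteLimits_colimits (X : Scheme.{u}) :
    HasFiniteLimits (FEt.Cat X) ∧ HasFiniteColimits (FEt.Cat X) := by
  refine ⟨inferInstance, ?_⟩
  haveI : ∀ {Y Z : FEt.Cat X} {a b : Y ⟶ Z}, HasColimit (parallelPair a b) := fun {Y Z a b} => hasCoequalizer a b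
  haveI : HasCoequalizers (FEt.Cat X) := hasCoequalizers_of_hasColimit_parallelPair _
  exact hasFiniteColimits_of_hasCoequalizers_and_finite_coproducts

end Groth.Agent.FEtQuot
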