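import Groth.Agent.FEtQuot.Connected
import Groth.Agent.FEtQuot.RestrictExact
import Groth.Agent.S0267
import Mathlib.AlgebraicGeometry.Morphisms.Proper

/-!
# Universally closed morphisms with connected geometric fibres
-/

set_option autoImplicit false
set_option linter.style.haveILetI false
set_option backward.isDefEq.respectTransparency.types false
set_option backward.isDefEq.respectTransparency false
universe u

open CategoryTheory CategoryTheory.Limits AlgebraicGeometry TopologicalSpace Opposite

namespace Groth.Agent.FEtQuot

/-- A closed morphism with connected geometric fibres and connected base has connected source. -/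
theorem connectedSpace_of_geomFibres {X S : Scheme.{u}} (f : X ⟶ S) [UniversallyClosed f] [ConnectedSpace S]
    (h : ∀ (Ω : Type u) [Field Ω] [IsAlgClosed Ω] (s : Spec (CommRingCat.of Ω) ⟶ S), ConnectedSpace ↥(pullback f s)) :
    ConnectedSpace X := by
  have hfib : ∀ t : S, _root_.IsConnected (f ⁻¹' {t}) := fun t => by
    obtain ⟨Ω, _, _, s, hs⟩ := exists_geometric_point t
    haveI := h Ω s
    have : Set.range (pullback.fst f s) = f ⁻¹' {t} := by
      rw [Scheme.Pullback.range_fst]
      congr 1
      refine Set.eq_singleton_iff_unique_mem.mpr ⟨⟨_, hs⟩, ?_⟩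
      rintro _ ⟨y, rfl⟩
      rw [← hs, Subsingleton.elim (α := PrimeSpectrum Ω) y (IsLocalRing.closedPoint Ω)]
    rw [← this]
    exact isConnected_range (pullback.fst f s).continuous
  have hsurj : Function.Surjective f := fun t => (hfib t).nonempty.imp fun x hx => hx
  have hq : Topology.IsQuotientMap f := f.isClosedMap.isQuotientMap f.continuous hsurj
  refine connectedSpace_iff_univ.mpr ?_
  obtain ⟨t⟩ := (inferInstance : Nonempty S)
  have := preimage_connectedComponent_connected (f := f) hfib hq.isCoinducing t
  rwa [PreconnectedSpace.connectedComponent_eq_univ, Set.preimage_univ] at this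

/-- Pullback along a universally closed morphism with connected geometric fibres is fully faithful. -/
theorem restrict_full_faithful_of_connectedFibres {X S : Scheme.{u}} (f : X ⟶ S) [UniversallyClosed f]
    [ConnectedSpace S]
    (h : ∀ (Ω : Type u) [Field Ω] [IsAlgClosed Ω] (s : Spec (CommRingCat.of Ω) ⟶ S), ConnectedSpace ↥(pullback f s)) :
    (FEt.restrict f).Full ∧ (FEt.restrict f).Faithful := by
  haveI := connectedSpace_of_geomFibres f h
  letI := preGaloisCategory S
  letI := preGaloisCategory X
  haveI := galoisCategory (X := S)
  haveI := galoisCategory (X := X)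
  haveI := (restrict_exact f).1
  haveI := (restrict_exact f).2
  refine (Groth.Agent.S0267.result (FEt.restrict f)).mpr fun W hW => ?_
  haveI := connectedSpace_of_isConnected W
  haveI : ConnectedSpace ((𝟭 Scheme.{u}).obj W.left) := ‹ConnectedSpace W.left›
  haveI : UniversallyClosed (pullback.fst W.hom f) := MorphismProperty.pullback_fst _ _ ‹UniversallyClosed f›
  haveI : ConnectedSpace ↥(pullback W.hom f) := connectedSpace_of_geomFibres (pullback.fst W.hom f) fun Ω _ _ s => by
    haveI := h Ω (s ≫ W.hom)
    let e := pullbackSymmetry (pullback.fst W.hom f) s ≪≫ pullbackRightPullbackFstIso W.hom f s ≪≫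
      (pullbackSymmetry f (s ≫ W.hom)).symm
    exact e.inv.surjective.connectedSpace e.inv.continuous
  haveI : ConnectedSpace ((FEt.restrict f).obj W).left := ‹ConnectedSpace ↥(pullback W.hom f)›
  exact isConnected_of_connectedSpace _

end Groth.Agent.FEtQuot
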